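import Cfsg.Agent.H34.Deg4

/-!
Character degrees of `SL₂(q)`, `q` odd: the packaged form.
-/

set_option autoImplicit false
set_option linter.unusedSectionVars false

namespace Cfsg.Agent.H34.Deg

open Cfsg Cfsg.Agent.CharBase Cfsg.Agent.H39 Matrix
open scoped ComplexConjugate

variable {F : Type*} [Field F] [Fintype F] [DecidableEq F]

theorem ringChar_ne_two_of_odd (hodd : Odd (Fintype.card F)) : ringChar F ≠ 2 := by
  intro h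
  have := (FiniteField.even_card_iff_char_two (F := F)).1 h
  rw [Nat.odd_iff] at hodd
  omega

/-- The odd data. -/
structure OddData (F : Type*) [Field F] [Fintype F] [DecidableEq F] (k : ℕ) where
  hk : Fintype.card F = 2 * k + 1
  ψ : AddChar F ℂ
  ν : F
  hψ : ψ.IsPrimitive
  hν : ¬ IsSquare ν
  a : IrrCharacter (SpecialLinearGroup (Fin 2) F) → ℕ
  b : IrrCharacter (SpecialLinearGroup (Fin 2) F) → ℕ
  c : IrrCharacter (SpecialLinearGroup (Fin 2) F) → ℕ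
  hu : ∀ χ : IrrCharacter (SpecialLinearGroup (Fin 2) F),
        UData ψ ν (χ : SpecialLinearGroup (Fin 2) F → ℂ) (a χ) (b χ) (c χ)
  hsix : ∀ χ : IrrCharacter (SpecialLinearGroup (Fin 2) F), ((χ : SpecialLinearGroup (Fin 2) F → ℂ) = (fun _ => 1) ∧ a χ = 1 ∧ b χ = 0 ∧ c χ = 0) ∨
       ((χ : SpecialLinearGroup (Fin 2) F → ℂ) = pSL 1 - (fun _ => (1 : ℂ)) ∧ a χ = 1 ∧ b χ = 1 ∧ c χ = 1) ∨
       (a χ = 2 ∧ b χ = 1 ∧ c χ = 1) ∨ (a χ = 1 ∧ b χ + c χ = 1) ∨ (a χ = 0 ∧ b χ = 1 ∧ c χ = 1) ∨ (a χ = 0 ∧ b χ + c χ = 1)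
  n1 : Nat.card {χ : IrrCharacter (SpecialLinearGroup (Fin 2) F) // a χ = 1 ∧ b χ + c χ = 0} = 1
  n2 : Nat.card {χ : IrrCharacter (SpecialLinearGroup (Fin 2) F) // a χ = 1 ∧ b χ + c χ = 2} = 1
  n3 : Nat.card {χ : IrrCharacter (SpecialLinearGroup (Fin 2) F) // a χ = 2} + 1 = k
  n4 : Nat.card {χ : IrrCharacter (SpecialLinearGroup (Fin 2) F) // a χ = 1 ∧ b χ + c χ = 1} = 2
  n5 : Nat.card {χ : IrrCharacter (SpecialLinearGroup (Fin 2) F) // a χ = 0 ∧ b χ + c χ = 2} = k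
  n6 : Nat.card {χ : IrrCharacter (SpecialLinearGroup (Fin 2) F) // a χ = 0 ∧ b χ + c χ = 1} = 2

theorem exists_oddData (F : Type*) [Field F] [Fintype F] [DecidableEq F] (hodd : Odd (Fintype.card F)) :
    ∃ k, Nonempty (OddData F k) := by
  have hF := ringChar_ne_two_of_odd hodd
  obtain ⟨ψ, hψ⟩ := exists_primitive F
  obtain ⟨ν, hν⟩ := FiniteField.exists_nonsquare hF
  obtain ⟨k, hk⟩ := hodd
  obtain ⟨a, b, c, hu, hsix, n1, n2, n3, n4, n5, n6⟩ := count_odd hF hψ hν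
  exact ⟨k, ⟨⟨hk, ψ, ν, hψ, hν, a, b, c, hu, hsix, n1, n2, by omega, n4, by omega, n6⟩⟩⟩

variable {k : ℕ}

theorem OddData.deg (D : OddData F k) (χ : IrrCharacter (SpecialLinearGroup (Fin 2) F)) :
    (χ : SpecialLinearGroup (Fin 2) F → ℂ) 1 = ((D.a χ + (D.b χ + D.c χ) * k : ℕ) : ℂ) := by
  have h1 := (D.hu χ).deg
  rw [D.hk] at h1
  push_cast at h1 ⊢
  linear_combination h1 / 2

theorem OddData.deg_eq_iff (D : OddData F k) (χ : IrrCharacter (SpecialLinearGroup (Fin 2) F)) (n : ℕ) :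
    (χ : SpecialLinearGroup (Fin 2) F → ℂ) 1 = (n : ℂ) ↔ D.a χ + (D.b χ + D.c χ) * k = n := by
  rw [D.deg]
  exact Nat.cast_inj

/-- the possible values of `(a, b + c)` -/
theorem OddData.six (D : OddData F k) (χ : IrrCharacter (SpecialLinearGroup (Fin 2) F)) :
    (D.a χ = 1 ∧ D.b χ + D.c χ = 0) ∨ (D.a χ = 1 ∧ D.b χ + D.c χ = 2) ∨ (D.a χ = 2 ∧ D.b χ + D.c χ = 2) ∨
      (D.a χ = 1 ∧ D.b χ + D.c χ = 1) ∨ (D.a χ = 0 ∧ D.b χ + D.c χ = 2) ∨ (D.a χ = 0 ∧ D.b χ + D.c χ = 1) := by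
  rcases D.hsix χ with h | h | h | h | h | h <;> omega

theorem OddData.k_pos (D : OddData F k) : 0 < k := by
  have := Fintype.one_lt_card (α := F)
  rw [D.hk] at this
  omega

/-- by degree, `q ≥ 5` -/
theorem OddData.by_deg (D : OddData F k) (h2 : 2 ≤ k) (χ : IrrCharacter (SpecialLinearGroup (Fin 2) F)) :
    (D.a χ + (D.b χ + D.c χ) * k = 1 ↔ D.a χ = 1 ∧ D.b χ + D.c χ = 0) ∧
    (D.a χ + (D.b χ + D.c χ) * k = 2 * k + 1 ↔ D.a χ = 1 ∧ D.b χ + D.c χ = 2) ∧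
    (D.a χ + (D.b χ + D.c χ) * k = 2 * k + 2 ↔ D.a χ = 2) ∧
    (D.a χ + (D.b χ + D.c χ) * k = k + 1 ↔ D.a χ = 1 ∧ D.b χ + D.c χ = 1) ∧
    (D.a χ + (D.b χ + D.c χ) * k = 2 * k ↔ D.a χ = 0 ∧ D.b χ + D.c χ = 2) ∧
    (D.a χ + (D.b χ + D.c χ) * k = k ↔ D.a χ = 0 ∧ D.b χ + D.c χ = 1) := by
  rcases D.six χ with ⟨h, h'⟩ | ⟨h, h'⟩ | ⟨h, h'⟩ | ⟨h, h'⟩ | ⟨h, h'⟩ | ⟨h, h'⟩ <;> rw [h, h'] <;>
    refine ⟨?_, ?_, ?_, ?_, ?_, ?_⟩ <;> omega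

/-- the sum over the unipotent subgroup -/
theorem sum_unip (χ : SpecialLinearGroup (Fin 2) F → ℂ) :
    (∑ g : SpecialLinearGroup (Fin 2) F, if (g : Matrix (Fin 2) (Fin 2) F) 1 0 = 0 ∧ (g : Matrix (Fin 2) (Fin 2) F) 0 0 = 1 ∧
      (g : Matrix (Fin 2) (Fin 2) F) 1 1 = 1 then χ g else 0) = ∑ x : F, χ (uSL x) := by
  classical
  rw [← Finset.sum_filter]
  symm
  refine Finset.sum_nbij' (fun x => uSL x) (fun g => (g : Matrix (Fin 2) (Fin 2) F) 0 1) ?_ ?_ ?_ ?_ ?_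
  · intro x _
    rw [Finset.mem_filter]
    exact ⟨Finset.mem_univ _, rfl, rfl, rfl⟩
  · intro g _
    simp
  · intro x _
    simp [uSL]
  · intro g hg
    simp only [Finset.mem_filter, Finset.mem_univ, true_and] at hg
    obtain ⟨h1, h2, h3⟩ := hg
    ext i j
    fin_cases i <;> fin_cases j <;> simp [uSL, h1, h2, h3]
  · intro x _
    rfl

end Cfsg.Agent.H34.Deg
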