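import Cfsg.Agent.H34.PDeg

/-!
Character degrees of `PSL₂(q)`: the degree sets.
-/

set_option autoImplicit false
set_option linter.unusedSectionVars false

namespace Cfsg.Agent.H34.Deg

open Cfsg Cfsg.Agent.Char Cfsg.Agent.CharBase Cfsg.Agent.H39 Matrix
open scoped ComplexConjugate

universe u v

variable {F : Type*} [Field F] [Fintype F] [DecidableEq F]

/-- the data needed for the degree graphs -/
theorem graph_data_odd {k : ℕ} (D : OddData F k) (h3 : 3 ≤ k) :
    (∀ χ : IrrCharacter (SpecialLinearGroup (Fin 2) F), charDegree (χ : SpecialLinearGroup (Fin 2) F → ℂ) = 1 ∨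
      charDegree (χ : SpecialLinearGroup (Fin 2) F → ℂ) = Fintype.card F ∨ charDegree (χ : SpecialLinearGroup (Fin 2) F → ℂ) ∣ Fintype.card F + 1 ∨
      charDegree (χ : SpecialLinearGroup (Fin 2) F → ℂ) ∣ Fintype.card F - 1) ∧
    (∀ d, d = Fintype.card F ∨ d = Fintype.card F + 1 ∨ d = Fintype.card F - 1 →
      ∃ χ : IrrCharacter (SpecialLinearGroup (Fin 2) F), (∀ n ∈ Subgroup.center (SpecialLinearGroup (Fin 2) F), (χ : SpecialLinearGroup (Fin 2) F → ℂ) n = (χ : SpecialLinearGroup (Fin 2) F → ℂ) 1) ∧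
      charDegree (χ : SpecialLinearGroup (Fin 2) F → ℂ) = d) := by
  constructor
  · intro χ
    rw [charDegree_of_eq (D.deg χ), D.hk, Nat.add_sub_cancel]
    rcases D.six χ with ⟨h7, h8⟩ | ⟨h7, h8⟩ | ⟨h7, h8⟩ | ⟨h7, h8⟩ | ⟨h7, h8⟩ | ⟨h7, h8⟩ <;> rw [h7, h8]
    · left; ring
    · right; left; ring
    · right; right; left; exact ⟨1, by ring⟩
    · right; right; left; exact ⟨2, by ring⟩
    · right; right; right; exact ⟨1, by ring⟩
    · right; right; right; exact ⟨2, by ring⟩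
  · rintro d (rfl | rfl | rfl)
    · refine ⟨⟨_, isIrr_stSL⟩, ?_, ?_⟩
      · rw [ker_center_iff]
        exact D.st_even _ ((D.deg_eq_card_iff _).2 rfl)
      · apply charDegree_of_eq
        exact (D.deg_eq_card_iff _).2 rfl
    · obtain ⟨χ, h1, h2⟩ := exists_even_principal (F := F) (by rw [D.hk]; omega)
      exact ⟨χ, (ker_center_iff χ).2 h1, charDegree_of_eq h2⟩
    · obtain ⟨χ, h1, h2⟩ := D.exists_even_cuspidal h3
      exact ⟨χ, (ker_center_iff χ).2 h1, charDegree_of_eq h2⟩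

theorem graph_data_even (h2 : (2 : F) = 0) (h4 : 4 ≤ Fintype.card F) :
    (∀ χ : IrrCharacter (SpecialLinearGroup (Fin 2) F), charDegree (χ : SpecialLinearGroup (Fin 2) F → ℂ) = 1 ∨
      charDegree (χ : SpecialLinearGroup (Fin 2) F → ℂ) = Fintype.card F ∨ charDegree (χ : SpecialLinearGroup (Fin 2) F → ℂ) ∣ Fintype.card F + 1 ∨
      charDegree (χ : SpecialLinearGroup (Fin 2) F → ℂ) ∣ Fintype.card F - 1) ∧
    (∀ d, d = Fintype.card F ∨ d = Fintype.card F + 1 ∨ d = Fintype.card F - 1 →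
      ∃ χ : IrrCharacter (SpecialLinearGroup (Fin 2) F), (∀ n ∈ Subgroup.center (SpecialLinearGroup (Fin 2) F), (χ : SpecialLinearGroup (Fin 2) F → ℂ) n = (χ : SpecialLinearGroup (Fin 2) F → ℂ) 1) ∧
      charDegree (χ : SpecialLinearGroup (Fin 2) F → ℂ) = d) := by
  have hneg : (-1 : SpecialLinearGroup (Fin 2) F) = 1 := by
    apply Subtype.ext
    show -(1 : Matrix (Fin 2) (Fin 2) F) = 1
    have h : (1 : F) = -1 := by linear_combination h2
    ext i j
    fin_cases i <;> fin_cases j <;> simp [← h]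
  have hker : ∀ χ : IrrCharacter (SpecialLinearGroup (Fin 2) F), ∀ n ∈ Subgroup.center (SpecialLinearGroup (Fin 2) F),
      (χ : SpecialLinearGroup (Fin 2) F → ℂ) n = (χ : SpecialLinearGroup (Fin 2) F → ℂ) 1 := by
    intro χ
    rw [ker_center_iff, hneg]
  obtain ⟨k1, k2, k3⟩ := deg_sl_even (F := F) h2
  obtain ⟨k4, k5, k6⟩ := k3 (by omega)
  have hc1 : (Fintype.card F : ℂ) + 1 = ((Fintype.card F + 1 : ℕ) : ℂ) := by push_cast; rfl
  have hc2 : (Fintype.card F : ℂ) - 1 = ((Fintype.card F - 1 : ℕ) : ℂ) := by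
    rw [Nat.cast_sub (by omega)]; push_cast; rfl
  constructor
  · intro χ
    rcases k1 χ with h | h | ⟨h, -⟩ | ⟨h, -⟩
    · left
      apply charDegree_of_eq
      rw [h]; norm_num
    · right; left
      apply charDegree_of_eq
      rw [h, Pi.sub_apply, pSL_one]; ring
    · right; right; left
      rw [hc1] at h
      rw [charDegree_of_eq h]
    · right; right; right
      rw [hc2] at h
      rw [charDegree_of_eq h]
  · rintro d (rfl | rfl | rfl)
    · refine ⟨⟨_, isIrr_stSL⟩, hker _, ?_⟩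
      apply charDegree_of_eq
      show (pSL 1 - (fun _ => (1 : ℂ)) : SpecialLinearGroup (Fin 2) F → ℂ) 1 = _
      rw [Pi.sub_apply, pSL_one]; ring
    · have h5 : Nonempty {χ : IrrCharacter (SpecialLinearGroup (Fin 2) F) // (χ : SpecialLinearGroup (Fin 2) F → ℂ) 1 = (Fintype.card F : ℂ) + 1} := by
        by_contra hcon
        rw [not_nonempty_iff] at hcon
        rw [Nat.card_of_isEmpty] at k2
        omega
      obtain ⟨χ, h6⟩ := h5
      rw [hc1] at h6
      exact ⟨χ, hker χ, charDegree_of_eq h6⟩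
    · have h5 : Nonempty {χ : IrrCharacter (SpecialLinearGroup (Fin 2) F) // (χ : SpecialLinearGroup (Fin 2) F → ℂ) 1 = (Fintype.card F : ℂ) - 1} := by
        by_contra hcon
        rw [not_nonempty_iff] at hcon
        rw [Nat.card_of_isEmpty] at k6
        omega
      obtain ⟨χ, h6⟩ := h5
      rw [hc2] at h6
      exact ⟨χ, hker χ, charDegree_of_eq h6⟩

theorem graph_data_group {S : Type u} [Group S]
    (hS : Nonempty (S ≃* Matrix.ProjectiveSpecialLinearGroup (Fin 2) F) ∨ Nonempty (S ≃* Matrix.SpecialLinearGroup (Fin 2) F))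
    (h : (∀ χ : IrrCharacter (SpecialLinearGroup (Fin 2) F), charDegree (χ : SpecialLinearGroup (Fin 2) F → ℂ) = 1 ∨
      charDegree (χ : SpecialLinearGroup (Fin 2) F → ℂ) = Fintype.card F ∨ charDegree (χ : SpecialLinearGroup (Fin 2) F → ℂ) ∣ Fintype.card F + 1 ∨
      charDegree (χ : SpecialLinearGroup (Fin 2) F → ℂ) ∣ Fintype.card F - 1) ∧
    (∀ d, d = Fintype.card F ∨ d = Fintype.card F + 1 ∨ d = Fintype.card F - 1 →
      ∃ χ : IrrCharacter (SpecialLinearGroup (Fin 2) F), (∀ n ∈ Subgroup.center (SpecialLinearGroup (Fin 2) F), (χ : SpecialLinearGroup (Fin 2) F → ℂ) n = (χ : SpecialLinearGroup (Fin 2) F → ℂ) 1) ∧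
      charDegree (χ : SpecialLinearGroup (Fin 2) F → ℂ) = d)) :
    (∀ d ∈ charDegrees S, d = 1 ∨ d = Fintype.card F ∨ d ∣ Fintype.card F + 1 ∨ d ∣ Fintype.card F - 1) ∧
    (∀ d, d = Fintype.card F ∨ d = Fintype.card F + 1 ∨ d = Fintype.card F - 1 → d ∈ charDegrees S) := by
  rcases hS with ⟨⟨e⟩⟩ | ⟨⟨e⟩⟩
  · rw [charDegrees_equiv e]
    constructor
    · intro d hd
      rw [mem_charDegrees_quot] at hd
      obtain ⟨χ, -, rfl⟩ := hd
      exact h.1 χ
    · intro d hd
      rw [mem_charDegrees_quot]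
      exact h.2 d hd
  · rw [charDegrees_equiv e]
    constructor
    · rintro d ⟨χ, rfl⟩
      exact h.1 χ
    · intro d hd
      obtain ⟨χ, -, h1⟩ := h.2 d hd
      exact ⟨χ, h1⟩

/-- the unique irreducible character of `PSL₂(q)` of degree divisible by `p` -/
theorem unique_dvd (p : ℕ) [Fact p.Prime] [CharP F p]
    (h1 : ∀ χ : IrrCharacter (SpecialLinearGroup (Fin 2) F), p ∣ charDegree (χ : SpecialLinearGroup (Fin 2) F → ℂ) →
      (χ : SpecialLinearGroup (Fin 2) F → ℂ) = pSL 1 - (fun _ => (1 : ℂ)))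
    (h2 : ∀ n ∈ Subgroup.center (SpecialLinearGroup (Fin 2) F), (pSL 1 - (fun _ => (1 : ℂ)) : SpecialLinearGroup (Fin 2) F → ℂ) n =
      (pSL 1 - (fun _ => (1 : ℂ)) : SpecialLinearGroup (Fin 2) F → ℂ) 1) :
    Nat.card {χ : IrrCharacter (Matrix.ProjectiveSpecialLinearGroup (Fin 2) F) // p ∣ charDegree (χ : Matrix.ProjectiveSpecialLinearGroup (Fin 2) F → ℂ)} = 1 ∧
      ∀ χ : IrrCharacter (Matrix.ProjectiveSpecialLinearGroup (Fin 2) F), p ∣ charDegree (χ : Matrix.ProjectiveSpecialLinearGroup (Fin 2) F → ℂ) →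
        charDegree (χ : Matrix.ProjectiveSpecialLinearGroup (Fin 2) F → ℂ) = Fintype.card F := by
  have hst : charDegree (pSL 1 - (fun _ => (1 : ℂ)) : SpecialLinearGroup (Fin 2) F → ℂ) = Fintype.card F := by
    apply charDegree_of_eq
    rw [Pi.sub_apply, pSL_one]; ring
  let E := H75.inflateEquiv (Subgroup.center (SpecialLinearGroup (Fin 2) F))
  have hE : ∀ χ : IrrCharacter (Matrix.ProjectiveSpecialLinearGroup (Fin 2) F),
      charDegree ((E χ).1 : SpecialLinearGroup (Fin 2) F → ℂ) = charDegree (χ : Matrix.ProjectiveSpecialLinearGroup (Fin 2) F → ℂ) := fun χ => rfl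
  have hE' : ∀ χ : IrrCharacter (Matrix.ProjectiveSpecialLinearGroup (Fin 2) F), p ∣ charDegree (χ : Matrix.ProjectiveSpecialLinearGroup (Fin 2) F → ℂ) →
      ((E χ).1 : SpecialLinearGroup (Fin 2) F → ℂ) = pSL 1 - (fun _ => (1 : ℂ)) := by
    intro χ h
    apply h1
    rw [hE]
    exact h
  constructor
  · rw [Nat.card_eq_one_iff_exists]
    refine ⟨⟨E.symm ⟨⟨_, isIrr_stSL⟩, h2⟩, ?_⟩, ?_⟩
    · rw [← hE, Equiv.apply_symm_apply]
      show p ∣ charDegree (pSL 1 - (fun _ => (1 : ℂ)) : SpecialLinearGroup (Fin 2) F → ℂ)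
      rw [hst]
      exact p_dvd_card p
    · rintro ⟨χ, hχ⟩
      apply Subtype.ext
      show χ = E.symm _
      rw [Equiv.eq_symm_apply]
      apply Subtype.ext
      apply Subtype.ext
      exact hE' χ hχ
  · intro χ hχ
    rw [← hE, hE' χ hχ, hst]

end Cfsg.Agent.H34.Deg
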