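import Mathlib
import Cfsg.Agent.SigO.Fin
import Cfsg.Agent.StrEmb.Basic

/-!
# S3930, piece CS2
-/

set_option autoImplicit false
set_option linter.unusedSectionVars false

namespace Cfsg.Agent.H34.Pyr

universe u

variable {X : Type u} [Group X] [Finite X]

/-- the subgroup generated by the odd order elements of `C(v)` -/
def th (v : X) : Subgroup X := Subgroup.closure {x | x * v = v * x ∧ Odd (orderOf x)}

theorem th_conj (g v x : X) (hx : x ∈ th v) : g * x * g⁻¹ ∈ th (g * v * g⁻¹) := by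
  have h1 : th v ≤ (th (g * v * g⁻¹)).comap (MulAut.conj g).toMonoidHom := by
    rw [th, Subgroup.closure_le]
    rintro x ⟨hx1, hx2⟩
    apply Subgroup.subset_closure
    refine ⟨?_, ?_⟩
    · show g * x * g⁻¹ * (g * v * g⁻¹) = g * v * g⁻¹ * (g * x * g⁻¹)
      calc g * x * g⁻¹ * (g * v * g⁻¹) = g * (x * v) * g⁻¹ := by group
        _ = g * (v * x) * g⁻¹ := by rw [hx1]
        _ = _ := by group
    · show Odd (orderOf (g * x * g⁻¹))
      rwa [Cfsg.Agent.StrEmb.orderOf_conj]
  exact h1 hx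

theorem comm_of_sq {V : Subgroup X} (hV : ∀ x ∈ V, x * x = 1) {x y : X} (hx : x ∈ V) (hy : y ∈ V) : x * y = y * x := by
  have h1 := hV _ (V.mul_mem hx hy)
  have h2 := hV x hx
  have h3 := hV y hy
  calc x * y = x * ((x * y) * (x * y)) * y := by rw [h1, mul_one]
    _ = (x * x) * (y * x) * (y * y) := by group
    _ = y * x := by rw [h2, h3, one_mul, mul_one]

/-- centralizers of involutions of `V` have normal 2-complements -/
theorem facts (V : Sylow 2 X) (hV : ∀ x ∈ V, x * x = 1)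
    (hf : ∀ x ∈ Subgroup.normalizer ((V : Subgroup X) : Set X), Odd (orderOf x) → ∀ v ∈ V, v ≠ 1 → x * v = v * x →
      ∀ w ∈ V, x * w = w * x) {v : X} (hv : v ∈ V) (hv1 : v ≠ 1) :
    (∀ x ∈ th v, x * v = v * x) ∧ Odd (Nat.card (th v)) ∧ Subgroup.centralizer ({v} : Set X) ≤ th v ⊔ V := by
  classical
  have hp2 : Fact (Nat.Prime 2) := ⟨Nat.prime_two⟩
  set C : Subgroup X := Subgroup.centralizer ({v} : Set X) with hC
  have hmC : ∀ g : X, g ∈ C ↔ g * v = v * g := fun g => by
    rw [hC, Subgroup.mem_centralizer_singleton_iff]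
  have hVC : (V : Subgroup X) ≤ C := fun w hw => (hmC w).2 (comm_of_sq hV hw hv)
  let V' : Sylow 2 C := V.subtype hVC
  have hmV' : ∀ w : C, w ∈ V' ↔ (w : X) ∈ V := fun w => Iff.rfl
  have hP : Subgroup.normalizer ((V' : Subgroup C) : Set C) ≤ Subgroup.centralizer ((V' : Subgroup C) : Set C) := by
    intro x hx
    have hxN : (x : X) ∈ Subgroup.normalizer ((V : Subgroup X) : Set X) := by
      rw [Subgroup.mem_normalizer_iff]
      intro w
      constructor
      · intro hw
        exact (Subgroup.mem_normalizer_iff.1 hx ⟨w, hVC hw⟩).1 hw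
      · intro hw
        have h1 : w ∈ C := by
          have h2 := C.mul_mem (C.mul_mem (C.inv_mem x.2) (hVC hw)) x.2
          have h3 : (x : X)⁻¹ * ((x : X) * w * (x : X)⁻¹) * x = w := by group
          rwa [h3] at h2
        exact (Subgroup.mem_normalizer_iff.1 hx ⟨w, h1⟩).2 hw
    -- `x ^ j ∈ V` for an odd `j`
    obtain ⟨j, hj, hxj⟩ : ∃ j : ℕ, Odd j ∧ (x : X) ^ j ∈ V := by
      set N := Subgroup.normalizer ((V : Subgroup X) : Set X) with hN
      have hVN : (V : Subgroup X) ≤ N := Subgroup.le_normalizer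
      refine ⟨((V : Subgroup X).subgroupOf N).index, ?_, ?_⟩
      · have h1 : ¬ 2 ∣ (V : Subgroup X).index := V.not_dvd_index
        have h2 : ((V : Subgroup X).subgroupOf N).index ∣ (V : Subgroup X).index :=
          ⟨N.index, (Subgroup.relIndex_mul_index hVN).symm⟩
        rw [← Nat.not_even_iff_odd, even_iff_two_dvd]
        exact fun h3 => h1 (h3.trans h2)
      · have : ((V : Subgroup X).subgroupOf N).Normal := Subgroup.normal_in_normalizer
        have h3 := Subgroup.pow_index_mem ((V : Subgroup X).subgroupOf N) (⟨(x : X), hxN⟩ : N)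
        exact h3
    obtain ⟨i, hi⟩ := hj
    set w := (x : X) ^ j with hw
    have hww : w * w = 1 := hV w hxj
    have hx2odd : Odd (orderOf ((x : X) * x)) := by
      have h1 : ((x : X) * x) ^ j = 1 := by
        rw [← sq, ← pow_mul, mul_comm, pow_mul, ← hw, sq, hww]
      exact Odd.of_dvd_nat ⟨i, hi⟩ (orderOf_dvd_of_pow_eq_one h1)
    have hx2 : ∀ y ∈ V, ((x : X) * x) * y = y * ((x : X) * x) :=
      hf _ (Subgroup.mul_mem _ hxN hxN) hx2odd v hv hv1 ((hmC _).1 (C.mul_mem x.2 x.2))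
    rw [Subgroup.mem_centralizer_iff]
    intro y hy
    apply Subtype.ext
    show (y : X) * x = x * y
    have hyV : (y : X) ∈ V := hy
    have hcw : Commute w (y : X) := comm_of_sq hV hxj hyV
    have hc2 : Commute ((x : X) * x) (y : X) := hx2 y hyV
    have hxe : (x : X) = w * (((x : X) * x) ^ i)⁻¹ := by
      rw [eq_mul_inv_iff_mul_eq, hw, hi, pow_succ', ← sq, ← pow_mul]
    have h5 : Commute (x : X) (y : X) := by
      rw [hxe]
      exact hcw.mul_left (hc2.pow_left i).inv_left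
    exact h5.symm
  have hc := MonoidHom.ker_transferSylow_isComplement' V' hP
  set K := (MonoidHom.transferSylow V' hP).ker with hK
  have hKodd : Odd (Nat.card K) := by
    have h6 := hc.card_mul
    have h7 : ¬ 2 ∣ (V' : Subgroup C).index := V'.not_dvd_index
    rw [← Nat.not_even_iff_odd, even_iff_two_dvd]
    intro h8
    apply h7
    have h9 := (V' : Subgroup C).index_mul_card
    rw [← h6] at h9
    rw [Nat.eq_of_mul_eq_mul_right Nat.card_pos h9]
    exact h8
  have hKmem : ∀ x : C, Odd (orderOf x) → x ∈ K := by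
    intro x hx
    rw [hK, MonoidHom.mem_ker]
    have h1 : orderOf (MonoidHom.transferSylow V' hP x) ∣ orderOf x := orderOf_map_dvd _ _
    obtain ⟨k, hk⟩ := V'.isPGroup' (MonoidHom.transferSylow V' hP x)
    have h2 : orderOf (MonoidHom.transferSylow V' hP x) ∣ 2 ^ k := orderOf_dvd_of_pow_eq_one hk
    have h3 : Nat.Coprime (orderOf x) (2 ^ k) := (Nat.Coprime.pow_right k (Nat.coprime_two_right.2 hx))
    have h4 : orderOf (MonoidHom.transferSylow V' hP x) = 1 := Nat.dvd_one.1 (by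
      rw [← h3]; exact Nat.dvd_gcd h1 h2)
    exact orderOf_eq_one_iff.1 h4
  have hth : th v = K.map C.subtype := by
    apply le_antisymm
    · rw [th, Subgroup.closure_le]
      rintro x ⟨hx1, hx2⟩
      refine ⟨⟨x, (hmC x).2 hx1⟩, hKmem _ ?_, rfl⟩
      rwa [Subgroup.orderOf_mk]
    · rintro _ ⟨x, hx, rfl⟩
      apply Subgroup.subset_closure
      refine ⟨(hmC _).1 x.2, ?_⟩
      show Odd (orderOf (x : X))
      rw [Subgroup.orderOf_coe]
      exact Odd.of_dvd_nat hKodd (K.orderOf_dvd_natCard hx)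
  refine ⟨?_, ?_, ?_⟩
  · intro x hx
    rw [hth] at hx
    obtain ⟨y, -, rfl⟩ := hx
    exact (hmC _).1 y.2
  · rw [hth, Nat.card_congr (K.equivMapOfInjective C.subtype C.subtype_injective).toEquiv.symm]
    exact hKodd
  · intro x hx
    have h1 : (⟨x, hx⟩ : C) ∈ K ⊔ V' := by
      rw [hc.sup_eq_top]; trivial
    have h2 : x ∈ (K ⊔ V').map C.subtype := ⟨⟨x, hx⟩, h1, rfl⟩
    rw [Subgroup.map_sup, ← hth] at h2
    have h3 : th v ⊔ ((V' : Subgroup C).map C.subtype) ≤ th v ⊔ (V : Subgroup X) := by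
      refine sup_le_sup le_rfl ?_
      rintro _ ⟨y, hy, rfl⟩
      exact hy
    exact h3 h2

/-- a subgroup containing `N(V)` and the centralizers is everything, if the involutions of `V` are not all conjugate -/
theorem se (V : Sylow 2 X) (hV : ∀ x ∈ V, x * x = 1) (M : Subgroup X)
    (hN : Subgroup.normalizer ((V : Subgroup X) : Set X) ≤ M)
    (hC : ∀ v ∈ V, v ≠ 1 → Subgroup.centralizer ({v} : Set X) ≤ M)
    (hn : ∃ v ∈ V, ∃ w ∈ V, v ≠ 1 ∧ w ≠ 1 ∧ ¬ IsConj v w) : M = ⊤ := by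
  classical
  have hp2 : Fact (Nat.Prime 2) := ⟨Nat.prime_two⟩
  by_contra hM
  obtain ⟨v, hv, w, hw, hv1, hw1, hvw⟩ := hn
  have hord : ∀ x ∈ V, x ≠ 1 → orderOf x = 2 := fun x hx hx1 =>
    orderOf_eq_prime (by rw [sq]; exact hV x hx) hx1
  have hVM : (V : Subgroup X) ≤ M := Subgroup.le_normalizer.trans hN
  have hinv : ∀ i ∈ M, orderOf i = 2 → ∃ m ∈ M, m * i * m⁻¹ ∈ V := by
    intro i hi hi2
    let V' : Sylow 2 M := V.subtype hVM
    have hpz : IsPGroup 2 (Subgroup.zpowers (⟨i, hi⟩ : M)) := by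
      apply IsPGroup.of_card (n := 1)
      rw [Nat.card_zpowers, pow_one, Subgroup.orderOf_mk, hi2]
    obtain ⟨T, hT⟩ := hpz.exists_le_sylow
    obtain ⟨m, hm⟩ := MulAction.exists_smul_eq M T V'
    refine ⟨m, m.2, ?_⟩
    have h1 : m * ⟨i, hi⟩ * m⁻¹ ∈ V' := by
      rw [← hm]
      exact ⟨⟨i, hi⟩, hT (Subgroup.mem_zpowers _), rfl⟩
    exact h1
  have hse : Cfsg.IsStronglyEmbedded M := by
    refine ⟨hM, ?_, ?_⟩
    · rw [even_iff_two_dvd, ← hord v hv hv1]
      exact M.orderOf_dvd_natCard (hVM hv)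
    · intro g hg
      rw [← Nat.not_even_iff_odd, even_iff_two_dvd]
      intro h2
      obtain ⟨i, hi⟩ := exists_prime_orderOf_dvd_card' 2 h2
      obtain ⟨hiM, hiMg⟩ := Subgroup.mem_inf.1 i.2
      have hi2 : orderOf (i : X) = 2 := by rw [Subgroup.orderOf_coe]; exact hi
      obtain ⟨y, hyM, hy⟩ := hiMg
      have hy' : g * y * g⁻¹ = (i : X) := hy
      have hy2 : orderOf y = 2 := by
        rw [← hi2, ← hy', Cfsg.Agent.StrEmb.orderOf_conj]
      obtain ⟨m, hm, hmi⟩ := hinv i hiM hi2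
      obtain ⟨m', hm', hmy⟩ := hinv y hyM hy2
      set v1 := m * (i : X) * m⁻¹ with hv1'
      set v2 := m' * y * m'⁻¹ with hv2'
      set h := m' * g⁻¹ * m⁻¹ with hh
      have hv12 : h * v1 * h⁻¹ = v2 := by
        rw [hh, hv1', ← hy', hv2']; group
      have hv2ne : v2 ≠ 1 := by
        intro h1
        have h3 : orderOf v2 = 2 := by rw [hv2', Cfsg.Agent.StrEmb.orderOf_conj, hy2]
        rw [h1, orderOf_one] at h3
        omega
      have hcen : ∀ z ∈ V, z ∈ Subgroup.centralizer ((V : Subgroup X) : Set X) := by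
        intro z hz
        rw [Subgroup.mem_centralizer_iff]
        intro y hy
        exact comm_of_sq hV hy hz
      obtain ⟨n, hnN, hn⟩ := V.conj_eq_normalizer_conj_of_mem_centralizer v2 h (hcen v2 hmy) (by
        have : h⁻¹ * v2 * h = v1 := by rw [← hv12]; group
        rw [this]; exact hcen v1 hmi)
      have hnM : n ∈ M := hN hnN
      have h3 : h * n⁻¹ ∈ M := by
        apply hC v2 hmy hv2ne
        rw [Subgroup.mem_centralizer_singleton_iff]
        calc h * n⁻¹ * v2 = h * (n⁻¹ * v2 * n) * n⁻¹ := by group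
          _ = h * (h⁻¹ * v2 * h) * n⁻¹ := by rw [hn]
          _ = v2 * (h * n⁻¹) := by group
      have h4 : h ∈ M := by
        have := M.mul_mem h3 hnM
        rwa [inv_mul_cancel_right] at this
      apply hg
      have h5 : g = m⁻¹ * h⁻¹ * m' := by rw [hh]; group
      rw [h5]
      exact M.mul_mem (M.mul_mem (M.inv_mem hm) (M.inv_mem h4)) hm'
  exact hvw (Cfsg.Agent.StrEmb.isConj hse (hord v hv hv1) (hord w hw hw1))

theorem cs2 {X : Type u} [Group X] [Finite X] (V : Sylow 2 X) (hV : ∀ x ∈ V, x * x = 1) (h8 : 8 ≤ Nat.card V)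
    (hO : ∀ N : Subgroup X, N.Normal → Odd (Nat.card N) → N = ⊥)
    (hf : ∀ x ∈ Subgroup.normalizer ((V : Subgroup X) : Set X), Odd (orderOf x) → ∀ v ∈ V, v ≠ 1 → x * v = v * x →
      ∀ w ∈ V, x * w = w * x)
    (hn : ∃ v ∈ V, ∃ w ∈ V, v ≠ 1 ∧ w ≠ 1 ∧ ¬ IsConj v w) : (V : Subgroup X).Normal := by
  classical
  have hp2 : Fact (Nat.Prime 2) := ⟨Nat.prime_two⟩
  have hF := fun {v : X} (hv : v ∈ V) (hv1 : v ≠ 1) => facts V hV hf hv hv1
  have hodd : ∀ v ∈ V, v ≠ 1 → ∀ x ∈ th v, Odd (orderOf x) := fun v hv hv1 x hx =>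
    Odd.of_dvd_nat (hF hv hv1).2.1 ((th v).orderOf_dvd_natCard hx)
  have hmem : ∀ v x : X, x * v = v * x → Odd (orderOf x) → x ∈ th v := fun v x h1 h2 =>
    Subgroup.subset_closure ⟨h1, h2⟩
  have hEl : Cfsg.IsElementaryAbelian 2 (V : Subgroup X) :=
    ⟨⟨⟨fun a b => Subtype.ext (comm_of_sq hV a.2 b.2)⟩⟩, fun a ha => by rw [sq]; exact hV a ha⟩
  obtain ⟨-, X0, -, hX0, hX0θ⟩ := Cfsg.Agent.SigO.isComplete_of_odd (r := 2) (A := (V : Subgroup X)) (θ := th) hEl
    (by norm_num; exact h8)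
    ⟨fun a ha ha1 x hx => by
        rw [Subgroup.mem_centralizer_singleton_iff]; exact (hF ha ha1).1 x hx,
      fun a ha ha1 h => (Nat.not_even_iff_odd.2 (hF ha ha1).2.1) (even_iff_two_dvd.2 h),
      fun a ha ha1 b hb x hx => by
        have h1 := th_conj b a x hx
        rwa [show b * a * b⁻¹ = a by rw [comm_of_sq hV hb ha]; group] at h1,
      fun a ha ha1 b hb hb1 x hx => by
        obtain ⟨h1, h2⟩ := Subgroup.mem_inf.1 hx
        rw [Subgroup.mem_centralizer_singleton_iff] at h2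
        exact hmem b x h2 (hodd a ha ha1 x h1)⟩
    (fun a ha ha1 => (hF ha ha1).2.1)
  set W : Subgroup X := ⨆ a : {a : X // a ∈ V ∧ a ≠ 1}, th (a : X) with hW
  have hleW : ∀ a ∈ V, a ≠ 1 → th a ≤ W := fun a ha ha1 =>
    le_iSup (fun a : {a : X // a ∈ V ∧ a ≠ 1} => th (a : X)) ⟨a, ha, ha1⟩
  have hWX0 : W ≤ X0 := iSup_le fun a => by
    rw [← hX0θ a a.2.1 a.2.2]; exact inf_le_left
  have hWodd : Odd (Nat.card W) := by
    rw [← Nat.not_even_iff_odd, even_iff_two_dvd]
    exact fun h => hX0 (h.trans (Subgroup.card_dvd_of_le hWX0))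
  have hNW : Subgroup.normalizer ((V : Subgroup X) : Set X) ≤ Subgroup.normalizer (W : Set X) := by
    have key : ∀ g ∈ Subgroup.normalizer ((V : Subgroup X) : Set X), ∀ x ∈ W, g * x * g⁻¹ ∈ W := by
      intro g hg
      have h1 : W ≤ W.comap (MulAut.conj g).toMonoidHom := by
        refine iSup_le fun a x hx => ?_
        have h2 := th_conj g a x hx
        refine hleW (g * a * g⁻¹) ((Subgroup.mem_normalizer_iff.1 hg a).1 a.2.1) ?_ h2
        intro h3
        apply a.2.2
        calc (a : X) = g⁻¹ * (g * a * g⁻¹) * g := by group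
          _ = 1 := by rw [h3]; group
      exact fun x hx => h1 hx
    intro g hg
    rw [Subgroup.mem_normalizer_iff]
    intro x
    constructor
    · exact key g hg x
    · intro hx
      have h1 := key g⁻¹ (Subgroup.inv_mem _ hg) _ hx
      have h2 : g⁻¹ * (g * x * g⁻¹) * g⁻¹⁻¹ = x := by group
      rwa [h2] at h1
  have hCW : ∀ v ∈ V, v ≠ 1 → Subgroup.centralizer ({v} : Set X) ≤ Subgroup.normalizer (W : Set X) := by
    intro v hv hv1
    refine (hF hv hv1).2.2.trans (sup_le ?_ ?_)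
    · exact (hleW v hv hv1).trans Subgroup.le_normalizer
    · exact Subgroup.le_normalizer.trans hNW
  have hW1 : W = ⊥ := hO W (Subgroup.normalizer_eq_top_iff.1 (se V hV _ hNW hCW hn)) hWodd
  have hN : Subgroup.normalizer ((V : Subgroup X) : Set X) = ⊤ := by
    refine se V hV _ le_rfl ?_ hn
    intro v hv hv1
    refine (hF hv hv1).2.2.trans (sup_le ?_ Subgroup.le_normalizer)
    have h1 := hleW v hv hv1
    rw [hW1] at h1
    exact h1.trans bot_le
  exact Subgroup.normalizer_eq_top_iff.1 hN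

end Cfsg.Agent.H34.Pyr
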