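import Cfsg.Agent.H34.Deg5
import Cfsg.Agent.H76.Congr
import Cfsg.Agent.Blk.Osima
import Cfsg.Agent.BlkC.DefectOrder

/-!
The `p`-blocks of `SL₂(q)` in the defining characteristic.
-/

set_option autoImplicit false
set_option linter.unusedSectionVars false

namespace Cfsg.Agent.H34.Deg

open Cfsg Cfsg.Agent.Char Cfsg.Agent.CharBase Cfsg.Agent.H39 Cfsg.Agent.Blk Matrix
open scoped ComplexConjugate

section general

variable {G : Type*} [Group G] [Finite G]

/-- central elements act by scalars -/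
theorem central_mul_irr {χ : G → ℂ} (hχ : IsIrrCharacter G χ) {z : G} (hz : ∀ g, z * g = g * z) (v : G) :
    χ (z * v) * χ 1 = χ z * χ v := by
  classical
  haveI := Fintype.ofFinite G
  have hG := cardG_ne_zero_complex G
  have h1 : χ 1 ≠ 0 := irr_one_ne_zero hχ
  have hcl := isClassFunction_of_isCharacter (isCharacter_of_isIrr hχ)
  have h2 := sum_conj_mul hχ z v
  have h3 : ∀ x : G, χ (z * (x * v * x⁻¹)) = χ (z * v) := by
    intro x
    have h4 : z * (x * v * x⁻¹) = x * (z * v) * x⁻¹ := by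
      rw [← mul_assoc, ← mul_assoc, hz x, mul_assoc x z v]
    rw [h4]
    exact hcl _ _
  rw [Finset.sum_congr rfl (fun x _ => h3 x), Finset.sum_const, Finset.card_univ, nsmul_eq_mul,
    ← Nat.card_eq_fintype_card, eq_div_iff h1] at h2
  have h5 : (Nat.card G : ℂ) * (χ (z * v) * χ 1) = (Nat.card G : ℂ) * (χ z * χ v) := by
    linear_combination h2
  exact mul_left_cancel₀ hG h5

/-- a central involution takes the values `± χ 1` -/
theorem central_invol_irr {χ : G → ℂ} (hχ : IsIrrCharacter G χ) {z : G} (hz : ∀ g, z * g = g * z) (hz2 : z * z = 1) :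
    χ z = χ 1 ∨ χ z = -χ 1 := by
  have h := central_mul_irr hχ hz z
  rw [hz2] at h
  exact mul_self_eq_mul_self_iff.mp h.symm

end general

variable {F : Type*} [Field F] [Fintype F] [DecidableEq F]

theorem neg_one_comm (g : SpecialLinearGroup (Fin 2) F) : (-1) * g = g * (-1) := by
  rw [neg_one_mul, mul_neg_one]

theorem neg_mul_irr {χ : SpecialLinearGroup (Fin 2) F → ℂ} (hχ : IsIrrCharacter _ χ) (g : SpecialLinearGroup (Fin 2) F) :
    χ (-g) * χ 1 = χ (-1) * χ g := by
  rw [← central_mul_irr hχ neg_one_comm, neg_one_mul]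

theorem neg_one_cases {χ : SpecialLinearGroup (Fin 2) F → ℂ} (hχ : IsIrrCharacter _ χ) : χ (-1) = χ 1 ∨ χ (-1) = -χ 1 :=
  central_invol_irr hχ neg_one_comm (by rw [neg_one_mul, neg_neg])

/-- the unipotent subgroup as a homomorphism -/
def uHom (F : Type*) [Field F] : Multiplicative F →* SpecialLinearGroup (Fin 2) F where
  toFun x := uSL x.toAdd
  map_one' := (frameSL F).u_zero
  map_mul' x y := (frameSL F).u_add _ _

theorem uHom_injective : Function.Injective (uHom F) := by
  intro x y h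
  have h1 := congrFun (congrFun (congrArg (fun g : SpecialLinearGroup (Fin 2) F => (g : Matrix (Fin 2) (Fin 2) F)) h) 0) 1
  exact h1

theorem card_uHom_range : Nat.card (uHom F).range = Fintype.card F := by
  rw [← Nat.card_congr (MonoidHom.ofInjective uHom_injective).toEquiv, ← Nat.card_eq_fintype_card]
  rfl

section prime
variable (p : ℕ) [hp : Fact p.Prime] [CharP F p]

theorem exists_card_pow : ∃ n : ℕ, 0 < n ∧ Fintype.card F = p ^ n := by
  obtain ⟨n, -, h⟩ := FiniteField.card F p
  exact ⟨n, n.pos, h⟩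

theorem p_dvd_card : p ∣ Fintype.card F := by
  obtain ⟨n, hn, h⟩ := exists_card_pow (F := F) p
  rw [h]
  exact dvd_pow_self p hn.ne'

theorem not_dvd_card_add_one : ¬ p ∣ Fintype.card F + 1 := by
  intro h
  have h1 := (Nat.dvd_add_right (p_dvd_card (F := F) p)).1 h
  exact hp.out.one_lt.ne' (Nat.dvd_one.1 h1)

theorem not_dvd_card_sub_one : ¬ p ∣ Fintype.card F - 1 := by
  intro h
  have h1 := (Nat.dvd_sub (p_dvd_card (F := F) p) h)
  have h2 : Fintype.card F - (Fintype.card F - 1) = 1 := by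
    have := Fintype.card_pos (α := F)
    omega
  rw [h2] at h1
  exact hp.out.one_lt.ne' (Nat.dvd_one.1 h1)

theorem factorization_card_SL {n : ℕ} (hn : Fintype.card F = p ^ n) :
    (Nat.card (SpecialLinearGroup (Fin 2) F)).factorization p = n := by
  have hq : 1 < Fintype.card F := Fintype.one_lt_card
  rw [card_SL, ← mul_assoc, Nat.factorization_mul (Nat.mul_ne_zero (by omega) (by omega)) (by omega),
    Nat.factorization_mul (by omega) (by omega), Finsupp.add_apply, Finsupp.add_apply,
    Nat.factorization_eq_zero_of_not_dvd (not_dvd_card_add_one p), Nat.factorization_eq_zero_of_not_dvd (not_dvd_card_sub_one p),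
    hn, hp.out.factorization_pow, Finsupp.single_eq_same]
  simp

/-- the unipotent Sylow subgroup -/
noncomputable def uSyl : Sylow p (SpecialLinearGroup (Fin 2) F) :=
  Sylow.ofCard (uHom F).range (by
    obtain ⟨n, -, h⟩ := exists_card_pow (F := F) p
    rw [card_uHom_range, factorization_card_SL p h, h])

theorem uSL_mem_uSyl (x : F) : uSL x ∈ (uSyl p : Sylow p (SpecialLinearGroup (Fin 2) F)) := by
  show uSL x ∈ (uHom F).range
  exact ⟨Multiplicative.ofAdd x, rfl⟩

theorem uSL_pElement (x : F) : ∃ k : ℕ, orderOf (uSL x : SpecialLinearGroup (Fin 2) F) = p ^ k := by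
  have h := (uSyl p : Sylow p (SpecialLinearGroup (Fin 2) F)).2
  rw [IsPGroup.iff_orderOf] at h
  obtain ⟨k, hk⟩ := h ⟨uSL x, uSL_mem_uSyl p x⟩
  exact ⟨k, by rw [← hk]; exact (Subgroup.orderOf_mk _ _).symm⟩

/-- an element whose centralizer contains a Sylow `p`-subgroup -/
theorem exists_isConj_of_not_dvd {g : SpecialLinearGroup (Fin 2) F} (hg : ¬ p ∣ (Subgroup.centralizer ({g} : Set (SpecialLinearGroup (Fin 2) F))).index) :
    ∃ x : F, IsConj g (uSL x) ∨ IsConj g (-uSL x) := by
  obtain ⟨P, hP⟩ : ∃ P : Sylow p (SpecialLinearGroup (Fin 2) F), (P : Subgroup _) ≤ Subgroup.centralizer ({g} : Set (SpecialLinearGroup (Fin 2) F)) := by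
    have Q : Sylow p (Subgroup.centralizer ({g} : Set (SpecialLinearGroup (Fin 2) F))) := default
    have hcard : Nat.card ((Q : Subgroup (Subgroup.centralizer ({g} : Set (SpecialLinearGroup (Fin 2) F)))).map (Subgroup.centralizer ({g} : Set (SpecialLinearGroup (Fin 2) F))).subtype) =
        p ^ (Nat.card (SpecialLinearGroup (Fin 2) F)).factorization p := by
      rw [Nat.card_congr ((Q : Subgroup (Subgroup.centralizer ({g} : Set (SpecialLinearGroup (Fin 2) F)))).equivMapOfInjective _ (Subgroup.subtype_injective _)).toEquiv.symm, Q.card_eq_multiplicity]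
      congr 1
      rw [← (Subgroup.centralizer ({g} : Set (SpecialLinearGroup (Fin 2) F))).card_mul_index,
        Nat.factorization_mul Nat.card_pos.ne' Subgroup.index_ne_zero_of_finite, Finsupp.add_apply,
        Nat.factorization_eq_zero_of_not_dvd hg, add_zero]
    refine ⟨Sylow.ofCard _ hcard, ?_⟩
    show (Q : Subgroup (Subgroup.centralizer ({g} : Set (SpecialLinearGroup (Fin 2) F)))).map _ ≤ _
    exact Subgroup.map_subtype_le _
  obtain ⟨t, ht⟩ := MulAction.exists_smul_eq (SpecialLinearGroup (Fin 2) F) P (uSyl p)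
  have h1 : ∀ y : F, t * g * t⁻¹ * uSL y = uSL y * (t * g * t⁻¹) := by
    intro y
    have h2 : uSL y ∈ t • P := by rw [ht]; exact uSL_mem_uSyl p y
    rw [← SetLike.mem_coe, Sylow.coe_smul, Set.mem_smul_set] at h2
    obtain ⟨z, hz, hzy⟩ := h2
    have h3 := Subgroup.mem_centralizer_singleton_iff.1 (hP hz)
    have h4 : uSL y = t * z * t⁻¹ := by
      rw [← hzy, MulAut.smul_def, MulAut.conj_apply]
    rw [h4]
    have h5 : t * g * t⁻¹ * (t * z * t⁻¹) = t * (g * z) * t⁻¹ := by group
    have h6 : t * z * t⁻¹ * (t * g * t⁻¹) = t * (z * g) * t⁻¹ := by group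
    rw [h5, h6, h3]
  set h := t * g * t⁻¹ with hh
  have hconj : IsConj g h := isConj_iff.2 ⟨t, rfl⟩
  have h3 : h ∈ Subgroup.centralizer ({uSL 1} : Set (SpecialLinearGroup (Fin 2) F)) :=
    Subgroup.mem_centralizer_singleton_iff.2 (h1 1)
  rw [comm_u_iff' (frameSL F) one_ne_zero] at h3
  obtain ⟨h10, hd⟩ := h3
  have h10' : (h : Matrix (Fin 2) (Fin 2) F) 1 0 = 0 := h10
  have hd' : (h : Matrix (Fin 2) (Fin 2) F) 0 0 = (h : Matrix (Fin 2) (Fin 2) F) 1 1 := hd
  have hdet := h.det_coe
  rw [Matrix.det_fin_two, h10', mul_zero, sub_zero, ← hd'] at hdet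
  rcases mul_self_eq_one_iff.1 hdet with h5 | h5
  · refine ⟨(h : Matrix (Fin 2) (Fin 2) F) 0 1, Or.inl ?_⟩
    have h6 : h = uSL ((h : Matrix (Fin 2) (Fin 2) F) 0 1) := by
      ext i j
      fin_cases i <;> fin_cases j
      · exact h5
      · rfl
      · exact h10'
      · exact hd' ▸ h5
    rw [← h6]; exact hconj
  · refine ⟨-(h : Matrix (Fin 2) (Fin 2) F) 0 1, Or.inr ?_⟩
    have h6 : h = -uSL (-(h : Matrix (Fin 2) (Fin 2) F) 0 1) := by
      ext i j
      rw [SpecialLinearGroup.coe_neg, Matrix.neg_apply]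
      fin_cases i <;> fin_cases j
      · show (h : Matrix (Fin 2) (Fin 2) F) 0 0 = -1
        exact h5
      · show (h : Matrix (Fin 2) (Fin 2) F) 0 1 = - -(h : Matrix (Fin 2) (Fin 2) F) 0 1
        rw [neg_neg]
      · show (h : Matrix (Fin 2) (Fin 2) F) 1 0 = -0
        rw [h10', neg_zero]
      · show (h : Matrix (Fin 2) (Fin 2) F) 1 1 = -1
        exact hd' ▸ h5
    rw [← h6]; exact hconj

end prime

end Cfsg.Agent.H34.Deg
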