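import Cfsg.Agent.H34.Blk1

/-!
The `p`-blocks of `SL₂(q)` in the defining characteristic, `p` odd.
-/

set_option autoImplicit false
set_option linter.unusedSectionVars false

namespace Cfsg.Agent.H34.Deg

open Cfsg Cfsg.Agent.Char Cfsg.Agent.CharBase Cfsg.Agent.H39 Cfsg.Agent.Blk Matrix
open scoped ComplexConjugate

variable {F : Type*} [Field F] [Fintype F] [DecidableEq F] (p : ℕ) [hp : Fact p.Prime] [CharP F p]

theorem OddData.deg_eq_card_iff {k : ℕ} (D : OddData F k) (χ : IrrCharacter (SpecialLinearGroup (Fin 2) F)) :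
    (χ : SpecialLinearGroup (Fin 2) F → ℂ) 1 = (Fintype.card F : ℂ) ↔
      (χ : SpecialLinearGroup (Fin 2) F → ℂ) = pSL 1 - (fun _ => (1 : ℂ)) := by
  have hk := D.k_pos
  constructor
  · intro h
    have h1 := (D.deg_eq_iff χ _).1 h
    rw [D.hk] at h1
    rcases D.hsix χ with ⟨-, h2, h3, h4⟩ | h2 | ⟨h2, h3, h4⟩ | ⟨h2, h3⟩ | ⟨h2, h3, h4⟩ | ⟨h2, h3⟩
    · rw [h2, h3, h4] at h1; omega
    · exact h2.1
    · rw [h2, h3, h4] at h1; omega
    · rw [h2, h3] at h1; omega
    · rw [h2, h3, h4] at h1; omega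
    · rw [h2, h3] at h1; omega
  · intro h
    rw [h, Pi.sub_apply, pSL_one]
    ring

theorem OddData.not_dvd_degree {k : ℕ} (D : OddData F k) (χ : IrrCharacter (SpecialLinearGroup (Fin 2) F))
    (h : (χ : SpecialLinearGroup (Fin 2) F → ℂ) 1 ≠ (Fintype.card F : ℂ)) :
    ¬ p ∣ charDegree (χ : SpecialLinearGroup (Fin 2) F → ℂ) := by
  have hk := D.k_pos
  have hdeg : charDegree (χ : SpecialLinearGroup (Fin 2) F → ℂ) = D.a χ + (D.b χ + D.c χ) * k := by
    rw [charDegree, D.deg, Complex.natCast_re, Nat.floor_natCast]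
  have h1 : ∀ n : ℕ, (χ : SpecialLinearGroup (Fin 2) F → ℂ) 1 = (n : ℂ) → n ≠ 2 * k + 1 := by
    rintro n hn rfl
    exact h (by rw [hn, D.hk])
  have h2 := h1 _ (D.deg χ)
  have hp1 : ¬ p ∣ 2 * k + 2 := by
    have := not_dvd_card_add_one (F := F) p
    rwa [D.hk] at this
  have hp2 : ¬ p ∣ 2 * k := by
    have := not_dvd_card_sub_one (F := F) p
    rwa [D.hk, Nat.add_sub_cancel] at this
  rw [hdeg]
  rcases D.six χ with ⟨h3, h4⟩ | ⟨h3, h4⟩ | ⟨h3, h4⟩ | ⟨h3, h4⟩ | ⟨h3, h4⟩ | ⟨h3, h4⟩ <;> rw [h3, h4] at h2 ⊢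
  · simpa using hp.out.one_lt.ne'
  · exfalso; omega
  · rwa [add_comm]
  · intro h5
    apply hp1
    rw [show 2 * k + 2 = 2 * (1 + 1 * k) by ring]
    exact Dvd.dvd.mul_left h5 2
  · rwa [zero_add]
  · intro h5
    apply hp2
    rw [show 2 * k = 2 * (0 + 1 * k) by ring]
    exact Dvd.dvd.mul_left h5 2

variable {M : Ideal AlgInt}

section same

variable {k : ℕ} (D : OddData F k) (hM : IsPModular p M)

include hM D in
/-- `χ(u)/χ(1) ≡ 1` -/
theorem OddData.mli_ratio (χ : IrrCharacter (SpecialLinearGroup (Fin 2) F))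
    (h : (χ : SpecialLinearGroup (Fin 2) F → ℂ) 1 ≠ (Fintype.card F : ℂ)) (x : F) :
    MemLocalIdeal M ((χ : SpecialLinearGroup (Fin 2) F → ℂ) (uSL x) / (χ : SpecialLinearGroup (Fin 2) F → ℂ) 1 - 1) := by
  haveI := isPrime_of_isPModular hM
  have h1 := H76.mli_char_sub_one hM (irr_isCharacter χ) (uSL_pElement p x)
  have h2 : (χ : SpecialLinearGroup (Fin 2) F → ℂ) 1 ≠ 0 := irr_one_ne_zero χ.2
  have h3 : (χ : SpecialLinearGroup (Fin 2) F → ℂ) (uSL x) / (χ : SpecialLinearGroup (Fin 2) F → ℂ) 1 - 1 =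
      ((χ : SpecialLinearGroup (Fin 2) F → ℂ) (uSL x) - (χ : SpecialLinearGroup (Fin 2) F → ℂ) 1) *
        ((charDegree (χ : SpecialLinearGroup (Fin 2) F → ℂ) : ℂ))⁻¹ := by
    rw [← BlkC.charDegree_spec]
    field_simp
  rw [h3]
  exact mli_mul_right h1 (mlr_natCast_inv hM (D.not_dvd_degree p χ h))

include hM D in
theorem OddData.same_of_sign (χ χ' : IrrCharacter (SpecialLinearGroup (Fin 2) F))
    (h : (χ : SpecialLinearGroup (Fin 2) F → ℂ) 1 ≠ (Fintype.card F : ℂ))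
    (h' : (χ' : SpecialLinearGroup (Fin 2) F → ℂ) 1 ≠ (Fintype.card F : ℂ))
    (hs : (χ : SpecialLinearGroup (Fin 2) F → ℂ) (-1) / (χ : SpecialLinearGroup (Fin 2) F → ℂ) 1 =
      (χ' : SpecialLinearGroup (Fin 2) F → ℂ) (-1) / (χ' : SpecialLinearGroup (Fin 2) F → ℂ) 1) :
    SameBlock M (χ : SpecialLinearGroup (Fin 2) F → ℂ) (χ' : SpecialLinearGroup (Fin 2) F → ℂ) := by
  haveI := isPrime_of_isPModular hM
  intro g
  by_cases hg : p ∣ (Subgroup.centralizer ({g} : Set (SpecialLinearGroup (Fin 2) F))).index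
  · have h1 : 0 < (Subgroup.centralizer ({g} : Set (SpecialLinearGroup (Fin 2) F))).index.factorization p :=
      hp.out.factorization_pos_of_dvd Subgroup.index_ne_zero_of_finite hg
    have h2 : ∀ χ : IrrCharacter (SpecialLinearGroup (Fin 2) F), (χ : SpecialLinearGroup (Fin 2) F → ℂ) 1 ≠ (Fintype.card F : ℂ) →
        MemLocalIdeal M (centralChar (χ : SpecialLinearGroup (Fin 2) F → ℂ) g) := by
      intro χ h
      refine BlkC.mli_centralChar_of_lt hM χ g ?_
      rw [BlkC.nu, Nat.factorization_eq_zero_of_not_dvd (D.not_dvd_degree p χ h)]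
      exact h1
    exact mli_sub (h2 χ h) (h2 χ' h')
  · obtain ⟨x, hx | hx⟩ := exists_isConj_of_not_dvd p hg
    · rw [centralChar_eq_of_isConj χ hx, centralChar_eq_of_isConj χ' hx, centralChar, centralChar]
      have h3 := mli_sub (D.mli_ratio p hM χ h x) (D.mli_ratio p hM χ' h' x)
      have h4 := mli_mul_left (mlr_natCast (M := M) (Subgroup.centralizer ({uSL x} : Set (SpecialLinearGroup (Fin 2) F))).index) h3
      convert h4 using 1
      ring
    · rw [centralChar_eq_of_isConj χ hx, centralChar_eq_of_isConj χ' hx, centralChar, centralChar]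
      have h3 := mli_sub (D.mli_ratio p hM χ h x) (D.mli_ratio p hM χ' h' x)
      have h4 := mli_mul_left (mlr_natCast (M := M) (Subgroup.centralizer ({-uSL x} : Set (SpecialLinearGroup (Fin 2) F))).index) h3
      have h2 : (χ : SpecialLinearGroup (Fin 2) F → ℂ) 1 ≠ 0 := irr_one_ne_zero χ.2
      have h2' : (χ' : SpecialLinearGroup (Fin 2) F → ℂ) 1 ≠ 0 := irr_one_ne_zero χ'.2
      have e1 : ∀ χ : IrrCharacter (SpecialLinearGroup (Fin 2) F), (χ : SpecialLinearGroup (Fin 2) F → ℂ) (-uSL x) /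
          (χ : SpecialLinearGroup (Fin 2) F → ℂ) 1 = ((χ : SpecialLinearGroup (Fin 2) F → ℂ) (-1) / (χ : SpecialLinearGroup (Fin 2) F → ℂ) 1) *
            ((χ : SpecialLinearGroup (Fin 2) F → ℂ) (uSL x) / (χ : SpecialLinearGroup (Fin 2) F → ℂ) 1) := by
        intro χ
        have h2 : (χ : SpecialLinearGroup (Fin 2) F → ℂ) 1 ≠ 0 := irr_one_ne_zero χ.2
        have h5 := neg_mul_irr χ.2 (uSL x)
        field_simp
        exact h5
      rw [mul_div_assoc, mul_div_assoc, e1, e1, ← hs]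
      have h6 : MemLocalRing M ((χ : SpecialLinearGroup (Fin 2) F → ℂ) (-1) / (χ : SpecialLinearGroup (Fin 2) F → ℂ) 1) := by
        rcases neg_one_cases χ.2 with h7 | h7
        · rw [h7, div_self h2]; exact mlr_one
        · rw [h7, neg_div, div_self h2]; exact mlr_neg mlr_one
      have h8 := mli_mul_left h6 h4
      convert h8 using 1
      ring

include hM in
theorem sign_of_same (hp2 : p ≠ 2) (χ χ' : IrrCharacter (SpecialLinearGroup (Fin 2) F))
    (h : SameBlock M (χ : SpecialLinearGroup (Fin 2) F → ℂ) (χ' : SpecialLinearGroup (Fin 2) F → ℂ)) :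
    (χ : SpecialLinearGroup (Fin 2) F → ℂ) (-1) / (χ : SpecialLinearGroup (Fin 2) F → ℂ) 1 =
      (χ' : SpecialLinearGroup (Fin 2) F → ℂ) (-1) / (χ' : SpecialLinearGroup (Fin 2) F → ℂ) 1 := by
  haveI := isPrime_of_isPModular hM
  have h1 := h (-1)
  have h2 : (χ : SpecialLinearGroup (Fin 2) F → ℂ) 1 ≠ 0 := irr_one_ne_zero χ.2
  have h2' : (χ' : SpecialLinearGroup (Fin 2) F → ℂ) 1 ≠ 0 := irr_one_ne_zero χ'.2
  have h3 : (Subgroup.centralizer ({-1} : Set (SpecialLinearGroup (Fin 2) F))).index = 1 := by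
    rw [Subgroup.index_eq_one, Subgroup.eq_top_iff']
    intro g
    rw [Subgroup.mem_centralizer_singleton_iff]
    exact (neg_one_comm g).symm
  rw [centralChar, centralChar, h3, Nat.cast_one, one_mul, one_mul] at h1
  have h4 : ¬ MemLocalIdeal M ((2 : ℕ) : ℂ) := by
    rw [mli_natCast_iff hM]
    exact fun h5 => hp2 ((Nat.prime_dvd_prime_iff_eq hp.out Nat.prime_two).1 h5)
  rcases neg_one_cases χ.2 with h7 | h7 <;> rcases neg_one_cases χ'.2 with h8 | h8 <;> rw [h7, h8] at h1 ⊢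
  · rw [div_self h2, div_self h2']
  · exfalso
    rw [neg_div, div_self h2, div_self h2'] at h1
    exact h4 (by convert h1 using 1; norm_num)
  · exfalso
    rw [neg_div, div_self h2, div_self h2'] at h1
    exact h4 (by convert mli_neg h1 using 1; norm_num)
  · rw [neg_div, neg_div, div_self h2, div_self h2']

include hM D in
/-- the Steinberg character is alone -/
theorem OddData.not_same_st (χ χ' : IrrCharacter (SpecialLinearGroup (Fin 2) F))
    (h : (χ : SpecialLinearGroup (Fin 2) F → ℂ) 1 = (Fintype.card F : ℂ))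
    (h' : (χ' : SpecialLinearGroup (Fin 2) F → ℂ) 1 ≠ (Fintype.card F : ℂ)) :
    ¬ MemLocalIdeal M (centralChar (χ : SpecialLinearGroup (Fin 2) F → ℂ) (uSL 1) - centralChar (χ' : SpecialLinearGroup (Fin 2) F → ℂ) (uSL 1)) := by
  haveI := isPrime_of_isPModular hM
  intro hs
  rw [D.deg_eq_card_iff] at h
  have h1 : centralChar (χ : SpecialLinearGroup (Fin 2) F → ℂ) (uSL 1) = 0 := by
    rw [centralChar, h, Pi.sub_apply, pSL_u 1 one_ne_zero, sub_self, mul_zero, zero_div]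
  rw [h1, zero_sub] at hs
  have h2 := mli_neg hs
  rw [neg_neg, centralChar] at h2
  have h3 := D.mli_ratio p hM χ' h' 1
  have h4 := mli_mul_left (mlr_natCast (M := M) (Subgroup.centralizer ({uSL 1} : Set (SpecialLinearGroup (Fin 2) F))).index) h3
  have h5 := mli_sub h2 h4
  have h6 : MemLocalIdeal M (((Subgroup.centralizer ({uSL 1} : Set (SpecialLinearGroup (Fin 2) F))).index : ℕ) : ℂ) := by
    convert h5 using 1
    ring
  rw [mli_natCast_iff hM] at h6
  have hF : ringChar F ≠ 2 := ringChar_ne_two_of_odd ⟨k, D.hk⟩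
  have h7 := (Subgroup.centralizer ({uSL 1} : Set (SpecialLinearGroup (Fin 2) F))).card_mul_index
  rw [card_centralizer_u_odd hF one_ne_zero, card_SL] at h7
  have hq : 0 < Fintype.card F := Fintype.card_pos
  have h8 : 2 * (Subgroup.centralizer ({uSL 1} : Set (SpecialLinearGroup (Fin 2) F))).index = (Fintype.card F + 1) * (Fintype.card F - 1) := by
    apply Nat.eq_of_mul_eq_mul_left hq
    linarith
  have h9 : p ∣ (Fintype.card F + 1) * (Fintype.card F - 1) := by
    rw [← h8]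
    exact Dvd.dvd.mul_left h6 2
  rcases (Nat.Prime.dvd_mul hp.out).1 h9 with h10 | h10
  · exact not_dvd_card_add_one p h10
  · exact not_dvd_card_sub_one p h10

include hM D in
theorem OddData.same_iff (hp2 : p ≠ 2) (χ χ' : IrrCharacter (SpecialLinearGroup (Fin 2) F)) :
    SameBlock M (χ : SpecialLinearGroup (Fin 2) F → ℂ) (χ' : SpecialLinearGroup (Fin 2) F → ℂ) ↔
      ((χ : SpecialLinearGroup (Fin 2) F → ℂ) 1 = (Fintype.card F : ℂ) ∧ (χ' : SpecialLinearGroup (Fin 2) F → ℂ) 1 = (Fintype.card F : ℂ)) ∨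
      ((χ : SpecialLinearGroup (Fin 2) F → ℂ) 1 ≠ (Fintype.card F : ℂ) ∧ (χ' : SpecialLinearGroup (Fin 2) F → ℂ) 1 ≠ (Fintype.card F : ℂ) ∧
        (χ : SpecialLinearGroup (Fin 2) F → ℂ) (-1) / (χ : SpecialLinearGroup (Fin 2) F → ℂ) 1 =
      (χ' : SpecialLinearGroup (Fin 2) F → ℂ) (-1) / (χ' : SpecialLinearGroup (Fin 2) F → ℂ) 1) := by
  haveI := isPrime_of_isPModular hM
  constructor
  · intro h
    by_cases h1 : (χ : SpecialLinearGroup (Fin 2) F → ℂ) 1 = (Fintype.card F : ℂ) <;>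
      by_cases h2 : (χ' : SpecialLinearGroup (Fin 2) F → ℂ) 1 = (Fintype.card F : ℂ)
    · exact Or.inl ⟨h1, h2⟩
    · exact absurd (h (uSL 1)) (D.not_same_st p hM χ χ' h1 h2)
    · exact absurd (mli_symm (h (uSL 1))) (D.not_same_st p hM χ' χ h2 h1)
    · exact Or.inr ⟨h1, h2, sign_of_same p hM hp2 χ χ' h⟩
  · rintro (⟨h1, h2⟩ | ⟨h1, h2, h3⟩)
    · rw [D.deg_eq_card_iff] at h1 h2
      intro g
      rw [h1, h2, sub_self]
      exact mli_zero
    · exact D.same_of_sign p hM χ χ' h1 h2 h3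

end same

end Cfsg.Agent.H34.Deg
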