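import Cfsg.Agent.H34.Blk2

/-!
The three `p`-blocks of `SL₂(q)`, `p` odd.
-/

set_option autoImplicit false
set_option linter.unusedSectionVars false

namespace Cfsg.Agent.H34.Deg

open Cfsg Cfsg.Agent.Char Cfsg.Agent.CharBase Cfsg.Agent.H39 Cfsg.Agent.Blk Matrix
open scoped ComplexConjugate

section gen
variable {F : Type*} [Field F] [Fintype F] [DecidableEq F]

theorem mt_neg_one : mt (inSL F) (-1) = (-1 : F) • (1 : Matrix (Fin 2) (Fin 2) F) := by
  have h1 : mt (inSL F) (-1) = -(1 : Matrix (Fin 2) (Fin 2) F) := rfl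
  rw [h1, neg_one_smul]

theorem pSL_neg_one (α : MulChar F ℂ) : pSL α (-1) = ((Fintype.card F : ℂ) + 1) * α (-1) := by
  rw [pSL, (frameSL F).prin_scalar α 1 (-1) (-1) mt_neg_one, MulChar.one_apply (IsUnit.neg isUnit_one), mul_one]

theorem neg_one_ne_one (h2 : (2 : F) ≠ 0) : (-1 : SpecialLinearGroup (Fin 2) F) ≠ 1 := by
  intro h
  have h1 := congrFun (congrFun (congrArg (fun g : SpecialLinearGroup (Fin 2) F => (g : Matrix (Fin 2) (Fin 2) F)) h) 0) 0
  change -((1 : Matrix (Fin 2) (Fin 2) F) 0 0) = (1 : Matrix (Fin 2) (Fin 2) F) 0 0 at h1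
  rw [Matrix.one_apply_eq] at h1
  apply h2
  linear_combination -h1

theorem conj_degree (χ : IrrCharacter (SpecialLinearGroup (Fin 2) F)) :
    conj ((χ : SpecialLinearGroup (Fin 2) F → ℂ) 1) = (χ : SpecialLinearGroup (Fin 2) F → ℂ) 1 := by
  obtain ⟨n, hn⟩ := exists_nat_degree (irr_isCharacter χ)
  rw [hn, Complex.conj_natCast]

/-- half the degree sum -/
theorem sum_even_half [Fintype (IrrCharacter (SpecialLinearGroup (Fin 2) F))] (h2 : (2 : F) ≠ 0) :
    (∑ χ : IrrCharacter (SpecialLinearGroup (Fin 2) F), if (χ : SpecialLinearGroup (Fin 2) F → ℂ) (-1) = (χ : SpecialLinearGroup (Fin 2) F → ℂ) 1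
      then (χ : SpecialLinearGroup (Fin 2) F → ℂ) 1 ^ 2 else 0) = (Nat.card (SpecialLinearGroup (Fin 2) F) : ℂ) / 2 ∧
    (∑ χ : IrrCharacter (SpecialLinearGroup (Fin 2) F), if (χ : SpecialLinearGroup (Fin 2) F → ℂ) (-1) = -(χ : SpecialLinearGroup (Fin 2) F → ℂ) 1
      then (χ : SpecialLinearGroup (Fin 2) F → ℂ) 1 ^ 2 else 0) = (Nat.card (SpecialLinearGroup (Fin 2) F) : ℂ) / 2 := by
  have h1 := sum_sq_degree (G := SpecialLinearGroup (Fin 2) F)
  have h3 := sum_degree_mul (-1 : SpecialLinearGroup (Fin 2) F)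
  rw [if_neg (neg_one_ne_one h2)] at h3
  have hne : ∀ χ : IrrCharacter (SpecialLinearGroup (Fin 2) F), (χ : SpecialLinearGroup (Fin 2) F → ℂ) 1 ≠ -(χ : SpecialLinearGroup (Fin 2) F → ℂ) 1 := by
    intro χ h
    have h4 : (χ : SpecialLinearGroup (Fin 2) F → ℂ) 1 ≠ 0 := irr_one_ne_zero χ.2
    apply h4
    linear_combination h / 2
  constructor
  · have h5 : ∀ χ : IrrCharacter (SpecialLinearGroup (Fin 2) F), (if (χ : SpecialLinearGroup (Fin 2) F → ℂ) (-1) = (χ : SpecialLinearGroup (Fin 2) F → ℂ) 1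
        then (χ : SpecialLinearGroup (Fin 2) F → ℂ) 1 ^ 2 else 0) =
        ((χ : SpecialLinearGroup (Fin 2) F → ℂ) 1 ^ 2 + (χ : SpecialLinearGroup (Fin 2) F → ℂ) 1 * (χ : SpecialLinearGroup (Fin 2) F → ℂ) (-1)) * (1 / 2) := by
      intro χ
      rcases neg_one_cases χ.2 with h6 | h6
      · rw [if_pos h6, h6]; ring
      · rw [h6, if_neg (fun h => hne χ h.symm)]; ring
    rw [Finset.sum_congr rfl fun χ _ => h5 χ, ← Finset.sum_mul, Finset.sum_add_distrib, h1, h3]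
    ring
  · have h5 : ∀ χ : IrrCharacter (SpecialLinearGroup (Fin 2) F), (if (χ : SpecialLinearGroup (Fin 2) F → ℂ) (-1) = -(χ : SpecialLinearGroup (Fin 2) F → ℂ) 1
        then (χ : SpecialLinearGroup (Fin 2) F → ℂ) 1 ^ 2 else 0) =
        ((χ : SpecialLinearGroup (Fin 2) F → ℂ) 1 ^ 2 - (χ : SpecialLinearGroup (Fin 2) F → ℂ) 1 * (χ : SpecialLinearGroup (Fin 2) F → ℂ) (-1)) * (1 / 2) := by
      intro χ
      rcases neg_one_cases χ.2 with h6 | h6
      · rw [h6, if_neg (hne χ)]; ring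
      · rw [if_pos h6, h6]; ring
    rw [Finset.sum_congr rfl fun χ _ => h5 χ, ← Finset.sum_mul, Finset.sum_sub_distrib, h1, h3]
    ring

theorem exists_odd_char (h2 : (2 : F) ≠ 0) : ∃ χ : IrrCharacter (SpecialLinearGroup (Fin 2) F),
    (χ : SpecialLinearGroup (Fin 2) F → ℂ) (-1) = -(χ : SpecialLinearGroup (Fin 2) F → ℂ) 1 := by
  haveI : Fintype (IrrCharacter (SpecialLinearGroup (Fin 2) F)) := Fintype.ofFinite _
  by_contra hcon
  push Not at hcon
  have h1 := (sum_even_half h2).2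
  rw [Finset.sum_eq_zero (fun χ _ => if_neg (hcon χ))] at h1
  have h3 : (Nat.card (SpecialLinearGroup (Fin 2) F) : ℂ) ≠ 0 := cardG_ne_zero_complex _
  apply h3
  linear_combination -2 * h1

end gen

variable {F : Type*} [Field F] [Fintype F] [DecidableEq F] (p : ℕ) [hp : Fact p.Prime] [CharP F p]
variable {M : Ideal AlgInt} {k : ℕ} (D : OddData F k) (hM : IsPModular p M)

/-- the three blocks -/
def blkSt (F : Type*) [Field F] [Fintype F] : Set (IrrCharacter (SpecialLinearGroup (Fin 2) F)) :=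
  {χ | (χ : SpecialLinearGroup (Fin 2) F → ℂ) 1 = (Fintype.card F : ℂ)}
def blkEv (F : Type*) [Field F] [Fintype F] : Set (IrrCharacter (SpecialLinearGroup (Fin 2) F)) :=
  {χ | (χ : SpecialLinearGroup (Fin 2) F → ℂ) (-1) = (χ : SpecialLinearGroup (Fin 2) F → ℂ) 1 ∧ (χ : SpecialLinearGroup (Fin 2) F → ℂ) 1 ≠ (Fintype.card F : ℂ)}
def blkOd (F : Type*) [Field F] : Set (IrrCharacter (SpecialLinearGroup (Fin 2) F)) :=
  {χ | (χ : SpecialLinearGroup (Fin 2) F → ℂ) (-1) = -(χ : SpecialLinearGroup (Fin 2) F → ℂ) 1}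

omit hp [CharP F p] in
include D in
theorem OddData.st_even (χ : IrrCharacter (SpecialLinearGroup (Fin 2) F)) (h : (χ : SpecialLinearGroup (Fin 2) F → ℂ) 1 = (Fintype.card F : ℂ)) :
    (χ : SpecialLinearGroup (Fin 2) F → ℂ) (-1) = (χ : SpecialLinearGroup (Fin 2) F → ℂ) 1 := by
  have h1 := h
  rw [D.deg_eq_card_iff] at h1
  rw [h, h1, Pi.sub_apply, pSL_neg_one, MulChar.one_apply (IsUnit.neg isUnit_one)]
  ring

omit hp [CharP F p] [Fintype F] [DecidableEq F] in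
theorem sign_one_iff [Finite F] (χ : IrrCharacter (SpecialLinearGroup (Fin 2) F)) :
    (χ : SpecialLinearGroup (Fin 2) F → ℂ) (-1) / (χ : SpecialLinearGroup (Fin 2) F → ℂ) 1 = 1 ↔
      (χ : SpecialLinearGroup (Fin 2) F → ℂ) (-1) = (χ : SpecialLinearGroup (Fin 2) F → ℂ) 1 := by
  have h4 : (χ : SpecialLinearGroup (Fin 2) F → ℂ) 1 ≠ 0 := irr_one_ne_zero χ.2
  rw [div_eq_one_iff_eq h4]

omit hp [CharP F p] [Fintype F] [DecidableEq F] in
theorem sign_neg_iff [Finite F] (χ : IrrCharacter (SpecialLinearGroup (Fin 2) F)) :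
    (χ : SpecialLinearGroup (Fin 2) F → ℂ) (-1) / (χ : SpecialLinearGroup (Fin 2) F → ℂ) 1 = -1 ↔
      (χ : SpecialLinearGroup (Fin 2) F → ℂ) (-1) = -(χ : SpecialLinearGroup (Fin 2) F → ℂ) 1 := by
  have h4 : (χ : SpecialLinearGroup (Fin 2) F → ℂ) 1 ≠ 0 := irr_one_ne_zero χ.2
  rw [div_eq_iff h4, neg_one_mul]

omit hp [CharP F p] [Fintype F] [DecidableEq F] in
theorem ne_neg_degree [Finite F] (χ : IrrCharacter (SpecialLinearGroup (Fin 2) F)) :
    (χ : SpecialLinearGroup (Fin 2) F → ℂ) 1 ≠ -(χ : SpecialLinearGroup (Fin 2) F → ℂ) 1 := by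
  intro h
  have h4 : (χ : SpecialLinearGroup (Fin 2) F → ℂ) 1 ≠ 0 := irr_one_ne_zero χ.2
  apply h4
  linear_combination h / 2

include hM D in
theorem OddData.blockOf_eq (hp2 : p ≠ 2) (χ : IrrCharacter (SpecialLinearGroup (Fin 2) F)) :
    ((χ : SpecialLinearGroup (Fin 2) F → ℂ) 1 = (Fintype.card F : ℂ) → blockOf M (χ : SpecialLinearGroup (Fin 2) F → ℂ) = blkSt F) ∧
    (χ ∈ blkEv F → blockOf M (χ : SpecialLinearGroup (Fin 2) F → ℂ) = blkEv F) ∧
    (χ ∈ blkOd F → blockOf M (χ : SpecialLinearGroup (Fin 2) F → ℂ) = blkOd F) := by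
  refine ⟨fun h => ?_, fun h => ?_, fun h => ?_⟩
  · ext ψ
    show SameBlock M _ _ ↔ (ψ : SpecialLinearGroup (Fin 2) F → ℂ) 1 = (Fintype.card F : ℂ)
    rw [D.same_iff p hM hp2]
    constructor
    · rintro (h1 | h1)
      · exact h1.2
      · exact absurd h h1.1
    · intro h1
      exact Or.inl ⟨h, h1⟩
  · obtain ⟨h1, h2⟩ := h
    ext ψ
    show SameBlock M _ _ ↔ (ψ : SpecialLinearGroup (Fin 2) F → ℂ) (-1) = (ψ : SpecialLinearGroup (Fin 2) F → ℂ) 1 ∧ _
    rw [D.same_iff p hM hp2, (sign_one_iff χ).2 h1]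
    constructor
    · rintro (h3 | h3)
      · exact absurd h3.1 h2
      · exact ⟨(sign_one_iff ψ).1 h3.2.2.symm, h3.2.1⟩
    · rintro ⟨h3, h4⟩
      exact Or.inr ⟨h2, h4, ((sign_one_iff ψ).2 h3).symm⟩
  · have h1 : (χ : SpecialLinearGroup (Fin 2) F → ℂ) (-1) = -(χ : SpecialLinearGroup (Fin 2) F → ℂ) 1 := h
    have hodd : ∀ χ : IrrCharacter (SpecialLinearGroup (Fin 2) F), (χ : SpecialLinearGroup (Fin 2) F → ℂ) (-1) = -(χ : SpecialLinearGroup (Fin 2) F → ℂ) 1 →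
        (χ : SpecialLinearGroup (Fin 2) F → ℂ) 1 ≠ (Fintype.card F : ℂ) := by
      intro χ h2 h3
      have h4 := D.st_even χ h3
      rw [h2] at h4
      exact ne_neg_degree χ h4.symm
    ext ψ
    show SameBlock M _ _ ↔ (ψ : SpecialLinearGroup (Fin 2) F → ℂ) (-1) = -(ψ : SpecialLinearGroup (Fin 2) F → ℂ) 1
    rw [D.same_iff p hM hp2, (sign_neg_iff χ).2 h1]
    constructor
    · rintro (h3 | h3)
      · exact absurd h3.1 (hodd χ h1)
      · exact (sign_neg_iff ψ).1 h3.2.2.symm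
    · intro h3
      exact Or.inr ⟨hodd χ h1, hodd ψ h3, ((sign_neg_iff ψ).2 h3).symm⟩

include hM D in
theorem OddData.isPBlock_iff (hp2 : p ≠ 2) (B : Set (IrrCharacter (SpecialLinearGroup (Fin 2) F))) :
    IsPBlock M B ↔ (B = blkSt F ∨ B = blkEv F ∨ B = blkOd F) := by
  have h2 : (2 : F) ≠ 0 := two_ne_zero_of (ringChar_ne_two_of_odd ⟨k, D.hk⟩)
  constructor
  · rintro ⟨χ, rfl⟩
    obtain ⟨h1, h3, h4⟩ := D.blockOf_eq p hM hp2 χ
    by_cases h5 : (χ : SpecialLinearGroup (Fin 2) F → ℂ) 1 = (Fintype.card F : ℂ)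
    · exact Or.inl (h1 h5)
    · rcases neg_one_cases χ.2 with h6 | h6
      · exact Or.inr (Or.inl (h3 ⟨h6, h5⟩))
      · exact Or.inr (Or.inr (h4 h6))
  · rintro (rfl | rfl | rfl)
    · refine ⟨⟨_, isIrr_stSL⟩, ((D.blockOf_eq p hM hp2 _).1 ?_).symm⟩
      rw [D.deg_eq_card_iff]
    · refine ⟨⟨_, Char.isIrrCharacter_one⟩, ((D.blockOf_eq p hM hp2 _).2.1 ?_).symm⟩
      refine ⟨rfl, ?_⟩
      show (1 : ℂ) ≠ Fintype.card F
      have := Fintype.one_lt_card (α := F)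
      exact_mod_cast this.ne
    · obtain ⟨χ, hχ⟩ := exists_odd_char h2
      exact ⟨χ, ((D.blockOf_eq p hM hp2 χ).2.2 hχ).symm⟩

include D in
omit [CharP F p] hp in
theorem OddData.three_ne : blkSt F ≠ blkEv F ∧ blkSt F ≠ blkOd F ∧ blkEv F ≠ blkOd F := by
  have h2 : (2 : F) ≠ 0 := two_ne_zero_of (ringChar_ne_two_of_odd ⟨k, D.hk⟩)
  have hst : (⟨_, isIrr_stSL⟩ : IrrCharacter (SpecialLinearGroup (Fin 2) F)) ∈ blkSt F := by
    show (pSL 1 - (fun _ => (1 : ℂ)) : SpecialLinearGroup (Fin 2) F → ℂ) 1 = _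
    rw [Pi.sub_apply, pSL_one]
    ring
  have hev : (⟨_, Char.isIrrCharacter_one⟩ : IrrCharacter (SpecialLinearGroup (Fin 2) F)) ∈ blkEv F := by
    refine ⟨rfl, ?_⟩
    show (1 : ℂ) ≠ Fintype.card F
    have := Fintype.one_lt_card (α := F)
    exact_mod_cast this.ne
  refine ⟨fun h => ?_, fun h => ?_, fun h => ?_⟩
  · rw [h] at hst
    exact hst.2 (by rw [D.deg_eq_card_iff])
  · have h3 := D.st_even _ hst
    rw [h] at hst
    have h4 : _ = _ := hst
    rw [h3] at h4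
    exact ne_neg_degree _ h4
  · rw [h] at hev
    have h4 : (1 : ℂ) = -1 := hev
    norm_num at h4

include hM D in
theorem OddData.card_blocks (hp2 : p ≠ 2) : Nat.card {B : Set (IrrCharacter (SpecialLinearGroup (Fin 2) F)) // IsPBlock M B} = 3 := by
  have h1 : {B : Set (IrrCharacter (SpecialLinearGroup (Fin 2) F)) | IsPBlock M B} = {blkSt F, blkEv F, blkOd F} := by
    ext B
    rw [Set.mem_setOf_eq, D.isPBlock_iff p hM hp2]
    simp
  obtain ⟨h2, h3, h4⟩ := D.three_ne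
  have h5 : Nat.card {B : Set (IrrCharacter (SpecialLinearGroup (Fin 2) F)) // IsPBlock M B} =
      Set.ncard {B : Set (IrrCharacter (SpecialLinearGroup (Fin 2) F)) | IsPBlock M B} := rfl
  rw [h5, h1]
  exact Set.ncard_eq_three.2 ⟨_, _, _, h2, h3, h4, rfl⟩

omit [CharP F p] in
theorem isDefectGroup_of_one {B : Set (IrrCharacter (SpecialLinearGroup (Fin 2) F))}
    (h : IsDefectClass M B 1) (P : Sylow p (SpecialLinearGroup (Fin 2) F)) : IsDefectGroup p M B (P : Subgroup (SpecialLinearGroup (Fin 2) F)) := by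
  have h1 : (P : Subgroup (SpecialLinearGroup (Fin 2) F)) ≤ Subgroup.centralizer ({1} : Set (SpecialLinearGroup (Fin 2) F)) := by
    intro x _
    rw [Subgroup.mem_centralizer_singleton_iff]
    simp
  refine ⟨1, h, P.subtype h1, ?_⟩
  rw [Sylow.coe_subtype, Subgroup.map_subgroupOf_eq_of_le h1]

include hM D in
omit [CharP F p] in
theorem OddData.defect_class_odd (hp2 : p ≠ 2) : IsDefectClass M (blkOd F) 1 := by
  classical
  haveI := isPrime_of_isPModular hM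
  haveI : Fintype (IrrCharacter (SpecialLinearGroup (Fin 2) F)) := Fintype.ofFinite _
  have h2 : (2 : F) ≠ 0 := two_ne_zero_of (ringChar_ne_two_of_odd ⟨k, D.hk⟩)
  have hG : (Nat.card (SpecialLinearGroup (Fin 2) F) : ℂ) ≠ 0 := cardG_ne_zero_complex _
  have h3 : blockCoeff (blkOd F) (1 : SpecialLinearGroup (Fin 2) F) = ((2 : ℕ) : ℂ)⁻¹ := by
    rw [blockCoeff, finsum_mem_eq_sum_ite]
    have h4 : ∀ χ : IrrCharacter (SpecialLinearGroup (Fin 2) F), (if χ ∈ blkOd F then (χ : SpecialLinearGroup (Fin 2) F → ℂ) 1 * conj ((χ : SpecialLinearGroup (Fin 2) F → ℂ) 1) else 0) =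
      if (χ : SpecialLinearGroup (Fin 2) F → ℂ) (-1) = -(χ : SpecialLinearGroup (Fin 2) F → ℂ) 1 then (χ : SpecialLinearGroup (Fin 2) F → ℂ) 1 ^ 2 else 0 := by
      intro χ
      rw [conj_degree, ← sq]
      rfl
    rw [Finset.sum_congr rfl fun χ _ => h4 χ, (sum_even_half h2).2]
    push_cast
    field_simp
  have h5 : ¬ p ∣ 2 := fun h => hp2 ((Nat.prime_dvd_prime_iff_eq hp.out Nat.prime_two).1 h)
  refine ⟨?_, ?_, ?_⟩
  · rw [h3]; exact mlr_natCast_inv hM h5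
  · rw [h3]
    intro h6
    have h7 := mli_mul_left (mlr_natCast (M := M) 2) h6
    rw [mul_inv_cancel₀ (by norm_num)] at h7
    exact not_mli_one h7
  · intro χ _ h6
    have h4 : (χ : SpecialLinearGroup (Fin 2) F → ℂ) 1 ≠ 0 := irr_one_ne_zero χ.2
    have h7 : centralChar (χ : SpecialLinearGroup (Fin 2) F → ℂ) 1 = 1 := by
      have h8 : (Subgroup.centralizer ({1} : Set (SpecialLinearGroup (Fin 2) F))).index = 1 := by
        rw [Subgroup.index_eq_one, Subgroup.eq_top_iff']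
        intro g
        rw [Subgroup.mem_centralizer_singleton_iff]
        simp
      rw [centralChar, h8, Nat.cast_one, one_mul, div_self h4]
    rw [h7] at h6
    exact not_mli_one h6

include hM D in
theorem OddData.defect_class_even (hp2 : p ≠ 2) : IsDefectClass M (blkEv F) 1 := by
  classical
  haveI := isPrime_of_isPModular hM
  haveI : Fintype (IrrCharacter (SpecialLinearGroup (Fin 2) F)) := Fintype.ofFinite _
  have h2 : (2 : F) ≠ 0 := two_ne_zero_of (ringChar_ne_two_of_odd ⟨k, D.hk⟩)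
  have hG : (Nat.card (SpecialLinearGroup (Fin 2) F) : ℂ) ≠ 0 := cardG_ne_zero_complex _
  have hq : 1 < Fintype.card F := Fintype.one_lt_card
  have hq1 : ((Fintype.card F - 1 : ℕ) : ℂ) ≠ 0 := by
    rw [Nat.cast_ne_zero]; omega
  have hq2 : ((Fintype.card F + 1 : ℕ) : ℂ) ≠ 0 := by
    rw [Nat.cast_ne_zero]; omega
  have hq3 := card_ne F
  have h3 : blockCoeff (blkEv F) (1 : SpecialLinearGroup (Fin 2) F) = ((2 : ℕ) : ℂ)⁻¹ -
      (Fintype.card F : ℂ) * ((((Fintype.card F + 1 : ℕ) : ℂ))⁻¹ * (((Fintype.card F - 1 : ℕ) : ℂ))⁻¹) := by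
    rw [blockCoeff, finsum_mem_eq_sum_ite]
    have h4 : ∀ χ : IrrCharacter (SpecialLinearGroup (Fin 2) F), (if χ ∈ blkEv F then (χ : SpecialLinearGroup (Fin 2) F → ℂ) 1 * conj ((χ : SpecialLinearGroup (Fin 2) F → ℂ) 1) else 0) =
      (if (χ : SpecialLinearGroup (Fin 2) F → ℂ) (-1) = (χ : SpecialLinearGroup (Fin 2) F → ℂ) 1 then (χ : SpecialLinearGroup (Fin 2) F → ℂ) 1 ^ 2 else 0) -
      (if χ = ⟨_, isIrr_stSL⟩ then (Fintype.card F : ℂ) ^ 2 else 0) := by
      intro χ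
      rw [conj_degree, ← sq]
      by_cases h5 : (χ : SpecialLinearGroup (Fin 2) F → ℂ) 1 = (Fintype.card F : ℂ)
      · have h6 : χ = ⟨_, isIrr_stSL⟩ := Subtype.ext ((D.deg_eq_card_iff χ).1 h5)
        rw [if_neg (fun h => h.2 h5), if_pos (D.st_even χ h5), if_pos h6, h5, sub_self]
      · have h6 : χ ≠ ⟨_, isIrr_stSL⟩ := fun h => h5 ((D.deg_eq_card_iff χ).2 (congrArg Subtype.val h))
        rw [if_neg h6, sub_zero]
        by_cases h7 : (χ : SpecialLinearGroup (Fin 2) F → ℂ) (-1) = (χ : SpecialLinearGroup (Fin 2) F → ℂ) 1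
        · rw [if_pos h7, if_pos ⟨h7, h5⟩]
        · rw [if_neg h7, if_neg (fun h => h7 h.1)]
    rw [Finset.sum_congr rfl fun χ _ => h4 χ, Finset.sum_sub_distrib, (sum_even_half h2).1, Finset.sum_ite_eq' Finset.univ,
      if_pos (Finset.mem_univ _)]
    rw [card_SL] at hG ⊢
    push_cast at hG hq2 ⊢
    field_simp
  have h5 : ¬ p ∣ 2 := fun h => hp2 ((Nat.prime_dvd_prime_iff_eq hp.out Nat.prime_two).1 h)
  have h8 : MemLocalIdeal M ((Fintype.card F : ℂ) * ((((Fintype.card F + 1 : ℕ) : ℂ))⁻¹ * (((Fintype.card F - 1 : ℕ) : ℂ))⁻¹)) := by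
    refine mli_mul_right ((mli_natCast_iff hM _).2 (p_dvd_card p)) (mlr_mul (mlr_natCast_inv hM (not_dvd_card_add_one p))
      (mlr_natCast_inv hM (not_dvd_card_sub_one p)))
  refine ⟨?_, ?_, ?_⟩
  · rw [h3]; exact mlr_sub (mlr_natCast_inv hM h5) (mlr_of_mli h8)
  · rw [h3]
    intro h6
    have h6 := mli_add h6 h8
    rw [sub_add_cancel] at h6
    have h7 := mli_mul_left (mlr_natCast (M := M) 2) h6
    rw [mul_inv_cancel₀ (by norm_num)] at h7
    exact not_mli_one h7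
  · intro χ _ h6
    have h4 : (χ : SpecialLinearGroup (Fin 2) F → ℂ) 1 ≠ 0 := irr_one_ne_zero χ.2
    have h7 : centralChar (χ : SpecialLinearGroup (Fin 2) F → ℂ) 1 = 1 := by
      have h8 : (Subgroup.centralizer ({1} : Set (SpecialLinearGroup (Fin 2) F))).index = 1 := by
        rw [Subgroup.index_eq_one, Subgroup.eq_top_iff']
        intro g
        rw [Subgroup.mem_centralizer_singleton_iff]
        simp
      rw [centralChar, h8, Nat.cast_one, one_mul, div_self h4]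
    rw [h7] at h6
    exact not_mli_one h6

end Cfsg.Agent.H34.Deg
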