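import Cfsg.Agent.H34.Fact2

/-!
Factorization for solvable `S₄`-free groups whose Sylow 2-subgroups have class at most two.
-/

set_option autoImplicit false

namespace Cfsg.Agent.H34

open Cfsg

universe u

/-- `C_G(O_2(G)) ≤ O_2(G)` for solvable `G` with `O_{2'}(G) = 1`. -/
theorem centralizer_pCore_two_le {G : Type u} [Group G] [Finite G] [Group.IsSolvable G]
    (h : pPrimeCore 2 G = ⊥) : Subgroup.centralizer (pCore 2 G : Set G) ≤ pCore 2 G := by
  have hF : fittingSubgroup G = pCore 2 G := by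
    rw [Cfsg.Agent.Solv.fitting_eq_iSup_pCore]
    apply le_antisymm
    · apply iSup_le
      intro p
      by_cases hp : (p : ℕ) = 2
      · rw [hp]
      · have : Fact (Nat.Prime (p : ℕ)) := ⟨p.2⟩
        have h1 : pCore (p : ℕ) G ≤ pPrimeCore 2 G := by
          apply Cfsg.Agent.Solv.le_pPrimeCore inferInstance
          obtain ⟨n, hn⟩ := IsPGroup.iff_card.mp (Cfsg.Agent.Solv.pCore_isPGroup (G := G) (p : ℕ))
          rw [hn]
          exact Nat.Coprime.pow_left _ ((Nat.coprime_primes p.2 Nat.prime_two).mpr hp)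
        rw [h, le_bot_iff] at h1
        rw [h1]; exact bot_le
    · exact le_iSup (fun p : Nat.Primes => pCore (p : ℕ) G) ⟨2, Nat.prime_two⟩
  have h1 := Cfsg.Agent.Solv.centralizer_fitting_le (G := G)
  rwa [hF] at h1

/-- The elements of square one in a commutative subgroup. -/
def omegaSq {G : Type u} [Group G] (Z : Subgroup G) (h : ∀ a ∈ Z, ∀ b ∈ Z, a * b = b * a) : Subgroup G where
  carrier := {z | z ∈ Z ∧ z * z = 1}
  mul_mem' := by
    rintro a b ⟨ha, ha2⟩ ⟨hb, hb2⟩
    refine ⟨mul_mem ha hb, ?_⟩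
    calc a * b * (a * b) = a * (b * a) * b := by group
      _ = (a * a) * (b * b) := by rw [h b hb a ha]; group
      _ = 1 := by rw [ha2, hb2, mul_one]
  one_mem' := ⟨one_mem _, mul_one 1⟩
  inv_mem' := by
    rintro a ⟨ha, ha2⟩
    refine ⟨inv_mem ha, ?_⟩
    rw [← mul_inv_rev, ha2, inv_one]

theorem mem_omegaSq {G : Type u} [Group G] {Z : Subgroup G} (h : ∀ a ∈ Z, ∀ b ∈ Z, a * b = b * a) (z : G) :
    z ∈ omegaSq Z h ↔ z ∈ Z ∧ z * z = 1 := Iff.rfl

theorem omegaSq_elementaryAbelian {G : Type u} [Group G] {Z : Subgroup G}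
    (h : ∀ a ∈ Z, ∀ b ∈ Z, a * b = b * a) : IsElementaryAbelian 2 (omegaSq Z h) := by
  rw [isElementaryAbelian_iff]
  exact ⟨fun a ha b hb => h a ha.1 b hb.1, fun a ha => by rw [sq]; exact ha.2⟩

theorem omegaSq_normal {G : Type u} [Group G] {Z : Subgroup G} [hZ : Z.Normal]
    (h : ∀ a ∈ Z, ∀ b ∈ Z, a * b = b * a) : (omegaSq Z h).Normal where
  conj_mem := by
    rintro z ⟨hz, hz2⟩ g
    refine ⟨hZ.conj_mem z hz g, ?_⟩
    calc g * z * g⁻¹ * (g * z * g⁻¹) = g * (z * z) * g⁻¹ := by group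
      _ = 1 := by rw [hz2]; group

/-- If `V` is the normal closure of a subgroup centralized by a Sylow 2-subgroup then `O_2(G/C_G(V)) = 1`. -/
theorem reduced_of_normalClosure {G : Type u} [Group G] [Finite G] (S : Sylow 2 G) (Ω V : Subgroup G) [V.Normal]
    (hV : V = Subgroup.normalClosure (Ω : Set G)) (hΩ : Ω ≤ Subgroup.centralizer ((S : Subgroup G) : Set G)) :
    pCore 2 (MulAut.conjNormal : G →* MulAut V).range = ⊥ := by
  have : Fact (Nat.Prime 2) := ⟨Nat.prime_two⟩
  let ρ : G →* MulAut V := MulAut.conjNormal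
  have hρ : ∀ (x : G) (w : V), ((ρ x w : V) : G) = x * w * x⁻¹ := fun x w => MulAut.conjNormal_apply x w
  let P' := pCore 2 ρ.range
  let L : Subgroup G := P'.comap ρ.rangeRestrict
  have hLn : L.Normal := inferInstance
  have hΩV : Ω ≤ V := by rw [hV]; exact Subgroup.le_normalClosure
  have hS' := Cfsg.Agent.Solv.pCore_le_sylow (S.mapSurjective ρ.rangeRestrict_surjective)
  have hΩL : (Ω : Set G) ⊆ Subgroup.centralizer (L : Set G) := by
    intro w hw
    rw [SetLike.mem_coe, Subgroup.mem_centralizer_iff]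
    intro x hx
    have h1 : ρ.rangeRestrict x ∈ ((S.mapSurjective ρ.rangeRestrict_surjective : Sylow 2 ρ.range) : Subgroup ρ.range) :=
      hS' hx
    obtain ⟨s, hs, hsx⟩ := h1
    have h2 : ρ s = ρ x := congrArg Subtype.val hsx
    have h3 := hρ x ⟨w, hΩV hw⟩
    rw [← h2, hρ] at h3
    have h4 : s * w * s⁻¹ = w := by
      have := (Subgroup.mem_centralizer_iff.mp (hΩ hw)) s hs
      rw [this, mul_inv_cancel_right]
    have h5 : w = x * w * x⁻¹ := by
      calc w = s * w * s⁻¹ := h4.symm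
        _ = x * w * x⁻¹ := h3
    exact (mul_inv_eq_iff_eq_mul.mp h5.symm)
  have hVL : V ≤ Subgroup.centralizer (L : Set G) := by
    rw [hV]
    exact Subgroup.normalClosure_le_normal hΩL
  rw [Subgroup.eq_bot_iff_forall]
  intro p hp
  obtain ⟨x, rfl⟩ := ρ.rangeRestrict_surjective p
  have hx : x ∈ L := hp
  apply Subtype.ext
  show ρ x = 1
  ext v
  rw [hρ]
  show x * (v : G) * x⁻¹ = v
  rw [(Subgroup.mem_centralizer_iff.mp (hVL v.2)) x hx, mul_inv_cancel_right]

/-- The counting inequality for a largest elementary abelian subgroup. -/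
theorem card_ineq_of_maxEA {G : Type u} [Group G] [Finite G] (p : ℕ) (S V A : Subgroup G) [V.Normal] (hVS : V ≤ S)
    (hV : IsElementaryAbelian p V) (hA : A ∈ maxEA p S) :
    Nat.card V * Nat.card (A ⊓ Subgroup.centralizer (V : Set G) : Subgroup G) ≤
      Nat.card A * Nat.card (V ⊓ Subgroup.centralizer (A : Set G) : Subgroup G) := by
  obtain ⟨hAS, hAe, hmax⟩ := hA
  have hV' := (isElementaryAbelian_iff p V).mp hV
  have hA' := (isElementaryAbelian_iff p A).mp hAe
  set N : Subgroup G := A ⊓ Subgroup.centralizer (V : Set G) with hN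
  have hcomm : ∀ n ∈ N, ∀ v ∈ V, n * v = v * n := by
    intro n hn v hv
    exact ((Subgroup.mem_centralizer_iff.mp (Subgroup.mem_inf.mp hn).2) v hv).symm
  have h1 : IsElementaryAbelian p (N ⊔ V : Subgroup G) := by
    rw [isElementaryAbelian_iff]
    constructor
    · intro x hx y hy
      obtain ⟨n, hn, v, hv, rfl⟩ := Subgroup.mem_sup_of_normal_right.mp hx
      obtain ⟨m, hm, w, hw, rfl⟩ := Subgroup.mem_sup_of_normal_right.mp hy
      have e1 := hcomm m hm v hv
      have e2 := hcomm n hn w hw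
      have e3 := hA'.1 n (Subgroup.mem_inf.mp hn).1 m (Subgroup.mem_inf.mp hm).1
      have e4 := hV'.1 v hv w hw
      calc n * v * (m * w) = n * (v * m) * w := by group
        _ = n * m * (v * w) := by rw [← e1]; group
        _ = m * n * (w * v) := by rw [e3, e4]
        _ = m * (n * w) * v := by group
        _ = m * w * (n * v) := by rw [e2]; group
    · intro x hx
      obtain ⟨n, hn, v, hv, rfl⟩ := Subgroup.mem_sup_of_normal_right.mp hx
      have e1 : Commute n v := hcomm n hn v hv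
      rw [e1.mul_pow, hA'.2 n (Subgroup.mem_inf.mp hn).1, hV'.2 v hv, mul_one]
  have h2 : (N ⊔ V : Subgroup G) ≤ S := sup_le (inf_le_left.trans hAS) hVS
  have h3 := hmax _ h2 h1
  have h4 := Cfsg.Agent.Solv.mul_card_sup_of_normal N V
  have h5 : N ⊓ V ≤ V ⊓ Subgroup.centralizer (A : Set G) := by
    intro x hx
    obtain ⟨hx1, hx2⟩ := Subgroup.mem_inf.mp hx
    refine Subgroup.mem_inf.mpr ⟨hx2, ?_⟩
    rw [Subgroup.mem_centralizer_iff]
    intro a ha
    exact hA'.1 a ha x (Subgroup.mem_inf.mp hx1).1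
  have h6 : Nat.card (N ⊓ V : Subgroup G) ≤ Nat.card (V ⊓ Subgroup.centralizer (A : Set G) : Subgroup G) :=
    Nat.card_le_card_of_injective _ (Subgroup.inclusion_injective h5)
  calc Nat.card V * Nat.card N = Nat.card (N ⊔ V : Subgroup G) * Nat.card (N ⊓ V : Subgroup G) := by
        rw [h4, mul_comm]
    _ ≤ _ := Nat.mul_le_mul h3 h6

theorem conj_pow_aux {G : Type u} [Group G] (x y w : G) (h1 : x * y * x⁻¹ = w * y) (h2 : x * w = w * x) (k : ℕ) :
    x ^ k * y * (x ^ k)⁻¹ = w ^ k * y := by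
  induction k with
  | zero => simp
  | succ k ih =>
    have h3 : x * w ^ k = w ^ k * x := by
      have : Commute x w := h2
      exact (this.pow_right k)
    calc x ^ (k + 1) * y * (x ^ (k + 1))⁻¹ = x * (x ^ k * y * (x ^ k)⁻¹) * x⁻¹ := by
          rw [pow_succ']; group
      _ = (x * w ^ k) * y * x⁻¹ := by rw [ih]; group
      _ = w ^ k * (x * y * x⁻¹) := by rw [h3]; group
      _ = w ^ (k + 1) * y := by rw [h1, pow_succ]; group

/-- Key triviality: `x` of odd order, `x y x⁻¹ = w y` with `w` of 2-power order commuting with `x`, then `w = 1`. -/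
theorem eq_one_aux {G : Type u} [Group G] (x y w : G) (hx : Odd (orderOf x)) (h1 : x * y * x⁻¹ = w * y)
    (h2 : x * w = w * x) (hw : ∃ n : ℕ, w ^ 2 ^ n = 1) : w = 1 := by
  have h3 := conj_pow_aux x y w h1 h2 (orderOf x)
  rw [pow_orderOf_eq_one] at h3
  have h4 : w ^ orderOf x = 1 := by
    have : w ^ orderOf x * y = y := by rw [← h3]; group
    exact mul_eq_right.mp this
  obtain ⟨n, hn⟩ := hw
  have h5 : orderOf w ∣ orderOf x := orderOf_dvd_of_pow_eq_one h4
  have h6 : orderOf w ∣ 2 ^ n := orderOf_dvd_of_pow_eq_one hn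
  have h7 : Nat.Coprime (orderOf x) (2 ^ n) := Nat.Coprime.pow_right _ ((Nat.coprime_two_right).mpr hx)
  have h8 := Nat.dvd_gcd h5 h6
  rw [h7] at h8
  exact orderOf_eq_one_iff.mp (Nat.dvd_one.mp h8)

/-- The case in which `Ω₁(Z(S))` is central in `G`. -/
theorem sylow_normal_of_central {G : Type u} [Group G] [Finite G] [Group.IsSolvable G]
    (h : pPrimeCore 2 G = ⊥) (S : Sylow 2 G)
    (hcl : ∀ a ∈ S, ∀ b ∈ S, ∀ c ∈ S, (a * b * a⁻¹ * b⁻¹) * c = c * (a * b * a⁻¹ * b⁻¹))
    (hcent : ∀ z ∈ S, (∀ s ∈ S, z * s = s * z) → z * z = 1 → z ∈ Subgroup.center G) :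
    (S : Subgroup G).Normal := by
  have : Fact (Nat.Prime 2) := ⟨Nat.prime_two⟩
  set Q := pCore 2 G with hQdef
  have hCQ : Subgroup.centralizer (Q : Set G) ≤ Q := centralizer_pCore_two_le h
  have hQS : Q ≤ (S : Subgroup G) := Cfsg.Agent.Solv.pCore_le_sylow S
  have hQp : IsPGroup 2 Q := Cfsg.Agent.Solv.pCore_isPGroup 2
  let Z : Subgroup G := Q ⊓ Subgroup.centralizer (Q : Set G)
  have hZn : Z.Normal := inferInstance
  have hZcomm : ∀ a ∈ Z, ∀ b ∈ Z, a * b = b * a := by
    intro a ha b hb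
    exact (Subgroup.mem_centralizer_iff.mp (Subgroup.mem_inf.mp hb).2) a (Subgroup.mem_inf.mp ha).1
  have hZQ : ∀ z ∈ Z, ∀ q ∈ Q, q * z = z * q := by
    intro z hz q hq
    exact (Subgroup.mem_centralizer_iff.mp (Subgroup.mem_inf.mp hz).2) q hq
  -- centre of S is in Z
  have hZS : ∀ z ∈ S, (∀ s ∈ S, z * s = s * z) → z ∈ Z := by
    intro z hz hz2
    have h1 : z ∈ Subgroup.centralizer (Q : Set G) := by
      rw [Subgroup.mem_centralizer_iff]
      intro q hq
      exact (hz2 q (hQS hq)).symm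
    exact Subgroup.mem_inf.mpr ⟨hCQ h1, h1⟩
  let U : Subgroup G := omegaSq Z hZcomm
  have hUn : U.Normal := omegaSq_normal hZcomm
  let D : Subgroup G := Subgroup.normalClosure ((S : Subgroup G) : Set G)
  have hDn : D.Normal := Subgroup.normalClosure_normal
  -- D acts trivially on Q/Z
  have hDQ : ∀ d ∈ D, ∀ q ∈ Q, d * q * d⁻¹ * q⁻¹ ∈ Z := by
    let M1 : Subgroup G := (Subgroup.centralizer ((Q.map (QuotientGroup.mk' Z)) : Set (G ⧸ Z))).comap (QuotientGroup.mk' Z)
    have hQn : (Q.map (QuotientGroup.mk' Z)).Normal :=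
      Subgroup.Normal.map inferInstance _ (QuotientGroup.mk'_surjective Z)
    have hM1n : M1.Normal := inferInstance
    have hM1 : ∀ g, g ∈ M1 ↔ ∀ q ∈ Q, g * q * g⁻¹ * q⁻¹ ∈ Z := by
      intro g
      simp only [M1, Subgroup.mem_comap, Subgroup.mem_centralizer_iff]
      constructor
      · intro hg q hq
        have := hg (QuotientGroup.mk' Z q) ⟨q, hq, rfl⟩
        rw [← map_mul, ← map_mul] at this
        have h2 := QuotientGroup.eq.mp this
        have h3 : g * q * ((q * g)⁻¹ * (g * q)) * (g * q)⁻¹ ∈ Z := hZn.conj_mem _ h2 _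
        have h4 : g * q * ((q * g)⁻¹ * (g * q)) * (g * q)⁻¹ = g * q * g⁻¹ * q⁻¹ := by group
        rwa [h4] at h3
      · rintro hg _ ⟨q, hq, rfl⟩
        rw [← map_mul, ← map_mul]
        apply QuotientGroup.eq.mpr
        have h3 := hZn.conj_mem _ (hg q hq) (g * q)⁻¹
        have h4 : (g * q)⁻¹ * (g * q * g⁻¹ * q⁻¹) * (g * q)⁻¹⁻¹ = (q * g)⁻¹ * (g * q) := by group
        rwa [h4] at h3
    have hSM : ((S : Subgroup G) : Set G) ⊆ M1 := by
      intro s hs
      rw [SetLike.mem_coe, hM1]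
      intro q hq
      apply hZS _ _ (fun c hc => hcl s hs q (hQS hq) c hc)
      exact mul_mem (mul_mem (mul_mem hs (hQS hq)) (inv_mem hs)) (inv_mem (hQS hq))
    have hDM : D ≤ M1 := Subgroup.normalClosure_le_normal hSM
    intro d hd
    exact (hM1 d).mp (hDM hd)
  -- D acts trivially on U/(U ∩ center)
  have hDU : ∀ d ∈ D, ∀ u ∈ U, d * u * d⁻¹ * u⁻¹ ∈ Subgroup.center G := by
    let M2 : Subgroup G := (Subgroup.centralizer ((U.map (QuotientGroup.mk' (Subgroup.center G))) :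
      Set (G ⧸ Subgroup.center G))).comap (QuotientGroup.mk' (Subgroup.center G))
    have hUn' : (U.map (QuotientGroup.mk' (Subgroup.center G))).Normal :=
      Subgroup.Normal.map inferInstance _ (QuotientGroup.mk'_surjective _)
    have hM2n : M2.Normal := inferInstance
    have hcn : (Subgroup.center G).Normal := inferInstance
    have hM2 : ∀ g, g ∈ M2 ↔ ∀ q ∈ U, g * q * g⁻¹ * q⁻¹ ∈ Subgroup.center G := by
      intro g
      simp only [M2, Subgroup.mem_comap, Subgroup.mem_centralizer_iff]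
      constructor
      · intro hg q hq
        have := hg (QuotientGroup.mk' _ q) ⟨q, hq, rfl⟩
        rw [← map_mul, ← map_mul] at this
        have h2 := QuotientGroup.eq.mp this
        have h3 : g * q * ((q * g)⁻¹ * (g * q)) * (g * q)⁻¹ ∈ Subgroup.center G := hcn.conj_mem _ h2 _
        have h4 : g * q * ((q * g)⁻¹ * (g * q)) * (g * q)⁻¹ = g * q * g⁻¹ * q⁻¹ := by group
        rwa [h4] at h3
      · rintro hg _ ⟨q, hq, rfl⟩
        rw [← map_mul, ← map_mul]
        apply QuotientGroup.eq.mpr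
        have h3 := hcn.conj_mem _ (hg q hq) (g * q)⁻¹
        have h4 : (g * q)⁻¹ * (g * q * g⁻¹ * q⁻¹) * (g * q)⁻¹⁻¹ = (q * g)⁻¹ * (g * q) := by group
        rwa [h4] at h3
    have hSM : ((S : Subgroup G) : Set G) ⊆ M2 := by
      intro s hs
      rw [SetLike.mem_coe, hM2]
      intro u hu
      have huS : u ∈ S := hQS (Subgroup.mem_inf.mp hu.1).1
      apply hcent _ _ (fun c hc => hcl s hs u huS c hc)
      · have h1 : s * u * s⁻¹ ∈ U := hUn.conj_mem u hu s
        exact ((mul_mem h1 (inv_mem hu) : s * u * s⁻¹ * u⁻¹ ∈ U)).2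
      · exact mul_mem (mul_mem (mul_mem hs huS) (inv_mem hs)) (inv_mem huS)
    have hDM : D ≤ M2 := Subgroup.normalClosure_le_normal hSM
    intro d hd
    exact (hM2 d).mp (hDM hd)
  have hpow2 : ∀ q ∈ Q, ∃ n : ℕ, q ^ 2 ^ n = 1 := by
    intro q hq
    obtain ⟨n, hn⟩ := hQp ⟨q, hq⟩
    exact ⟨n, congrArg Subtype.val hn⟩
  -- odd order elements of D are trivial
  have hodd : ∀ x ∈ D, Odd (orderOf x) → x = 1 := by
    intro x hxD hx
    have hxU : ∀ u ∈ U, x * u = u * x := by
      intro u hu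
      have h1 := hDU x hxD u hu
      have h2 : x * u * x⁻¹ * u⁻¹ ∈ U := mul_mem (hUn.conj_mem u hu x) (inv_mem hu)
      have h3 := eq_one_aux x u (x * u * x⁻¹ * u⁻¹) hx (by group) (Subgroup.mem_center_iff.mp h1 x)
        ⟨1, by rw [pow_one, sq]; exact h2.2⟩
      exact mul_inv_eq_iff_eq_mul.mp (mul_inv_eq_one.mp h3)
    have hxZ : ∀ n : ℕ, ∀ y ∈ Z, y ^ 2 ^ n = 1 → x * y = y * x := by
      intro n
      induction n with
      | zero =>
        intro y _ hy
        rw [pow_zero, pow_one] at hy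
        rw [hy, mul_one, one_mul]
      | succ n ih =>
        intro y hy hyn
        have h1 : x * (y * y) = (y * y) * x := by
          apply ih _ (mul_mem hy hy)
          rw [← sq, ← pow_mul, ← pow_succ']
          exact hyn
        have hc : x * y * x⁻¹ ∈ Z := hZn.conj_mem y hy x
        have hw : x * y * x⁻¹ * y⁻¹ ∈ Z := mul_mem hc (inv_mem hy)
        have hw2 : (x * y * x⁻¹ * y⁻¹) * (x * y * x⁻¹ * y⁻¹) = 1 := by
          have e1 : (x * y * x⁻¹) * y⁻¹ = y⁻¹ * (x * y * x⁻¹) := hZcomm _ hc _ (inv_mem hy)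
          calc (x * y * x⁻¹ * y⁻¹) * (x * y * x⁻¹ * y⁻¹)
              = (y⁻¹ * (x * y * x⁻¹)) * (x * y * x⁻¹ * y⁻¹) := by rw [e1]
            _ = y⁻¹ * (x * (y * y)) * x⁻¹ * y⁻¹ := by group
            _ = 1 := by rw [h1]; group
        have hwU : x * y * x⁻¹ * y⁻¹ ∈ U := ⟨hw, hw2⟩
        have h3 := eq_one_aux x y (x * y * x⁻¹ * y⁻¹) hx (by group) (hxU _ hwU)
          ⟨1, by rw [pow_one, sq]; exact hw2⟩
        exact mul_inv_eq_iff_eq_mul.mp (mul_inv_eq_one.mp h3)
    have hxQ : ∀ q ∈ Q, x * q = q * x := by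
      intro q hq
      have h1 := hDQ x hxD q hq
      obtain ⟨n, hn⟩ := hpow2 _ (Subgroup.mem_inf.mp h1).1
      have h3 := eq_one_aux x q (x * q * x⁻¹ * q⁻¹) hx (by group) (hxZ n _ h1 hn) ⟨n, hn⟩
      exact mul_inv_eq_iff_eq_mul.mp (mul_inv_eq_one.mp h3)
    have h1 : x ∈ Subgroup.centralizer (Q : Set G) := by
      rw [Subgroup.mem_centralizer_iff]
      intro q hq
      exact (hxQ q hq).symm
    obtain ⟨n, hn⟩ := hpow2 x (hCQ h1)
    have h6 : orderOf x ∣ 2 ^ n := orderOf_dvd_of_pow_eq_one hn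
    have h7 : Nat.Coprime (orderOf x) (2 ^ n) := Nat.Coprime.pow_right _ ((Nat.coprime_two_right).mpr hx)
    exact orderOf_eq_one_iff.mp (Nat.Coprime.eq_one_of_dvd h7 h6)
  have hD2 : IsPGroup 2 D := by
    rw [IsPGroup.iff_orderOf]
    intro d
    have hpos : 0 < orderOf d := orderOf_pos d
    obtain ⟨k, m, hm, hkm⟩ := Nat.exists_eq_two_pow_mul_odd hpos.ne'
    refine ⟨k, ?_⟩
    have h1 : orderOf (d ^ 2 ^ k) = m := by
      rw [orderOf_pow_of_dvd (by positivity) (by rw [hkm]; exact Dvd.intro _ rfl), hkm]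
      exact Nat.mul_div_cancel_left _ (by positivity)
    have h2 : ((d ^ 2 ^ k : D) : G) = 1 := by
      apply hodd _ (d ^ 2 ^ k).2
      rw [Subgroup.orderOf_coe, h1]
      exact hm
    have h3 : d ^ 2 ^ k = 1 := Subtype.ext h2
    rw [h3, orderOf_one] at h1
    rw [hkm, ← h1, mul_one]
  have hDS : D = (S : Subgroup G) := by
    have hSD : (S : Subgroup G) ≤ D := Subgroup.le_normalClosure
    exact S.is_maximal' hD2 hSD
  rw [← hDS]
  exact hDn

end Cfsg.Agent.H34
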