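import Cfsg.Agent.CharBase.Column

/-!
Counting character degrees of `GL₂(q)` and `SL₂(q)`, `q` even.
-/

set_option autoImplicit false

namespace Cfsg.Agent.H34.Deg

open Cfsg Cfsg.Agent.CharBase
open scoped ComplexConjugate

universe u v

variable {G : Type u} [Group G] [Fintype G]

theorem vd_of_case {q : ℕ} (hq : 2 ≤ q) {u : G} {ι : Type v} (fA fB : ι → IrrCharacter G)
    (hA1 : ∀ i, (fA i : G → ℂ) 1 = 1) (hAu : ∀ i, (fA i : G → ℂ) u = 1)
    (hB1 : ∀ i, (fB i : G → ℂ) 1 = q) (hBu : ∀ i, (fB i : G → ℂ) u = 0)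
    (hcase : ∀ χ : IrrCharacter G, (∃ i, χ = fA i) ∨ (∃ i, χ = fB i) ∨ ((χ : G → ℂ) 1 = q + 1 ∧ (χ : G → ℂ) u = 1) ∨
      ∃ e : ℕ, 0 < e ∧ (χ : G → ℂ) 1 = e * (q - 1) ∧ (χ : G → ℂ) u = -e) (χ : IrrCharacter G) :
    ∃ (v d : ℤ), (χ : G → ℂ) u = v ∧ (χ : G → ℂ) 1 = d ∧ (((v = 1 ∧ d = 1) ∧ ∃ i, χ = fA i) ∨ ((v = 0 ∧ d = q) ∧ ∃ i, χ = fB i) ∨
      (v = 1 ∧ d = q + 1) ∨ ∃ e : ℕ, 0 < e ∧ v = -e ∧ d = e * (q - 1)) := by
  rcases hcase χ with ⟨i, rfl⟩ | ⟨i, rfl⟩ | ⟨h1, h2⟩ | ⟨e, he, h1, h2⟩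
  · exact ⟨1, 1, by rw [hAu]; norm_num, by rw [hA1]; norm_num, Or.inl ⟨⟨rfl, rfl⟩, i, rfl⟩⟩
  · exact ⟨0, q, by rw [hBu]; norm_num, by rw [hB1]; norm_num, Or.inr (Or.inl ⟨⟨rfl, rfl⟩, i, rfl⟩)⟩
  · exact ⟨1, q + 1, by rw [h2]; norm_num, by rw [h1]; norm_num, Or.inr (Or.inr (Or.inl ⟨rfl, rfl⟩))⟩
  · exact ⟨-e, e * (q - 1), by rw [h2]; push_cast; ring, by rw [h1]; push_cast; ring, Or.inr (Or.inr (Or.inr ⟨e, he, rfl, rfl⟩))⟩

/-- the generic counting theorem -/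
theorem deg_count (a q : ℕ) (hq : 2 ≤ q) (u : G)
    (hcl : Nat.card (ConjClasses G) = a * (q + 1)) (hC : Nat.card (Subgroup.centralizer ({u} : Set G)) = a * q)
    (hu1 : u ≠ 1)
    {ι : Type v} [Fintype ι] (hι : Fintype.card ι = a) (fA fB : ι → IrrCharacter G)
    (hA : Function.Injective fA) (hB : Function.Injective fB)
    (hA1 : ∀ i, (fA i : G → ℂ) 1 = 1) (hAu : ∀ i, (fA i : G → ℂ) u = 1)
    (hB1 : ∀ i, (fB i : G → ℂ) 1 = q) (hBu : ∀ i, (fB i : G → ℂ) u = 0)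
    (hcase : ∀ χ : IrrCharacter G, (∃ i, χ = fA i) ∨ (∃ i, χ = fB i) ∨ ((χ : G → ℂ) 1 = q + 1 ∧ (χ : G → ℂ) u = 1) ∨
      ∃ e : ℕ, 0 < e ∧ (χ : G → ℂ) 1 = e * (q - 1) ∧ (χ : G → ℂ) u = -e) :
    (∀ χ : IrrCharacter G, (∃ i, χ = fA i) ∨ (∃ i, χ = fB i) ∨ ((χ : G → ℂ) 1 = q + 1 ∧ (χ : G → ℂ) u = 1) ∨
      ((χ : G → ℂ) 1 = q - 1 ∧ (χ : G → ℂ) u = -1)) ∧
    (Nat.card {χ : IrrCharacter G // (χ : G → ℂ) 1 = (q : ℂ) + 1} * 2 + 2 * a = a * q) ∧
    (3 ≤ q → Nat.card {χ : IrrCharacter G // (χ : G → ℂ) 1 = 1} = a ∧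
      Nat.card {χ : IrrCharacter G // (χ : G → ℂ) 1 = (q : ℂ)} = a ∧
      Nat.card {χ : IrrCharacter G // (χ : G → ℂ) 1 = (q : ℂ) - 1} * 2 = a * q) := by
  classical
  haveI : Fintype (IrrCharacter G) := Fintype.ofFinite _
  choose v d hv hd hvd using vd_of_case hq fA fB hA1 hAu hB1 hBu hcase
  have hN : Fintype.card (IrrCharacter G) = a * (q + 1) := by
    rw [← Nat.card_eq_fintype_card, card_irr_eq_card_conjClasses, hcl]
  have hS : ∑ χ : IrrCharacter G, v χ ^ 2 = a * q := by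
    have h := column_orthogonality_of_isConj (IsConj.refl u)
    rw [hC] at h
    have h2 : ((∑ χ : IrrCharacter G, v χ ^ 2 : ℤ) : ℂ) = ((a * q : ℤ) : ℂ) := by
      push_cast at h ⊢
      rw [← h]
      refine Finset.sum_congr rfl fun χ _ => ?_
      rw [hv χ]
      simp [sq]
    exact_mod_cast h2
  have hX : ∑ χ : IrrCharacter G, d χ * v χ = 0 := by
    have h := sum_degree_mul (G := G) u
    rw [if_neg hu1] at h
    have h2 : ((∑ χ : IrrCharacter G, d χ * v χ : ℤ) : ℂ) = ((0 : ℤ) : ℂ) := by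
      push_cast
      rw [← h]
      refine Finset.sum_congr rfl fun χ _ => ?_
      rw [hv χ, hd χ]
    exact_mod_cast h2
  -- the zero set
  have hZ : (Finset.univ.filter (fun χ : IrrCharacter G => v χ = 0)).card = a := by
    rw [← hι, ← Finset.card_univ (α := ι), ← Finset.card_image_of_injective Finset.univ hB]
    congr 1
    ext χ
    simp only [Finset.mem_filter, Finset.mem_univ, true_and, Finset.mem_image]
    constructor
    · intro h0
      rcases hvd χ with ⟨⟨h1, -⟩, -⟩ | ⟨-, i, rfl⟩ | ⟨h1, -⟩ | ⟨e, he, h1, -⟩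
      · omega
      · exact ⟨i, rfl⟩
      · omega
      · omega
    · rintro ⟨i, rfl⟩
      have h1 := hv (fB i)
      rw [hBu] at h1
      exact_mod_cast h1.symm
  have hAcard : (Finset.univ.filter (fun χ : IrrCharacter G => v χ = 1 ∧ d χ = 1)).card = a := by
    rw [← hι, ← Finset.card_univ (α := ι), ← Finset.card_image_of_injective Finset.univ hA]
    congr 1
    ext χ
    simp only [Finset.mem_filter, Finset.mem_univ, true_and, Finset.mem_image]
    constructor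
    · intro h0
      rcases hvd χ with ⟨-, i, rfl⟩ | ⟨⟨h1, -⟩, -⟩ | ⟨h1, h2⟩ | ⟨e, he, h1, -⟩
      · exact ⟨i, rfl⟩
      · omega
      · omega
      · omega
    · rintro ⟨i, rfl⟩
      have h1 := hv (fA i)
      have h2 := hd (fA i)
      rw [hAu] at h1
      rw [hA1] at h2
      exact ⟨by exact_mod_cast h1.symm, by exact_mod_cast h2.symm⟩
  -- each cuspidal character has e = 1
  have hsum : ∑ χ : IrrCharacter G, (v χ ^ 2 - 1 + (if v χ = 0 then 1 else 0)) = 0 := by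
    rw [Finset.sum_add_distrib, Finset.sum_sub_distrib, hS, Finset.sum_const, Finset.card_univ, hN, ← Finset.sum_filter,
      Finset.sum_const, hZ]
    simp
    ring
  have hterm : ∀ χ : IrrCharacter G, 0 ≤ v χ ^ 2 - 1 + (if v χ = 0 then 1 else 0) := by
    intro χ
    split_ifs with h
    · rw [h]; norm_num
    · have : 0 < v χ ^ 2 := by positivity
      omega
  have heach : ∀ χ : IrrCharacter G, v χ ^ 2 - 1 + (if v χ = 0 then 1 else 0) = 0 := fun χ =>
    (Finset.sum_eq_zero_iff_of_nonneg (fun χ _ => hterm χ)).mp hsum χ (Finset.mem_univ χ)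
  have hfour : ∀ χ : IrrCharacter G, ((v χ = 1 ∧ d χ = 1) ∧ ∃ i, χ = fA i) ∨ ((v χ = 0 ∧ d χ = q) ∧ ∃ i, χ = fB i) ∨
      (v χ = 1 ∧ d χ = q + 1) ∨ (v χ = -1 ∧ d χ = q - 1) := by
    intro χ
    rcases hvd χ with h | h | h | ⟨e, he, h1, h2⟩
    · exact Or.inl h
    · exact Or.inr (Or.inl h)
    · exact Or.inr (Or.inr (Or.inl h))
    · right; right; right
      have h3 := heach χ
      rw [if_neg (by omega), h1] at h3
      have h4 : (e : ℤ) = 1 := by nlinarith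
      rw [h1, h2, h4]
      exact ⟨rfl, by ring⟩
  -- counting
  set P := (Finset.univ.filter (fun χ : IrrCharacter G => v χ = 1 ∧ d χ = q + 1)).card with hP
  set C := (Finset.univ.filter (fun χ : IrrCharacter G => v χ = -1 ∧ d χ = q - 1)).card with hCc
  have hcount : a * (q + 1) = a + a + P + C := by
    rw [← hN, ← Finset.card_univ]
    have h1 : (1 : IrrCharacter G → ℕ) = fun χ => (if (v χ = 1 ∧ d χ = 1) then 1 else 0) + (if v χ = 0 then 1 else 0) +
      (if (v χ = 1 ∧ d χ = q + 1) then 1 else 0) + (if (v χ = -1 ∧ d χ = q - 1) then 1 else 0) := by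
      funext χ
      rcases hfour χ with ⟨⟨h1, h2⟩, -⟩ | ⟨⟨h1, h2⟩, -⟩ | ⟨h1, h2⟩ | ⟨h1, h2⟩
      · rw [if_pos ⟨h1, h2⟩, if_neg (by omega), if_neg (by omega), if_neg (by omega)]; rfl
      · rw [if_neg (by omega), if_pos h1, if_neg (by omega), if_neg (by omega)]; rfl
      · rw [if_neg (by omega), if_neg (by omega), if_pos ⟨h1, h2⟩, if_neg (by omega)]; rfl
      · rw [if_neg (by omega), if_neg (by omega), if_neg (by omega), if_pos ⟨h1, h2⟩]; rfl
    have h2 : (Finset.univ : Finset (IrrCharacter G)).card = ∑ χ : IrrCharacter G, (1 : IrrCharacter G → ℕ) χ := by simp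
    rw [h2, h1, Finset.sum_add_distrib, Finset.sum_add_distrib, Finset.sum_add_distrib, ← Finset.card_filter,
      ← Finset.card_filter, ← Finset.card_filter, ← Finset.card_filter, hAcard, hZ]
  have hortho : (a : ℤ) + (q + 1) * P - (q - 1) * C = 0 := by
    rw [← hX]
    have h1 : ∀ χ : IrrCharacter G, d χ * v χ = (if (v χ = 1 ∧ d χ = 1) then 1 else 0) +
      (if (v χ = 1 ∧ d χ = q + 1) then ((q : ℤ) + 1) else 0) - (if (v χ = -1 ∧ d χ = q - 1) then ((q : ℤ) - 1) else 0) := by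
      intro χ
      rcases hfour χ with ⟨⟨h1, h2⟩, -⟩ | ⟨⟨h1, h2⟩, -⟩ | ⟨h1, h2⟩ | ⟨h1, h2⟩
      · rw [if_pos ⟨h1, h2⟩, if_neg (by omega), if_neg (by omega), h1, h2]; norm_num
      · rw [if_neg (by omega), if_neg (by omega), if_neg (by omega), h1]; norm_num
      · rw [if_neg (by omega), if_pos ⟨h1, h2⟩, if_neg (by omega), h1, h2]; norm_num
      · rw [if_neg (by omega), if_neg (by omega), if_pos ⟨h1, h2⟩, h1, h2]; ring
    rw [Finset.sum_congr rfl (fun χ _ => h1 χ), Finset.sum_sub_distrib, Finset.sum_add_distrib, ← Finset.sum_filter,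
      ← Finset.sum_filter, ← Finset.sum_filter, Finset.sum_const, Finset.sum_const, Finset.sum_const, hAcard]
    simp only [nsmul_eq_mul, mul_one]
    ring
  have hPval : P * 2 + 2 * a = a * q := by
    have h1 : (C : ℤ) = a * (q + 1) - 2 * a - P := by
      have : (a : ℤ) * (q + 1) = a + a + P + C := by exact_mod_cast hcount
      linarith
    rw [h1] at hortho
    have h2 : (q : ℤ) * (P * 2 + 2 * a) = q * (a * q) := by linear_combination hortho
    have h3 : ((P : ℤ) * 2 + 2 * a) = a * q := mul_left_cancel₀ (by omega) h2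
    exact_mod_cast h3
  have hCval : C * 2 = a * q := by
    have e1 : a * (q + 1) = a * q + a := by ring
    omega
  -- degrees
  have hdP : ∀ χ : IrrCharacter G, (χ : G → ℂ) 1 = (q : ℂ) + 1 ↔ (v χ = 1 ∧ d χ = q + 1) := by
    intro χ
    rw [hd χ]
    constructor
    · intro h1
      have h2 : d χ = q + 1 := by exact_mod_cast h1
      rcases hfour χ with ⟨⟨h3, h4⟩, -⟩ | ⟨⟨h3, h4⟩, -⟩ | ⟨h3, h4⟩ | ⟨h3, h4⟩
      · omega
      · omega
      · exact ⟨h3, h4⟩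
      · omega
    · rintro ⟨-, h2⟩
      rw [h2]; push_cast; rfl
  refine ⟨?_, ?_, ?_⟩
  · intro χ
    rcases hfour χ with ⟨-, i, h⟩ | ⟨-, i, h⟩ | ⟨h1, h2⟩ | ⟨h1, h2⟩
    · exact Or.inl ⟨i, h⟩
    · exact Or.inr (Or.inl ⟨i, h⟩)
    · right; right; left
      rw [hd χ, hv χ, h1, h2]
      exact ⟨by push_cast; rfl, by norm_num⟩
    · right; right; right
      rw [hd χ, hv χ, h1, h2]
      exact ⟨by push_cast; rfl, by norm_num⟩
  · rw [Nat.card_congr (Equiv.subtypeEquivRight hdP), Nat.card_eq_fintype_card, Fintype.card_subtype]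
    exact hPval
  · intro hq3
    have hd1 : ∀ χ : IrrCharacter G, (χ : G → ℂ) 1 = 1 ↔ (v χ = 1 ∧ d χ = 1) := by
      intro χ
      rw [hd χ]
      constructor
      · intro h1
        have h2 : d χ = 1 := by exact_mod_cast h1
        rcases hfour χ with ⟨⟨h3, h4⟩, -⟩ | ⟨⟨h3, h4⟩, -⟩ | ⟨h3, h4⟩ | ⟨h3, h4⟩
        · exact ⟨h3, h4⟩
        · omega
        · omega
        · omega
      · rintro ⟨-, h2⟩
        rw [h2]; norm_num
    have hdq : ∀ χ : IrrCharacter G, (χ : G → ℂ) 1 = (q : ℂ) ↔ v χ = 0 := by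
      intro χ
      rw [hd χ]
      constructor
      · intro h1
        have h2 : d χ = q := by exact_mod_cast h1
        rcases hfour χ with ⟨⟨h3, h4⟩, -⟩ | ⟨⟨h3, h4⟩, -⟩ | ⟨h3, h4⟩ | ⟨h3, h4⟩
        · omega
        · exact h3
        · omega
        · omega
      · intro h2
        rcases hfour χ with ⟨⟨h3, h4⟩, -⟩ | ⟨⟨h3, h4⟩, -⟩ | ⟨h3, h4⟩ | ⟨h3, h4⟩
        · omega
        · rw [h4]; push_cast; rfl
        · omega
        · omega
    have hdC : ∀ χ : IrrCharacter G, (χ : G → ℂ) 1 = (q : ℂ) - 1 ↔ (v χ = -1 ∧ d χ = q - 1) := by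
      intro χ
      rw [hd χ]
      constructor
      · intro h1
        have h2 : d χ = q - 1 := by exact_mod_cast h1
        rcases hfour χ with ⟨⟨h3, h4⟩, -⟩ | ⟨⟨h3, h4⟩, -⟩ | ⟨h3, h4⟩ | ⟨h3, h4⟩
        · omega
        · omega
        · omega
        · exact ⟨h3, h4⟩
      · rintro ⟨-, h2⟩
        rw [h2]; push_cast; rfl
    refine ⟨?_, ?_, ?_⟩
    · rw [Nat.card_congr (Equiv.subtypeEquivRight hd1), Nat.card_eq_fintype_card, Fintype.card_subtype]
      exact hAcard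
    · rw [Nat.card_congr (Equiv.subtypeEquivRight hdq), Nat.card_eq_fintype_card, Fintype.card_subtype]
      exact hZ
    · rw [Nat.card_congr (Equiv.subtypeEquivRight hdC), Nat.card_eq_fintype_card, Fintype.card_subtype]
      exact hCval

end Cfsg.Agent.H34.Deg
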