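import Cfsg.Agent.H34.Deg1
import Cfsg.Agent.H39.UniSL
import Cfsg.Agent.H39.PrinGL
import Cfsg.Agent.H39.PrinSL
import Cfsg.Agent.H39.Class2SL

/-!
Character degrees of `GL₂(q)` and `SL₂(q)`, `q` even.
-/

set_option autoImplicit false
set_option linter.unusedSectionVars false

namespace Cfsg.Agent.H34.Deg

open Cfsg Cfsg.Agent.CharBase Cfsg.Agent.H39 Matrix
open scoped ComplexConjugate

section frame

variable {F : Type*} [Field F] {G : Type*} [Group G] {ι : G →* GL (Fin 2) F} {u : F → G} {w : G}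

theorem comm_u_iff (h : Frame ι u w) (g : G) :
    g ∈ Subgroup.centralizer ({u 1} : Set G) ↔ mt ι g 1 0 = 0 ∧ mt ι g 0 0 = mt ι g 1 1 := by
  rw [Subgroup.mem_centralizer_singleton_iff]
  have h1 : g * u 1 = u 1 * g ↔ mt ι g * mt ι (u 1) = mt ι (u 1) * mt ι g := by
    rw [← mt_mul, ← mt_mul]
    exact ⟨fun hh => by rw [hh], fun hh => h.ext hh⟩
  rw [h1, h.hu]
  constructor
  · intro hh
    have e00 := congrFun (congrFun hh 0) 0
    have e01 := congrFun (congrFun hh 0) 1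
    simp [Matrix.mul_apply, Fin.sum_univ_two] at e00 e01
    constructor
    · exact e00
    · linear_combination e01
  · rintro ⟨h10, hd⟩
    ext i j
    fin_cases i <;> fin_cases j <;> simp [Matrix.mul_apply, Fin.sum_univ_two, h10, hd, add_comm]

end frame

section cent

variable {F : Type*} [Field F] [Fintype F]

theorem card_centralizer_sl :
    Nat.card (Subgroup.centralizer ({uSL (1 : F)} : Set (SpecialLinearGroup (Fin 2) F))) =
      Nat.card {ε : F // ε * ε = 1} * Fintype.card F := by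
  rw [← Nat.card_eq_fintype_card, ← Nat.card_prod]
  have hmem : ∀ g : SpecialLinearGroup (Fin 2) F, g ∈ Subgroup.centralizer ({uSL (1 : F)} : Set (SpecialLinearGroup (Fin 2) F)) ↔
      (g : Matrix (Fin 2) (Fin 2) F) 1 0 = 0 ∧ (g : Matrix (Fin 2) (Fin 2) F) 0 0 = (g : Matrix (Fin 2) (Fin 2) F) 1 1 :=
    fun g => comm_u_iff (frameSL F) g
  refine Nat.card_congr
    { toFun := fun g => (⟨(g : SpecialLinearGroup (Fin 2) F) 0 0, ?_⟩, (g : SpecialLinearGroup (Fin 2) F) 0 1)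
      invFun := fun q => ⟨uniSL q.1 q.2 q.1.2, ?_⟩
      left_inv := ?_
      right_inv := ?_ }
  · obtain ⟨h1, h2⟩ := (hmem _).mp g.2
    have h3 : (((g : SpecialLinearGroup (Fin 2) F)) : Matrix (Fin 2) (Fin 2) F).det = 1 := (g : SpecialLinearGroup (Fin 2) F).2
    rw [Matrix.det_fin_two, h1, mul_zero, sub_zero, ← h2] at h3
    exact h3
  · rw [hmem, uniSL_val]
    exact ⟨by simp, by simp⟩
  · intro g
    obtain ⟨h1, h2⟩ := (hmem _).mp g.2
    apply Subtype.ext
    apply Subtype.ext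
    rw [uniSL_val]
    ext i j
    fin_cases i <;> fin_cases j
    · rfl
    · rfl
    · exact h1.symm
    · exact h2
  · rintro ⟨⟨ε, hε⟩, b⟩
    rfl

theorem card_sq_one_even (h2 : (2 : F) = 0) : Nat.card {ε : F // ε * ε = 1} = 1 := by
  rw [Nat.card_eq_one_iff_unique]
  constructor
  · constructor
    rintro ⟨a, ha⟩ ⟨b, hb⟩
    apply Subtype.ext
    have key : ∀ c : F, c * c = 1 → c = 1 := by
      intro c hc
      have h3 : (c - 1) * (c - 1) = 0 := by linear_combination hc + (1 - c) * h2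
      exact sub_eq_zero.mp (mul_self_eq_zero.mp h3)
    exact (key a ha).trans (key b hb).symm
  · exact ⟨⟨1, one_mul 1⟩⟩

theorem card_sq_one_odd (h2 : (2 : F) ≠ 0) : Nat.card {ε : F // ε * ε = 1} = 2 := by
  classical
  have h1 : (1 : F) ≠ -1 := fun h => h2 (by linear_combination h)
  rw [Nat.card_eq_fintype_card, Fintype.card_subtype]
  have h3 : (Finset.univ.filter (fun ε : F => ε * ε = 1)) = {1, -1} := by
    ext ε
    simp only [Finset.mem_filter, Finset.mem_univ, true_and, Finset.mem_insert, Finset.mem_singleton]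
    exact mul_self_eq_one_iff
  rw [h3, Finset.card_pair h1]

theorem card_centralizer_gl :
    Nat.card (Subgroup.centralizer ({uG (1 : F)} : Set (GL (Fin 2) F))) = (Fintype.card F - 1) * Fintype.card F := by
  classical
  rw [← Fintype.card_units, ← Nat.card_eq_fintype_card, ← Nat.card_eq_fintype_card, ← Nat.card_prod]
  have hmem : ∀ g : GL (Fin 2) F, g ∈ Subgroup.centralizer ({uG (1 : F)} : Set (GL (Fin 2) F)) ↔
      (g : Matrix (Fin 2) (Fin 2) F) 1 0 = 0 ∧ (g : Matrix (Fin 2) (Fin 2) F) 0 0 = (g : Matrix (Fin 2) (Fin 2) F) 1 1 :=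
    fun g => comm_u_iff (frameGL F) g
  symm
  refine Nat.card_congr (Equiv.ofBijective (fun q : Fˣ × F =>
    (⟨(bGL ((q.1, q.1), q.2) : GL (Fin 2) F), ?_⟩ : Subgroup.centralizer ({uG (1 : F)} : Set (GL (Fin 2) F)))) ⟨?_, ?_⟩)
  · rw [hmem]
    exact ⟨rfl, rfl⟩
  · rintro ⟨a, b⟩ ⟨a', b'⟩ h
    have h1 : ((bGL ((a, a), b) : B2 (MonoidHom.id (GL (Fin 2) F))) : GL (Fin 2) F) = ((bGL ((a', a'), b') : B2 (MonoidHom.id (GL (Fin 2) F))) : GL (Fin 2) F) :=
      congrArg (fun x : Subgroup.centralizer ({uG (1 : F)} : Set (GL (Fin 2) F)) => (x : GL (Fin 2) F)) h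
    have h2 := bGL_bijective.1 (Subtype.ext h1)
    simp only [Prod.mk.injEq] at h2
    exact Prod.ext h2.1.1 h2.2
  · rintro ⟨g, hg⟩
    obtain ⟨h1, h2⟩ := (hmem _).mp hg
    obtain ⟨⟨⟨a, d⟩, b⟩, hb⟩ := bGL_bijective.2 (⟨g, (mem_B2 (MonoidHom.id _)).mpr h1⟩ : B2 (MonoidHom.id (GL (Fin 2) F)))
    have h3 : (bGL ((a, d), b) : GL (Fin 2) F) = g := congrArg Subtype.val hb
    have h4 : a = d := by
      apply Units.ext
      rw [← h3] at h2
      exact h2
    subst h4
    exact ⟨(a, b), Subtype.ext h3⟩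

theorem card_mulChar : Nat.card (MulChar F ℂ) = Fintype.card F - 1 := by
  classical
  rw [MulChar.card_eq_card_units_of_hasEnoughRootsOfUnity, Nat.card_eq_fintype_card, Fintype.card_units]

end cent

section slE

variable {F : Type*} [Field F] [Fintype F] [DecidableEq F]

theorem isIrr_stSL : IsIrrCharacter (SpecialLinearGroup (Fin 2) F) (pSL 1 - (fun _ => (1 : ℂ))) := by
  have h2 : classInner (pSL (1 : MulChar F ℂ)) (pSL 1) = 2 := by
    classical
    rw [classInner_prinSL, if_pos rfl, if_pos (one_mul 1)]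
    norm_num
  obtain ⟨χ₁, χ₂, hne, hadd⟩ := exists_add_of_norm_two (isCharacter_pSL 1) h2
  have h3 : classInner (fun _ => (1 : ℂ)) ((χ₁ : SpecialLinearGroup (Fin 2) F → ℂ) + (χ₂ : SpecialLinearGroup (Fin 2) F → ℂ)) ≠ 0 := by
    rw [← hadd, classInner_one_pSL_one]
    exact one_ne_zero
  rcases eq_or_eq_of_add Char.isIrrCharacter_one h3 with h4 | h4
  · have h5 : pSL 1 - (fun _ => (1 : ℂ)) = (χ₂ : SpecialLinearGroup (Fin 2) F → ℂ) := by
      rw [hadd, ← h4]; ring
    rw [h5]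
    exact χ₂.2
  · have h5 : pSL 1 - (fun _ => (1 : ℂ)) = (χ₁ : SpecialLinearGroup (Fin 2) F → ℂ) := by
      rw [hadd, ← h4]; ring
    rw [h5]
    exact χ₁.2

theorem isIrr_stGL (α : MulChar F ℂ) : IsIrrCharacter (GL (Fin 2) F) (pGL α α - (detHom α : GL (Fin 2) F → ℂ)) := by
  have h2 : classInner (pGL α α) (pGL α α) = 2 := by
    classical
    rw [classInner_prinGL]
    simp
    norm_num
  obtain ⟨χ₁, χ₂, hne, hadd⟩ := exists_add_of_norm_two (isCharacter_pGL α α) h2
  have h3 : classInner (detHom α : GL (Fin 2) F → ℂ) ((χ₁ : GL (Fin 2) F → ℂ) + (χ₂ : GL (Fin 2) F → ℂ)) ≠ 0 := by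
    rw [← hadd, classInner_det]
    exact one_ne_zero
  rcases eq_or_eq_of_add (Char.isIrrCharacter_of_hom (detHom α)) h3 with h4 | h4
  · have h5 : pGL α α - (detHom α : GL (Fin 2) F → ℂ) = (χ₂ : GL (Fin 2) F → ℂ) := by
      rw [hadd, ← h4]; ring
    rw [h5]
    exact χ₂.2
  · have h5 : pGL α α - (detHom α : GL (Fin 2) F → ℂ) = (χ₁ : GL (Fin 2) F → ℂ) := by
      rw [hadd, ← h4]; ring
    rw [h5]
    exact χ₁.2

end slE

end Cfsg.Agent.H34.Deg
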