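import Cfsg.Agent.H34.Deg2
import Cfsg.Agent.S2330
import Cfsg.Agent.S2331

/-!
Character degrees of `GL₂(q)` and `SL₂(q)`, `q` even: the results.
-/

set_option autoImplicit false
set_option linter.unusedSectionVars false

namespace Cfsg.Agent.H34.Deg

open Cfsg Cfsg.Agent.CharBase Cfsg.Agent.H39 Matrix
open scoped ComplexConjugate

variable {F : Type*} [Field F] [Fintype F] [DecidableEq F]

theorem uSL_one_ne : (uSL (1 : F)) ≠ 1 := by
  intro h
  have h1 := congrFun (congrFun (congrArg (fun g : SpecialLinearGroup (Fin 2) F => (g : Matrix (Fin 2) (Fin 2) F)) h) 0) 1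
  simp [uSL] at h1

theorem deg_sl_even (h2 : (2 : F) = 0) :
    (∀ χ : IrrCharacter (SpecialLinearGroup (Fin 2) F), ((χ : SpecialLinearGroup (Fin 2) F → ℂ) = fun _ => 1) ∨
      ((χ : SpecialLinearGroup (Fin 2) F → ℂ) = pSL 1 - (fun _ => (1 : ℂ))) ∨
      ((χ : SpecialLinearGroup (Fin 2) F → ℂ) 1 = Fintype.card F + 1 ∧ (χ : SpecialLinearGroup (Fin 2) F → ℂ) (uSL 1) = 1) ∨
      ((χ : SpecialLinearGroup (Fin 2) F → ℂ) 1 = Fintype.card F - 1 ∧ (χ : SpecialLinearGroup (Fin 2) F → ℂ) (uSL 1) = -1)) ∧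
    (Nat.card {χ : IrrCharacter (SpecialLinearGroup (Fin 2) F) // (χ : SpecialLinearGroup (Fin 2) F → ℂ) 1 = (Fintype.card F : ℂ) + 1} * 2 + 2 =
      Fintype.card F) ∧
    (3 ≤ Fintype.card F → Nat.card {χ : IrrCharacter (SpecialLinearGroup (Fin 2) F) // (χ : SpecialLinearGroup (Fin 2) F → ℂ) 1 = 1} = 1 ∧
      Nat.card {χ : IrrCharacter (SpecialLinearGroup (Fin 2) F) // (χ : SpecialLinearGroup (Fin 2) F → ℂ) 1 = (Fintype.card F : ℂ)} = 1 ∧
      Nat.card {χ : IrrCharacter (SpecialLinearGroup (Fin 2) F) // (χ : SpecialLinearGroup (Fin 2) F → ℂ) 1 = (Fintype.card F : ℂ) - 1} * 2 =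
        Fintype.card F) := by
  have key := deg_count (G := SpecialLinearGroup (Fin 2) F) (ι := Unit) 1 (Fintype.card F) Fintype.one_lt_card (uSL 1)
    (by
      haveI : CharP F 2 := CharTwo.of_one_ne_zero_of_two_eq_zero one_ne_zero h2
      rw [S2331.result, one_mul])
    (by rw [card_centralizer_sl, card_sq_one_even h2])
    uSL_one_ne (by simp) (fun _ => ⟨_, Char.isIrrCharacter_one⟩) (fun _ => ⟨_, isIrr_stSL⟩)
    (fun _ _ _ => rfl) (fun _ _ _ => rfl) (fun _ => rfl) (fun _ => rfl)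
    (fun _ => by
      show pSL 1 1 - 1 = _
      rw [pSL_one]; ring)
    (fun _ => by
      show pSL 1 (uSL 1) - 1 = _
      rw [pSL_u 1 one_ne_zero]; ring)
    (by
      intro χ
      by_cases h0 : ∑ x : F, (χ : SpecialLinearGroup (Fin 2) F → ℂ) (uSL x) = 0
      · right; right; right
        obtain ⟨e, he1, he3, -⟩ := even_data h2 χ.2 h0
        refine ⟨e, ?_, he1, he3⟩
        rcases Nat.eq_zero_or_pos e with rfl | h
        · exfalso
          apply irr_one_ne_zero χ.2
          rw [he1]; simp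
        · exact h
      · rcases prinSL_cases χ.2 h0 with ⟨α, h⟩ | h | h | ⟨α, χ₁, χ₂, hα, hα1, -, -, -⟩
        · right; right; left
          rw [h, pSL_one, pSL_u α one_ne_zero]
          exact ⟨rfl, rfl⟩
        · exact Or.inl ⟨(), Subtype.ext h⟩
        · exact Or.inr (Or.inl ⟨(), Subtype.ext h⟩)
        · exfalso
          apply hα1
          have h4 : α ^ (Fintype.card F - 1) = 1 := by
            haveI : Finite (MulChar F ℂ) := inferInstance
            rw [← card_mulChar]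
            exact pow_card_eq_one'
          have hodd : ¬ 2 ∣ Fintype.card F - 1 := by
            haveI : CharP F 2 := CharTwo.of_one_ne_zero_of_two_eq_zero one_ne_zero h2
            have h5 : 2 ∣ Fintype.card F := by
              rw [← CharP.cast_eq_zero_iff F 2, FiniteField.cast_card_eq_zero]
            have := Fintype.one_lt_card (α := F)
            omega
          obtain ⟨k, hk⟩ : ∃ k, Fintype.card F - 1 = 2 * k + 1 := ⟨(Fintype.card F - 1) / 2, by omega⟩
          rw [hk, pow_succ, pow_mul, sq, hα, one_pow, one_mul] at h4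
          exact h4)
  obtain ⟨k1, k2, k3⟩ := key
  refine ⟨?_, by omega, ?_⟩
  · intro χ
    rcases k1 χ with ⟨-, h⟩ | ⟨-, h⟩ | h | h
    · exact Or.inl (congrArg Subtype.val h)
    · exact Or.inr (Or.inl (congrArg Subtype.val h))
    · exact Or.inr (Or.inr (Or.inl h))
    · exact Or.inr (Or.inr (Or.inr h))
  · intro hq
    obtain ⟨l1, l2, l3⟩ := k3 hq
    exact ⟨l1, l2, by omega⟩

theorem uG_one_ne : (uG (1 : F)) ≠ 1 := by
  intro h
  have h1 : (!![1, 1; 0, 1] : Matrix (Fin 2) (Fin 2) F) = 1 :=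
    congrArg (fun g : GL (Fin 2) F => (g : Matrix (Fin 2) (Fin 2) F)) h
  have h2 := congrFun (congrFun h1 0) 1
  simp at h2

theorem pGL_dG (α : MulChar F ℂ) (c : Fˣ) (hc : c ≠ 1) : pGL α α (dG c) = α c + α c := by
  have h1 : mt (idGL F) (dG c) = !![(c : F), 0; 0, 1] := rfl
  rw [pGL, (frameGL F).prin_split α α (dG c) (by rw [h1]; simp) (by rw [h1]; simp) (by
    rw [h1]
    simp
    exact hc), h1]
  simp

theorem detHom_dG (α : MulChar F ℂ) (c : Fˣ) : detHom α (dG c) = α c := by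
  have h1 : (dG c : Matrix (Fin 2) (Fin 2) F) = !![(c : F), 0; 0, 1] := rfl
  show α (dG c : Matrix (Fin 2) (Fin 2) F).det = _
  rw [h1, Matrix.det_fin_two]
  simp

noncomputable instance fintypeMulChar : Fintype (MulChar F ℂ) := Fintype.ofFinite _

theorem deg_gl :
    (∀ χ : IrrCharacter (GL (Fin 2) F), (∃ α : MulChar F ℂ, (χ : GL (Fin 2) F → ℂ) = detHom α) ∨
      (∃ α : MulChar F ℂ, (χ : GL (Fin 2) F → ℂ) = pGL α α - (detHom α : GL (Fin 2) F → ℂ)) ∨
      ((χ : GL (Fin 2) F → ℂ) 1 = Fintype.card F + 1 ∧ (χ : GL (Fin 2) F → ℂ) (uG 1) = 1) ∨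
      ((χ : GL (Fin 2) F → ℂ) 1 = Fintype.card F - 1 ∧ (χ : GL (Fin 2) F → ℂ) (uG 1) = -1)) ∧
    (Nat.card {χ : IrrCharacter (GL (Fin 2) F) // (χ : GL (Fin 2) F → ℂ) 1 = (Fintype.card F : ℂ) + 1} * 2 + 2 * (Fintype.card F - 1) =
      (Fintype.card F - 1) * Fintype.card F) ∧
    (3 ≤ Fintype.card F → Nat.card {χ : IrrCharacter (GL (Fin 2) F) // (χ : GL (Fin 2) F → ℂ) 1 = 1} = Fintype.card F - 1 ∧
      Nat.card {χ : IrrCharacter (GL (Fin 2) F) // (χ : GL (Fin 2) F → ℂ) 1 = (Fintype.card F : ℂ)} = Fintype.card F - 1 ∧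
      Nat.card {χ : IrrCharacter (GL (Fin 2) F) // (χ : GL (Fin 2) F → ℂ) 1 = (Fintype.card F : ℂ) - 1} * 2 =
        (Fintype.card F - 1) * Fintype.card F) := by
  have key := deg_count (G := GL (Fin 2) F) (ι := MulChar F ℂ) (Fintype.card F - 1) (Fintype.card F) Fintype.one_lt_card (uG 1)
    (by
      rw [S2330.result]
      obtain ⟨n, hn⟩ : ∃ n, Fintype.card F = n + 1 := ⟨Fintype.card F - 1, by have := Fintype.card_pos (α := F); omega⟩
      rw [hn, Nat.add_sub_cancel]
      have : (n + 1) ^ 2 = n * (n + 1 + 1) + 1 := by ring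
      rw [this, Nat.add_sub_cancel])
    (by rw [card_centralizer_gl])
    uG_one_ne (by rw [← card_mulChar (F := F), Nat.card_eq_fintype_card])
    (fun α => ⟨_, Char.isIrrCharacter_of_hom (detHom α)⟩) (fun α => ⟨_, isIrr_stGL α⟩)
    (by
      intro α β h
      have h1 : (detHom α : GL (Fin 2) F → ℂ) = detHom β := congrArg Subtype.val h
      apply MulChar.ext
      intro c
      rw [← detHom_dG, ← detHom_dG]
      exact congrFun h1 _)
    (by
      intro α β h
      have h1 : pGL α α - (detHom α : GL (Fin 2) F → ℂ) = pGL β β - (detHom β : GL (Fin 2) F → ℂ) := congrArg Subtype.val h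
      apply MulChar.ext
      intro c
      by_cases hc : c = 1
      · rw [hc]; simp
      · have h2 := congrFun h1 (dG c)
        rw [Pi.sub_apply, Pi.sub_apply, pGL_dG α c hc, pGL_dG β c hc, detHom_dG, detHom_dG] at h2
        linear_combination h2)
    (fun α => map_one (detHom α)) (fun α => detHom_u α 1)
    (fun α => by
      show pGL α α 1 - detHom α 1 = _
      rw [pGL_one, map_one]; ring)
    (fun α => by
      show pGL α α (uG 1) - detHom α (uG 1) = _
      rw [pGL_u, detHom_u]; ring)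
    (by
      intro χ
      by_cases h0 : ∑ x : F, (χ : GL (Fin 2) F → ℂ) (uG x) = 0
      · right; right; right
        obtain ⟨e, he1, he3, -⟩ := cuspGL χ.2 h0
        refine ⟨e, ?_, he1, he3⟩
        rcases Nat.eq_zero_or_pos e with rfl | h
        · exfalso
          apply irr_one_ne_zero χ.2
          rw [he1]; simp
        · exact h
      · rcases prinGL_cases χ.2 h0 with ⟨α, β, h⟩ | ⟨α, h⟩ | ⟨α, h⟩
        · right; right; left
          rw [h, pGL_one, pGL_u]
          exact ⟨rfl, rfl⟩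
        · exact Or.inl ⟨α, Subtype.ext h⟩
        · exact Or.inr (Or.inl ⟨α, Subtype.ext h⟩))
  obtain ⟨k1, k2, k3⟩ := key
  refine ⟨?_, k2, k3⟩
  intro χ
  rcases k1 χ with ⟨α, h⟩ | ⟨α, h⟩ | h | h
  · exact Or.inl ⟨α, congrArg Subtype.val h⟩
  · exact Or.inr (Or.inl ⟨α, congrArg Subtype.val h⟩)
  · exact Or.inr (Or.inr (Or.inl h))
  · exact Or.inr (Or.inr (Or.inr h))

end Cfsg.Agent.H34.Deg
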