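import Cfsg.Agent.H34.Deg3
import Cfsg.Agent.S2325

/-!
Character degrees of `SL₂(q)`, `q` odd.
-/

set_option autoImplicit false
set_option linter.unusedSectionVars false

namespace Cfsg.Agent.H34.Deg

open Cfsg Cfsg.Agent.CharBase Cfsg.Agent.H39 Matrix
open scoped ComplexConjugate

section frame

variable {F : Type*} [Field F] {G : Type*} [Group G] {ι : G →* GL (Fin 2) F} {u : F → G} {w : G}

theorem comm_u_iff' (h : Frame ι u w) {x : F} (hx : x ≠ 0) (g : G) :
    g ∈ Subgroup.centralizer ({u x} : Set G) ↔ mt ι g 1 0 = 0 ∧ mt ι g 0 0 = mt ι g 1 1 := by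
  rw [Subgroup.mem_centralizer_singleton_iff]
  have h1 : g * u x = u x * g ↔ mt ι g * mt ι (u x) = mt ι (u x) * mt ι g := by
    rw [← mt_mul, ← mt_mul]
    exact ⟨fun hh => by rw [hh], fun hh => h.ext hh⟩
  rw [h1, h.hu]
  constructor
  · intro hh
    have e00 := congrFun (congrFun hh 0) 0
    have e01 := congrFun (congrFun hh 0) 1
    simp [Matrix.mul_apply, Fin.sum_univ_two] at e00 e01
    have h10 : mt ι g 1 0 = 0 := e00.resolve_left hx
    refine ⟨h10, ?_⟩
    apply mul_left_cancel₀ hx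
    linear_combination e01
  · rintro ⟨h10, hd⟩
    ext i j
    fin_cases i <;> fin_cases j <;> simp [Matrix.mul_apply, Fin.sum_univ_two, h10, hd, add_comm, mul_comm]

end frame

variable {F : Type*} [Field F] [Fintype F] [DecidableEq F]

theorem centralizer_u_eq {x : F} (hx : x ≠ 0) :
    Subgroup.centralizer ({uSL x} : Set (SpecialLinearGroup (Fin 2) F)) = Subgroup.centralizer ({uSL (1 : F)} : Set (SpecialLinearGroup (Fin 2) F)) := by
  ext g
  rw [comm_u_iff' (frameSL F) hx, comm_u_iff (frameSL F)]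

theorem card_centralizer_u_odd (hF : ringChar F ≠ 2) {x : F} (hx : x ≠ 0) :
    Nat.card (Subgroup.centralizer ({uSL x} : Set (SpecialLinearGroup (Fin 2) F))) = 2 * Fintype.card F := by
  rw [centralizer_u_eq hx, card_centralizer_sl, card_sq_one_odd (two_ne_zero_of hF)]

theorem not_isConj_u {ν : F} (hν : ¬ IsSquare ν) : ¬ IsConj (uSL (1 : F)) (uSL ν) := by
  intro h
  have e1 : ∀ x : F, uSL x = uniSL 1 x (one_mul 1) := fun x => rfl
  rw [e1, e1] at h
  obtain ⟨s, hs, hsν⟩ := (of_isConj_uniSL (one_mul 1) (one_mul 1) one_ne_zero h).2 rfl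
  exact hν ⟨s, by rw [hsν, mul_one]⟩

theorem eta_unique (hF : ringChar F ≠ 2) {α : MulChar F ℂ} (h1 : α * α = 1) (h2 : α ≠ 1) : α = eta F := by
  have hval : ∀ x : F, x ≠ 0 → α x = 1 ∨ α x = -1 := by
    intro x hx
    have h3 : α x * α x = 1 := by
      have h4 := congrArg (fun β : MulChar F ℂ => β x) h1
      simp only [MulChar.mul_apply] at h4
      rwa [MulChar.one_apply (IsUnit.mk0 _ hx)] at h4
    exact mul_self_eq_one_iff.mp h3
  have hsq : ∀ x : F, x ≠ 0 → IsSquare x → α x = 1 := by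
    rintro x hx ⟨s, rfl⟩
    have hs : s ≠ 0 := fun h => hx (by rw [h, mul_zero])
    rw [map_mul]
    rcases hval s hs with h | h <;> rw [h] <;> norm_num
  have hnsq : ∀ x : F, x ≠ 0 → ¬ IsSquare x → α x = -1 := by
    intro x hx hns
    rcases hval x hx with h | h
    · exfalso
      apply h2
      ext y
      rw [MulChar.one_apply y.isUnit]
      by_cases hy : IsSquare (y : F)
      · exact hsq _ y.ne_zero hy
      · have h3 : IsSquare ((y : F) * x) := by
          have e1 := quadraticChar_neg_one_iff_not_isSquare.2 hy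
          have e2 := quadraticChar_neg_one_iff_not_isSquare.2 hns
          rw [← quadraticChar_one_iff_isSquare (mul_ne_zero y.ne_zero hx), map_mul, e1, e2]
          norm_num
        have h4 := hsq _ (mul_ne_zero y.ne_zero hx) h3
        rw [map_mul, h, mul_one] at h4
        exact h4
    · exact h
  ext y
  rw [eta_apply]
  by_cases hy : IsSquare (y : F)
  · rw [hsq _ y.ne_zero hy, (quadraticChar_one_iff_isSquare y.ne_zero).2 hy]
    norm_num
  · rw [hnsq _ y.ne_zero hy, quadraticChar_neg_one_iff_not_isSquare.2 hy]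
    norm_num

theorem eta_sq (F : Type*) [Field F] [Fintype F] [DecidableEq F] : eta F * eta F = 1 := by
  ext y
  rw [MulChar.mul_apply, MulChar.one_apply y.isUnit]
  exact eta_sq_one y.ne_zero

/-- hat of the constant function -/
theorem hat_one {ψ : AddChar F ℂ} (hψ : ψ.IsPrimitive) (a : F) :
    hatC ψ (fun _ => (1 : ℂ)) a = if a = 0 then 1 else 0 := by
  rw [hatC]
  have h1 : ∀ x : F, (1 : ℂ) * conj (ψ (a * x)) = conj (ψ (x * a)) := fun x => by rw [one_mul, mul_comm]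
  rw [Finset.sum_congr rfl (fun x _ => h1 x), ← map_sum, AddChar.sum_mulShift _ hψ]
  split_ifs with h
  · rw [Complex.conj_natCast, inv_mul_cancel₀ (card_ne F)]
  · simp

theorem hat_add_fun (ψ : AddChar F ℂ) (f g : F → ℂ) (a : F) :
    hatC ψ (fun x => f x + g x) a = hatC ψ f a + hatC ψ g a := by
  simp only [hatC, add_mul, Finset.sum_add_distrib, mul_add]

theorem hat_sub_fun (ψ : AddChar F ℂ) (f g : F → ℂ) (a : F) :
    hatC ψ (fun x => f x - g x) a = hatC ψ f a - hatC ψ g a := by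
  simp only [hatC, sub_mul, Finset.sum_sub_distrib, mul_sub]

/-- data of an irreducible character on the unipotent subgroup -/
structure UData (ψ : AddChar F ℂ) (ν : F) (χ : SpecialLinearGroup (Fin 2) F → ℂ) (a b c : ℕ) : Prop where
  h0 : hatC ψ (fun x => χ (uSL x)) 0 = a
  h1 : hatC ψ (fun x => χ (uSL x)) 1 = b
  hν : hatC ψ (fun x => χ (uSL x)) ν = c
  deg : 2 * χ 1 = 2 * a + (b + c) * ((Fintype.card F : ℂ) - 1)
  val : ∀ x, x ≠ 0 → 2 * χ (uSL x) = 2 * a - (b + c) + (b - c) * (eta F x * gaussSum (eta F) ψ)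
  sum : ∑ x : F, χ (uSL x) = Fintype.card F * (a : ℂ)

theorem exists_udata (hF : ringChar F ≠ 2) {ψ : AddChar F ℂ} (hψ : ψ.IsPrimitive) {ν : F} (hν : ¬ IsSquare ν)
    {χ : SpecialLinearGroup (Fin 2) F → ℂ} (hχ : IsCharacter _ χ) : ∃ a b c, UData ψ ν χ a b c := by
  choose m hm using (frameSL F).hat_nat hχ ψ
  have hcl := isClassFunction_of_isCharacter hχ
  obtain ⟨h1, h2⟩ := value_odd hF hcl hψ hm hν
  exact ⟨m 0, m 1, m ν, hm 0, hm 1, hm ν, by rw [h1]; ring, fun x hx => by rw [h2 x hx]; ring, mult_zero hm⟩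

theorem UData.unique {ψ : AddChar F ℂ} {ν : F} {χ : SpecialLinearGroup (Fin 2) F → ℂ} {a b c a' b' c' : ℕ}
    (h : UData ψ ν χ a b c) (h' : UData ψ ν χ a' b' c') : a = a' ∧ b = b' ∧ c = c' := by
  refine ⟨?_, ?_, ?_⟩
  · have := h.h0.symm.trans h'.h0
    exact_mod_cast this
  · have := h.h1.symm.trans h'.h1
    exact_mod_cast this
  · have := h.hν.symm.trans h'.hν
    exact_mod_cast this

theorem udata_one {ψ : AddChar F ℂ} (hψ : ψ.IsPrimitive) {ν : F} (hν0 : ν ≠ 0) :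
    UData ψ ν (fun _ => 1) 1 0 0 where
  h0 := by rw [hat_one hψ, if_pos rfl]; norm_num
  h1 := by rw [hat_one hψ, if_neg one_ne_zero]; norm_num
  hν := by rw [hat_one hψ, if_neg hν0]; norm_num
  deg := by push_cast; ring
  val := fun x _ => by push_cast; ring
  sum := by simp

theorem udata_st {ψ : AddChar F ℂ} (hψ : ψ.IsPrimitive) {ν : F} (hν0 : ν ≠ 0) :
    UData ψ ν (pSL 1 - (fun _ => (1 : ℂ)) : SpecialLinearGroup (Fin 2) F → ℂ) 1 1 1 := by
  have hsub : ∀ x, hatC ψ (fun x => (pSL 1 - (fun _ => (1 : ℂ)) : SpecialLinearGroup (Fin 2) F → ℂ) (uSL x)) x =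
      (if x = 0 then 2 else 1) - (if x = 0 then 1 else 0) := by
    intro x
    rw [← hat_pSL hψ 1, ← hat_one hψ]
    exact hat_sub_fun ψ _ _ x
  refine ⟨?_, ?_, ?_, ?_, ?_, ?_⟩
  · rw [hsub, if_pos rfl, if_pos rfl]; norm_num
  · rw [hsub, if_neg one_ne_zero, if_neg one_ne_zero]; norm_num
  · rw [hsub, if_neg hν0, if_neg hν0]; norm_num
  · rw [Pi.sub_apply, pSL_one]; push_cast; ring
  · intro x hx
    rw [Pi.sub_apply, pSL_u 1 hx]; push_cast; ring
  · have h1 := hsub 0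
    rw [if_pos rfl, if_pos rfl] at h1
    simp only [hatC, zero_mul, AddChar.map_zero_eq_one, map_one, mul_one] at h1
    have h2 : (Fintype.card F : ℂ) * ((Fintype.card F : ℂ)⁻¹ * ∑ x, (pSL 1 - (fun _ => (1 : ℂ)) : SpecialLinearGroup (Fin 2) F → ℂ) (uSL x)) =
      Fintype.card F * (2 - 1) := by rw [h1]
    rw [mul_inv_cancel_left₀ (card_ne F)] at h2
    rw [h2]; push_cast; ring

theorem half_triple (hF : ringChar F ≠ 2) {ψ : AddChar F ℂ} (hψ : ψ.IsPrimitive) {ν : F} (hν : ¬ IsSquare ν)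
    {χ₁ χ₂ : IrrCharacter (SpecialLinearGroup (Fin 2) F)} (hne : χ₁ ≠ χ₂)
    (hadd : pSL (eta F) = (χ₁ : SpecialLinearGroup (Fin 2) F → ℂ) + (χ₂ : SpecialLinearGroup (Fin 2) F → ℂ))
    {a b c : ℕ} (hu : UData ψ ν (χ₁ : SpecialLinearGroup (Fin 2) F → ℂ) a b c) : a = 1 ∧ b + c = 1 := by
  have hq : 1 < Fintype.card F := Fintype.one_lt_card
  have hν0 : ν ≠ 0 := by rintro rfl; exact hν (by simp)
  have hodd := FiniteField.odd_card_of_char_ne_two hF
  obtain ⟨k, hk⟩ : ∃ k, Fintype.card F = 2 * k + 1 := ⟨Fintype.card F / 2, by omega⟩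
  have hpsl : ∀ (α : MulChar F ℂ) (x : F), hatC ψ (fun x => pSL α (uSL x)) x = if x = 0 then 2 else 1 := hat_pSL hψ
  have hα1 := eta_ne_one hF
  obtain ⟨a', b', c', hu'⟩ := exists_udata hF hψ hν (irr_isCharacter χ₂)
  have hsum : ∀ x, hatC ψ (fun x => (χ₁ : SpecialLinearGroup (Fin 2) F → ℂ) (uSL x)) x + hatC ψ (fun x => (χ₂ : SpecialLinearGroup (Fin 2) F → ℂ) (uSL x)) x =
      if x = 0 then 2 else 1 := by
    intro x
    rw [← hpsl (eta F), ← hat_add_fun, hadd]
    rfl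
  have s1 := hsum 1
  have s2 := hsum ν
  rw [hu.h1, hu'.h1, if_neg one_ne_zero] at s1
  rw [hu.hν, hu'.hν, if_neg hν0] at s2
  have t1 : b + b' = 1 := by exact_mod_cast s1
  have t2 : c + c' = 1 := by exact_mod_cast s2
  have hapos : ∀ {χ' : IrrCharacter (SpecialLinearGroup (Fin 2) F)} {a b c : ℕ}, UData ψ ν (χ' : SpecialLinearGroup (Fin 2) F → ℂ) a b c →
      (χ' = χ₁ ∨ χ' = χ₂) → 0 < a ∧ 2 * a + (b + c) * (2 * k) = 2 * k + 2 := by
    intro χ' a b c hu3 h3
    constructor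
    · rcases Nat.eq_zero_or_pos a with rfl | h4
      · exfalso
        have h5 := hu3.sum
        rw [Nat.cast_zero, mul_zero] at h5
        refine sum_ne_zero_of_pSL (irr_isCharacter χ') (α := eta F) ?_ h5
        rw [hadd, classInner_add_right]
        rcases h3 with rfl | rfl
        · rw [classInner_irr_self, classInner_irr_of_ne hne, add_zero]; exact one_ne_zero
        · rw [classInner_irr_self, classInner_irr_of_ne hne.symm, zero_add]; exact one_ne_zero
      · exact h4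
    · obtain ⟨d1, d2⟩ := halves_degree hα1 hne hadd
      have h4 := hu3.deg
      have h5 : 2 * (χ' : SpecialLinearGroup (Fin 2) F → ℂ) 1 = (Fintype.card F : ℂ) + 1 := by
        rcases h3 with rfl | rfl
        · exact d1
        · exact d2
      rw [h5, hk] at h4
      have h6 : ((2 * a + (b + c) * (2 * k) : ℕ) : ℂ) = ((2 * k + 2 : ℕ) : ℂ) := by
        push_cast at h4 ⊢
        linear_combination -h4
      exact_mod_cast h6
  obtain ⟨p1, p2⟩ := hapos hu (Or.inl rfl)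
  obtain ⟨p3, p4⟩ := hapos hu' (Or.inr rfl)
  have hk0 : 0 < k := by omega
  have hle : ∀ s t : ℕ, 0 < t → 2 * t + s * (2 * k) = 2 * k + 2 → s ≤ 1 := by
    intro s t ht hst
    by_contra hs
    have : 2 * (2 * k) ≤ s * (2 * k) := Nat.mul_le_mul_right _ (by omega)
    omega
  have q1 := hle _ _ p1 p2
  have q2 := hle _ _ p3 p4
  have q3 : b + c = 1 := by omega
  rw [q3] at p2
  exact ⟨by omega, q3⟩

/-- the types -/
theorem types_odd (hF : ringChar F ≠ 2) {ψ : AddChar F ℂ} (hψ : ψ.IsPrimitive) {ν : F} (hν : ¬ IsSquare ν)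
    {χ₁ χ₂ : IrrCharacter (SpecialLinearGroup (Fin 2) F)} (hne0 : χ₁ ≠ χ₂)
    (hadd : pSL (eta F) = (χ₁ : SpecialLinearGroup (Fin 2) F → ℂ) + (χ₂ : SpecialLinearGroup (Fin 2) F → ℂ))
    {χ : IrrCharacter (SpecialLinearGroup (Fin 2) F)} {a b c : ℕ} (hu : UData ψ ν (χ : SpecialLinearGroup (Fin 2) F → ℂ) a b c) :
      ((χ : SpecialLinearGroup (Fin 2) F → ℂ) = (fun _ => 1) ∧ a = 1 ∧ b = 0 ∧ c = 0) ∨
       ((χ : SpecialLinearGroup (Fin 2) F → ℂ) = pSL 1 - (fun _ => (1 : ℂ)) ∧ a = 1 ∧ b = 1 ∧ c = 1) ∨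
       (a = 2 ∧ b = 1 ∧ c = 1) ∨ ((χ = χ₁ ∨ χ = χ₂) ∧ a = 1 ∧ b + c = 1) ∨ (a = 0 ∧ 0 < b + c) := by
  have hν0 : ν ≠ 0 := by rintro rfl; exact hν (by simp)
  by_cases h0 : ∑ x : F, (χ : SpecialLinearGroup (Fin 2) F → ℂ) (uSL x) = 0
  · right; right; right; right
    have ha : a = 0 := by
      have h1 := hu.sum
      rw [h0] at h1
      have := (mul_eq_zero.1 h1.symm).resolve_left (card_ne F)
      exact_mod_cast this
    refine ⟨ha, ?_⟩
    rcases Nat.eq_zero_or_pos (b + c) with h | h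
    · exfalso
      apply irr_one_ne_zero χ.2
      have h1 := hu.deg
      have hb : b = 0 := by omega
      have hc : c = 0 := by omega
      rw [ha, hb, hc] at h1
      simpa using h1
    · exact h
  · have hpsl : ∀ (α : MulChar F ℂ) (x : F), hatC ψ (fun x => pSL α (uSL x)) x = if x = 0 then 2 else 1 := hat_pSL hψ
    rcases prinSL_cases χ.2 h0 with ⟨α, h⟩ | h | h | ⟨α, χ₁', χ₂', hα, hα1, hne, hadd', hχ⟩
    · right; right; left
      have e0 := hu.h0
      have e1 := hu.h1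
      have eν := hu.hν
      rw [h, hpsl] at e0 e1 eν
      rw [if_pos rfl] at e0
      rw [if_neg one_ne_zero] at e1
      rw [if_neg hν0] at eν
      exact ⟨by exact_mod_cast e0.symm, by exact_mod_cast e1.symm, by exact_mod_cast eν.symm⟩
    · left
      rw [h] at hu
      exact ⟨h, hu.unique (udata_one hψ hν0)⟩
    · right; left
      rw [h] at hu
      exact ⟨h, hu.unique (udata_st hψ hν0)⟩
    · right; right; right; left
      have hαe := eta_unique hF hα hα1
      subst hαe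
      have hχ' : χ = χ₁' := Subtype.ext hχ
      have h1 : classInner (χ : SpecialLinearGroup (Fin 2) F → ℂ) ((χ₁ : SpecialLinearGroup (Fin 2) F → ℂ) + (χ₂ : SpecialLinearGroup (Fin 2) F → ℂ)) ≠ 0 := by
        rw [← hadd, hadd', classInner_add_right, hχ', classInner_irr_self, classInner_irr_of_ne hne, add_zero]
        exact one_ne_zero
      rw [hχ'] at hu
      refine ⟨?_, half_triple hF hψ hν hne hadd' hu⟩
      rcases eq_or_eq_of_add χ.2 h1 with h2 | h2
      · exact Or.inl (Subtype.ext h2)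
      · exact Or.inr (Subtype.ext h2)

/-- the counting theorem in odd characteristic -/
theorem count_odd (hF : ringChar F ≠ 2) {ψ : AddChar F ℂ} (hψ : ψ.IsPrimitive) {ν : F} (hν : ¬ IsSquare ν) :
    ∃ (a b c : IrrCharacter (SpecialLinearGroup (Fin 2) F) → ℕ), (∀ χ : IrrCharacter (SpecialLinearGroup (Fin 2) F),
        UData ψ ν (χ : SpecialLinearGroup (Fin 2) F → ℂ) (a χ) (b χ) (c χ)) ∧
      (∀ χ : IrrCharacter (SpecialLinearGroup (Fin 2) F), ((χ : SpecialLinearGroup (Fin 2) F → ℂ) = (fun _ => 1) ∧ a χ = 1 ∧ b χ = 0 ∧ c χ = 0) ∨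
       ((χ : SpecialLinearGroup (Fin 2) F → ℂ) = pSL 1 - (fun _ => (1 : ℂ)) ∧ a χ = 1 ∧ b χ = 1 ∧ c χ = 1) ∨
       (a χ = 2 ∧ b χ = 1 ∧ c χ = 1) ∨ (a χ = 1 ∧ b χ + c χ = 1) ∨ (a χ = 0 ∧ b χ = 1 ∧ c χ = 1) ∨ (a χ = 0 ∧ b χ + c χ = 1)) ∧
      Nat.card {χ : IrrCharacter (SpecialLinearGroup (Fin 2) F) // a χ = 1 ∧ b χ + c χ = 0} = 1 ∧
      Nat.card {χ : IrrCharacter (SpecialLinearGroup (Fin 2) F) // a χ = 1 ∧ b χ + c χ = 2} = 1 ∧
      Nat.card {χ : IrrCharacter (SpecialLinearGroup (Fin 2) F) // a χ = 2} * 2 + 3 = Fintype.card F ∧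
      Nat.card {χ : IrrCharacter (SpecialLinearGroup (Fin 2) F) // a χ = 1 ∧ b χ + c χ = 1} = 2 ∧
      Nat.card {χ : IrrCharacter (SpecialLinearGroup (Fin 2) F) // a χ = 0 ∧ b χ + c χ = 2} * 2 + 1 = Fintype.card F ∧
      Nat.card {χ : IrrCharacter (SpecialLinearGroup (Fin 2) F) // a χ = 0 ∧ b χ + c χ = 1} = 2 := by
  classical
  haveI : Fintype (IrrCharacter (SpecialLinearGroup (Fin 2) F)) := Fintype.ofFinite _
  have hq : 1 < Fintype.card F := Fintype.one_lt_card
  have hodd := FiniteField.odd_card_of_char_ne_two hF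
  have hν0 : ν ≠ 0 := by rintro rfl; exact hν (by simp)
  obtain ⟨k, hk⟩ : ∃ k, Fintype.card F = 2 * k + 1 := ⟨Fintype.card F / 2, by omega⟩
  have hk0 : 0 < k := by omega
  have h2 : classInner (pSL (eta F)) (pSL (eta F)) = 2 := by
    rw [classInner_prinSL, if_pos rfl, if_pos (eta_sq F)]
    norm_num
  obtain ⟨χ₁, χ₂, hne, hadd⟩ := exists_add_of_norm_two (isCharacter_pSL (eta F)) h2
  choose a b c hu using fun χ : IrrCharacter (SpecialLinearGroup (Fin 2) F) => exists_udata hF hψ hν (irr_isCharacter χ)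
  have hty := fun χ : IrrCharacter (SpecialLinearGroup (Fin 2) F) => types_odd hF hψ hν hne hadd (hu χ)
  -- values
  set g : ℂ := gaussSum (eta F) ψ with hg
  have hgg : g * conj g = Fintype.card F := by
    have h3 : ‖g‖ ^ 2 = Fintype.card F := by
      have h4 := gaussSum_sq (χ := eta F) (eta_ne_one hF) (by
        have := eta_sq F
        rw [MulChar.IsQuadratic]
        intro x
        by_cases hx : x = 0
        · left; rw [hx, eta_zero]
        · right
          exact mul_self_eq_one_iff.mp (eta_sq_one hx)) hψ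
      have h5 := congrArg norm h4
      rw [norm_pow] at h5
      rw [hg, h5, norm_mul, Complex.norm_natCast]
      have h6 : ‖eta F (-1)‖ = 1 := by
        rcases mul_self_eq_one_iff.mp (eta_sq_one (neg_ne_zero.mpr (one_ne_zero (α := F)))) with h | h <;> rw [h] <;> simp
      rw [h6, one_mul]
    rw [Complex.mul_conj, Complex.normSq_eq_norm_sq, h3]
    norm_num
  have he1 : eta F 1 = 1 := map_one _
  have heν : eta F ν = -1 := by
    rw [eta_apply, quadraticChar_neg_one_iff_not_isSquare.2 hν]; norm_num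
  have hX : ∀ χ : IrrCharacter (SpecialLinearGroup (Fin 2) F), (χ : SpecialLinearGroup (Fin 2) F → ℂ) (uSL 1) +
      (χ : SpecialLinearGroup (Fin 2) F → ℂ) (uSL ν) = ((2 * a χ - (b χ + c χ) : ℤ) : ℂ) := by
    intro χ
    have e1 := (hu χ).val 1 one_ne_zero
    have e2 := (hu χ).val ν hν0
    rw [he1] at e1
    rw [heν] at e2
    push_cast
    linear_combination (e1 + e2) / 2
  have hY : ∀ χ : IrrCharacter (SpecialLinearGroup (Fin 2) F), (χ : SpecialLinearGroup (Fin 2) F → ℂ) (uSL 1) -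
      (χ : SpecialLinearGroup (Fin 2) F → ℂ) (uSL ν) = ((b χ - c χ : ℤ) : ℂ) * g := by
    intro χ
    have e1 := (hu χ).val 1 one_ne_zero
    have e2 := (hu χ).val ν hν0
    rw [he1] at e1
    rw [heν] at e2
    push_cast
    linear_combination (e1 - e2) / 2
  have o11 := column_orthogonality_of_isConj (IsConj.refl (uSL (1 : F)))
  have oνν := column_orthogonality_of_isConj (IsConj.refl (uSL ν))
  have o1ν := column_orthogonality_of_not_isConj (not_isConj_u hν)
  have oν1 := column_orthogonality_of_not_isConj (fun h => not_isConj_u hν (IsConj.symm h))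
  rw [card_centralizer_u_odd hF one_ne_zero] at o11
  rw [card_centralizer_u_odd hF hν0] at oνν
  have sX : ∑ χ : IrrCharacter (SpecialLinearGroup (Fin 2) F), (2 * a χ - (b χ + c χ) : ℤ) ^ 2 = 4 * Fintype.card F := by
    have h3 : ((∑ χ : IrrCharacter (SpecialLinearGroup (Fin 2) F), (2 * a χ - (b χ + c χ) : ℤ) ^ 2 : ℤ) : ℂ) = ((4 * Fintype.card F : ℤ) : ℂ) := by
      have h4 : ((∑ χ : IrrCharacter (SpecialLinearGroup (Fin 2) F), (2 * a χ - (b χ + c χ) : ℤ) ^ 2 : ℤ) : ℂ) =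
        ∑ χ : IrrCharacter (SpecialLinearGroup (Fin 2) F), ((χ : SpecialLinearGroup (Fin 2) F → ℂ) (uSL 1) +
          (χ : SpecialLinearGroup (Fin 2) F → ℂ) (uSL ν)) * conj ((χ : SpecialLinearGroup (Fin 2) F → ℂ) (uSL 1) +
          (χ : SpecialLinearGroup (Fin 2) F → ℂ) (uSL ν)) := by
        rw [Int.cast_sum]
        refine Finset.sum_congr rfl fun χ _ => ?_
        rw [hX χ, map_intCast (starRingEnd ℂ), Int.cast_pow, sq]
      rw [h4]
      simp only [map_add, add_mul, mul_add, Finset.sum_add_distrib]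
      rw [o11, oνν, o1ν, oν1]
      push_cast
      ring
    exact_mod_cast h3
  have sY : ∑ χ : IrrCharacter (SpecialLinearGroup (Fin 2) F), (b χ - c χ : ℤ) ^ 2 = 4 := by
    have h3 : ((∑ χ : IrrCharacter (SpecialLinearGroup (Fin 2) F), (b χ - c χ : ℤ) ^ 2 : ℤ) : ℂ) * (Fintype.card F : ℂ) =
        4 * (Fintype.card F : ℂ) := by
      have h4 : ((∑ χ : IrrCharacter (SpecialLinearGroup (Fin 2) F), (b χ - c χ : ℤ) ^ 2 : ℤ) : ℂ) * (Fintype.card F : ℂ) =
        ∑ χ : IrrCharacter (SpecialLinearGroup (Fin 2) F), ((χ : SpecialLinearGroup (Fin 2) F → ℂ) (uSL 1) -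
          (χ : SpecialLinearGroup (Fin 2) F → ℂ) (uSL ν)) * conj ((χ : SpecialLinearGroup (Fin 2) F → ℂ) (uSL 1) -
          (χ : SpecialLinearGroup (Fin 2) F → ℂ) (uSL ν)) := by
        rw [Int.cast_sum, Finset.sum_mul]
        refine Finset.sum_congr rfl fun χ _ => ?_
        rw [hY χ, map_mul, map_intCast (starRingEnd ℂ), ← hgg]
        push_cast
        ring
      rw [h4]
      simp only [map_sub, sub_mul, mul_sub, Finset.sum_sub_distrib]
      rw [o11, oνν, o1ν, oν1]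
      push_cast
      ring
    have h4 := mul_right_cancel₀ (card_ne F) h3
    exact_mod_cast h4
  have hN : Fintype.card (IrrCharacter (SpecialLinearGroup (Fin 2) F)) = Fintype.card F + 4 := by
    rw [← Nat.card_eq_fintype_card, card_irr_eq_card_conjClasses, S2325.result]
    rw [Nat.odd_iff]; exact hodd
  have sD : ∑ χ : IrrCharacter (SpecialLinearGroup (Fin 2) F), (2 * a χ - (b χ + c χ) : ℤ) * (2 * a χ + (b χ + c χ) * (Fintype.card F - 1) : ℤ) = 0 := by
    have h3 : ((∑ χ : IrrCharacter (SpecialLinearGroup (Fin 2) F), (2 * a χ - (b χ + c χ) : ℤ) * (2 * a χ + (b χ + c χ) * (Fintype.card F - 1) : ℤ) : ℤ) : ℂ) = ((0 : ℤ) : ℂ) := by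
      have h4 : ((∑ χ : IrrCharacter (SpecialLinearGroup (Fin 2) F), (2 * a χ - (b χ + c χ) : ℤ) * (2 * a χ + (b χ + c χ) * (Fintype.card F - 1) : ℤ) : ℤ) : ℂ) =
        2 * ∑ χ : IrrCharacter (SpecialLinearGroup (Fin 2) F), ((χ : SpecialLinearGroup (Fin 2) F → ℂ) 1 * (χ : SpecialLinearGroup (Fin 2) F → ℂ) (uSL 1) +
          (χ : SpecialLinearGroup (Fin 2) F → ℂ) 1 * (χ : SpecialLinearGroup (Fin 2) F → ℂ) (uSL ν)) := by
        rw [Int.cast_sum, Finset.mul_sum]
        refine Finset.sum_congr rfl fun χ _ => ?_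
        rw [Int.cast_mul, ← hX χ]
        have := (hu χ).deg
        push_cast
        rw [← this]
        ring
      rw [h4, Finset.sum_add_distrib, sum_degree_mul, sum_degree_mul, if_neg uSL_one_ne, if_neg]
      · simp
      · intro h
        have h1 := congrFun (congrFun (congrArg (fun g : SpecialLinearGroup (Fin 2) F => (g : Matrix (Fin 2) (Fin 2) F)) h) 0) 1
        simp [uSL] at h1
        exact hν0 h1
    exact_mod_cast h3
  -- the sets
  have c1 : (Finset.univ.filter (fun χ : IrrCharacter (SpecialLinearGroup (Fin 2) F) => a χ = 1 ∧ b χ + c χ = 0)).card = 1 := by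
    rw [Finset.card_eq_one]
    refine ⟨⟨_, Char.isIrrCharacter_one⟩, ?_⟩
    ext χ
    simp only [Finset.mem_filter, Finset.mem_univ, true_and, Finset.mem_singleton]
    constructor
    · rintro ⟨h3, h4⟩
      rcases hty χ with ⟨h5, -⟩ | ⟨-, h5⟩ | h5 | ⟨-, h5⟩ | h5
      · exact Subtype.ext h5
      · omega
      · omega
      · omega
      · omega
    · rintro rfl
      obtain ⟨h3, h4, h5⟩ := (hu ⟨_, Char.isIrrCharacter_one⟩).unique (udata_one hψ hν0)
      omega
  have c2 : (Finset.univ.filter (fun χ : IrrCharacter (SpecialLinearGroup (Fin 2) F) => a χ = 1 ∧ b χ + c χ = 2)).card = 1 := by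
    rw [Finset.card_eq_one]
    refine ⟨⟨_, isIrr_stSL⟩, ?_⟩
    ext χ
    simp only [Finset.mem_filter, Finset.mem_univ, true_and, Finset.mem_singleton]
    constructor
    · rintro ⟨h3, h4⟩
      rcases hty χ with ⟨-, h5⟩ | ⟨h5, -⟩ | h5 | ⟨-, h5⟩ | h5
      · omega
      · exact Subtype.ext h5
      · omega
      · omega
      · omega
    · rintro rfl
      obtain ⟨h3, h4, h5⟩ := (hu ⟨_, isIrr_stSL⟩).unique (udata_st hψ hν0)
      omega
  have c4 : (Finset.univ.filter (fun χ : IrrCharacter (SpecialLinearGroup (Fin 2) F) => a χ = 1 ∧ b χ + c χ = 1)).card = 2 := by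
    rw [Finset.card_eq_two]
    refine ⟨χ₁, χ₂, hne, ?_⟩
    ext χ
    simp only [Finset.mem_filter, Finset.mem_univ, true_and, Finset.mem_insert, Finset.mem_singleton]
    constructor
    · rintro ⟨h3, h4⟩
      rcases hty χ with ⟨-, h5⟩ | ⟨-, h5⟩ | h5 | ⟨h5, -⟩ | h5
      · omega
      · omega
      · omega
      · exact h5
      · omega
    · rintro (rfl | rfl)
      · exact half_triple hF hψ hν hne hadd (hu _)
      · exact half_triple hF hψ hν hne.symm (by rw [hadd, add_comm]) (hu _)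
  -- the quadratic form
  have hW : ∑ χ : IrrCharacter (SpecialLinearGroup (Fin 2) F), (((2 * a χ - (b χ + c χ) : ℤ) ^ 2 + 3 * (b χ - c χ : ℤ) ^ 2) - 4 +
      (if a χ = 1 ∧ b χ + c χ = 2 then 4 else 0)) = 0 := by
    rw [Finset.sum_add_distrib, Finset.sum_sub_distrib, Finset.sum_add_distrib, ← Finset.mul_sum, sX, sY, Finset.sum_const,
      Finset.card_univ, hN, ← Finset.sum_filter, Finset.sum_const, c2]
    simp
    ring
  have hWnn : ∀ χ : IrrCharacter (SpecialLinearGroup (Fin 2) F), 0 ≤ (((2 * a χ - (b χ + c χ) : ℤ) ^ 2 + 3 * (b χ - c χ : ℤ) ^ 2) - 4 +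
      (if a χ = 1 ∧ b χ + c χ = 2 then 4 else 0)) := by
    intro χ
    rcases hty χ with ⟨-, h3, h4, h5⟩ | ⟨-, h3, h4, h5⟩ | ⟨h3, h4, h5⟩ | ⟨-, h3, h4⟩ | ⟨h3, h4⟩
    · rw [h3, h4, h5]; norm_num
    · rw [h3, h4, h5]; norm_num
    · rw [h3, h4, h5]; norm_num
    · rw [if_neg (by omega), h3]
      have h5 : (b χ = 1 ∧ c χ = 0) ∨ (b χ = 0 ∧ c χ = 1) := by omega
      rcases h5 with ⟨h6, h7⟩ | ⟨h6, h7⟩ <;> rw [h6, h7] <;> norm_num
    · rw [if_neg (by omega), h3]
      have h5 : (1 : ℤ) ≤ b χ + c χ := by exact_mod_cast h4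
      have hb : (0 : ℤ) ≤ b χ := by positivity
      have hc : (0 : ℤ) ≤ c χ := by positivity
      push_cast
      by_cases hbc : (b χ : ℤ) = c χ
      · rw [hbc] at h5 ⊢
        have h6 : (1 : ℤ) ≤ c χ := by omega
        nlinarith
      · have h6 : (1 : ℤ) ≤ (b χ - c χ : ℤ) ^ 2 := by
          have : (0 : ℤ) < (b χ - c χ : ℤ) ^ 2 := by
            have : (b χ : ℤ) - c χ ≠ 0 := sub_ne_zero.mpr hbc
            positivity
          omega
        nlinarith
  have hW0 := fun χ : IrrCharacter (SpecialLinearGroup (Fin 2) F) => (Finset.sum_eq_zero_iff_of_nonneg (fun χ _ => hWnn χ)).mp hW χ (Finset.mem_univ χ)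
  have hsix : ∀ χ : IrrCharacter (SpecialLinearGroup (Fin 2) F), ((χ : SpecialLinearGroup (Fin 2) F → ℂ) = (fun _ => 1) ∧ a χ = 1 ∧ b χ = 0 ∧ c χ = 0) ∨
       ((χ : SpecialLinearGroup (Fin 2) F → ℂ) = pSL 1 - (fun _ => (1 : ℂ)) ∧ a χ = 1 ∧ b χ = 1 ∧ c χ = 1) ∨
       (a χ = 2 ∧ b χ = 1 ∧ c χ = 1) ∨ (a χ = 1 ∧ b χ + c χ = 1) ∨ (a χ = 0 ∧ b χ = 1 ∧ c χ = 1) ∨ (a χ = 0 ∧ b χ + c χ = 1) := by
    intro χ
    rcases hty χ with h | h | h | ⟨-, h⟩ | ⟨h3, h4⟩
    · exact Or.inl h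
    · exact Or.inr (Or.inl h)
    · exact Or.inr (Or.inr (Or.inl h))
    · exact Or.inr (Or.inr (Or.inr (Or.inl h)))
    · right; right; right; right
      have h5 := hW0 χ
      rw [if_neg (by omega), h3] at h5
      push_cast at h5
      have hb : (0 : ℤ) ≤ b χ := by positivity
      have hc : (0 : ℤ) ≤ c χ := by positivity
      have h6 : (b χ : ℤ) ^ 2 + (c χ : ℤ) ^ 2 - b χ * c χ = 1 := by nlinarith
      have h7 : (b χ : ℤ) ≤ 1 := by
        by_contra hcon
        push Not at hcon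
        nlinarith [sq_nonneg ((b χ : ℤ) - 2 * c χ)]
      have h8 : (c χ : ℤ) ≤ 1 := by
        by_contra hcon
        push Not at hcon
        nlinarith [sq_nonneg ((c χ : ℤ) - 2 * b χ)]
      have h9 : b χ ≤ 1 := by exact_mod_cast h7
      have h10 : c χ ≤ 1 := by exact_mod_cast h8
      omega
  -- the indicator sums
  set n1 := (Finset.univ.filter (fun χ : IrrCharacter (SpecialLinearGroup (Fin 2) F) => a χ = 1 ∧ b χ + c χ = 0)).card with hn1
  set n2 := (Finset.univ.filter (fun χ : IrrCharacter (SpecialLinearGroup (Fin 2) F) => a χ = 1 ∧ b χ + c χ = 2)).card with hn2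
  set n3 := (Finset.univ.filter (fun χ : IrrCharacter (SpecialLinearGroup (Fin 2) F) => a χ = 2)).card with hn3
  set n4 := (Finset.univ.filter (fun χ : IrrCharacter (SpecialLinearGroup (Fin 2) F) => a χ = 1 ∧ b χ + c χ = 1)).card with hn4
  set n5 := (Finset.univ.filter (fun χ : IrrCharacter (SpecialLinearGroup (Fin 2) F) => a χ = 0 ∧ b χ + c χ = 2)).card with hn5
  set n6 := (Finset.univ.filter (fun χ : IrrCharacter (SpecialLinearGroup (Fin 2) F) => a χ = 0 ∧ b χ + c χ = 1)).card with hn6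
  have hlin : ∀ (f : IrrCharacter (SpecialLinearGroup (Fin 2) F) → ℤ) (t1 t2 t3 t4 t5 t6 : ℤ),
      (∀ χ, a χ = 1 ∧ b χ = 0 ∧ c χ = 0 → f χ = t1) → (∀ χ, a χ = 1 ∧ b χ = 1 ∧ c χ = 1 → f χ = t2) →
      (∀ χ, a χ = 2 ∧ b χ = 1 ∧ c χ = 1 → f χ = t3) → (∀ χ, a χ = 1 ∧ b χ + c χ = 1 → f χ = t4) →
      (∀ χ, a χ = 0 ∧ b χ = 1 ∧ c χ = 1 → f χ = t5) → (∀ χ, a χ = 0 ∧ b χ + c χ = 1 → f χ = t6) →
      ∑ χ, f χ = t1 * n1 + t2 * n2 + t3 * n3 + t4 * n4 + t5 * n5 + t6 * n6 := by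
    intro f t1 t2 t3 t4 t5 t6 h1 h2 h3 h4 h5 h6
    have key : ∀ χ, f χ = t1 * (if a χ = 1 ∧ b χ + c χ = 0 then 1 else 0) + t2 * (if a χ = 1 ∧ b χ + c χ = 2 then 1 else 0) +
        t3 * (if a χ = 2 then 1 else 0) + t4 * (if a χ = 1 ∧ b χ + c χ = 1 then 1 else 0) +
        t5 * (if a χ = 0 ∧ b χ + c χ = 2 then 1 else 0) + t6 * (if a χ = 0 ∧ b χ + c χ = 1 then 1 else 0) := by
      intro χ
      rcases hsix χ with ⟨-, h⟩ | ⟨-, h⟩ | h | h | h | h
      · rw [h1 χ h, h.1, h.2.1, h.2.2]; norm_num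
      · rw [h2 χ h, h.1, h.2.1, h.2.2]; norm_num
      · rw [h3 χ h, h.1, h.2.1, h.2.2]; norm_num
      · rw [h4 χ h, h.1, h.2]; norm_num
      · rw [h5 χ h, h.1, h.2.1, h.2.2]; norm_num
      · rw [h6 χ h, h.1, h.2]; norm_num
    rw [Finset.sum_congr rfl fun χ _ => key χ]
    simp only [Finset.sum_add_distrib, ← Finset.mul_sum, Finset.sum_boole]
    rw [hn1, hn2, hn3, hn4, hn5, hn6]
  have e1 := hlin (fun _ => 1) 1 1 1 1 1 1 (fun _ _ => rfl) (fun _ _ => rfl) (fun _ _ => rfl) (fun _ _ => rfl) (fun _ _ => rfl) (fun _ _ => rfl)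
  have e2 := hlin (fun χ => (b χ - c χ : ℤ) ^ 2) 0 0 0 1 0 1 (fun χ h => by simp [h.2.1, h.2.2]) (fun χ h => by simp [h.2.1, h.2.2])
    (fun χ h => by simp [h.2.1, h.2.2]) (fun χ h => by
      have h5 : (b χ = 1 ∧ c χ = 0) ∨ (b χ = 0 ∧ c χ = 1) := by omega
      rcases h5 with ⟨h6, h7⟩ | ⟨h6, h7⟩ <;> rw [h6, h7] <;> norm_num) (fun χ h => by simp [h.2.1, h.2.2]) (fun χ h => by
      have h5 : (b χ = 1 ∧ c χ = 0) ∨ (b χ = 0 ∧ c χ = 1) := by omega
      rcases h5 with ⟨h6, h7⟩ | ⟨h6, h7⟩ <;> rw [h6, h7] <;> norm_num)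
  have hbc1 : ∀ χ, b χ + c χ = 1 → (b χ + c χ : ℤ) = 1 := fun χ h => by exact_mod_cast h
  have e3 := hlin (fun χ => (2 * a χ - (b χ + c χ) : ℤ) * (2 * a χ + (b χ + c χ) * (Fintype.card F - 1) : ℤ)) 4 0
    (4 * (Fintype.card F + 1)) (Fintype.card F + 1) (-4 * (Fintype.card F - 1)) (-(Fintype.card F - 1))
    (fun χ h => by simp only [h.1, h.2.1, h.2.2]; push_cast; ring)
    (fun χ h => by simp only [h.1, h.2.1, h.2.2]; push_cast; ring)
    (fun χ h => by simp only [h.1, h.2.1, h.2.2]; push_cast; ring)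
    (fun χ h => by simp only [h.1, hbc1 χ h.2]; push_cast; ring)
    (fun χ h => by simp only [h.1, h.2.1, h.2.2]; push_cast; ring)
    (fun χ h => by simp only [h.1, hbc1 χ h.2]; push_cast; ring)
  rw [Finset.sum_const, Finset.card_univ, hN] at e1
  rw [sY] at e2
  rw [sD] at e3
  rw [c1, c2, c4] at e1 e2 e3
  have c6 : n6 = 2 := by omega
  rw [c6] at e1 e3
  have hc5 : n5 * 2 + 1 = Fintype.card F := by
    have h3 : (n3 : ℤ) + n5 = Fintype.card F - 2 := by
      simp at e1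
      linarith
    have h4 : (Fintype.card F : ℤ) * (n5 * 2 + 1) = Fintype.card F * Fintype.card F := by
      have h5 : (n3 : ℤ) = Fintype.card F - 2 - n5 := by linarith
      rw [h5] at e3
      push_cast at e3
      linarith
    have h5 : ((n5 : ℤ) * 2 + 1) = Fintype.card F := mul_left_cancel₀ (by positivity) h4
    exact_mod_cast h5
  have hc3 : n3 * 2 + 3 = Fintype.card F := by
    have h3 : (n3 : ℤ) + n5 = Fintype.card F - 2 := by
      simp at e1
      linarith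
    omega
  refine ⟨a, b, c, hu, hsix, ?_, ?_, ?_, ?_, ?_, ?_⟩
  · rw [Nat.card_eq_fintype_card, Fintype.card_subtype]; exact c1
  · rw [Nat.card_eq_fintype_card, Fintype.card_subtype]; exact c2
  · rw [Nat.card_eq_fintype_card, Fintype.card_subtype]; exact hc3
  · rw [Nat.card_eq_fintype_card, Fintype.card_subtype]; exact c4
  · rw [Nat.card_eq_fintype_card, Fintype.card_subtype]; exact hc5
  · rw [Nat.card_eq_fintype_card, Fintype.card_subtype]; exact c6

end Cfsg.Agent.H34.Deg
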