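import Mathlib.GroupTheory.Solvable
import Mathlib.GroupTheory.PGroup
import Mathlib.GroupTheory.Abelianization.Defs
import Mathlib.Algebra.Group.End
import Mathlib.GroupTheory.Index
import Mathlib.Algebra.Group.Subgroup.Finite
import Mathlib.GroupTheory.Sylow

set_option autoImplicit false

namespace Cfsg.Agent.H34

universe u

/-- square roots of elements of odd order -/
theorem exists_sqrt_of_odd {G : Type*} [Group G] (c : G) (hc : Odd (orderOf c)) :
    ∃ k : ℕ, c ^ k * c ^ k = c := by
  obtain ⟨m, hm⟩ := hc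
  refine ⟨m + 1, ?_⟩
  rw [← pow_add]
  have : m + 1 + (m + 1) = orderOf c + 1 := by omega
  rw [this, pow_succ, pow_orderOf_eq_one, one_mul]

theorem eq_one_of_sq_of_odd {G : Type*} [Group G] (c : G) (hc : Odd (orderOf c)) (h : c * c = 1) : c = 1 := by
  obtain ⟨k, hk⟩ := exists_sqrt_of_odd c hc
  have h2 : c ^ k * c ^ k = (c * c) ^ k := by rw [← pow_add, ← two_mul, pow_mul, sq]
  rw [← hk, h2, h, one_pow]

/-- Two commuting involutory endomorphisms `α, β` of a solvable group of odd order: if `α` is trivial on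
the fixed points of `β` and of `αβ`, it is trivial. -/
theorem four_lemma : ∀ (n : ℕ) (F : Type u) [Group F] [Finite F] [Group.IsSolvable F],
    Nat.card F = n → Odd (Nat.card F) → ∀ (α β : F →* F), (∀ x, α (α x) = x) → (∀ x, β (β x) = x) →
    (∀ x, α (β x) = β (α x)) → (∀ x, β x = x → α x = x) → (∀ x, α (β x) = x → α x = x) →
    ∀ x, α x = x := by
  intro n
  induction n using Nat.strong_induction_on with
  | _ n ih =>
  intro F _ _ _ hn hodd α β hα hβ hαβ h1 h2
  by_cases htriv : Subsingleton F
  · intro x; exact Subsingleton.elim _ _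
  rw [not_subsingleton_iff_nontrivial] at htriv
  have hoddo : ∀ c : F, Odd (orderOf c) := fun c => hodd.of_dvd_nat (orderOf_dvd_natCard c)
  have hmapcomm : ∀ (γ : F →* F) (x : F), x ∈ commutator F → γ x ∈ commutator F := by
    intro γ x hx
    rw [← Abelianization.ker_of] at hx ⊢
    rw [MonoidHom.mem_ker] at hx ⊢
    have : Abelianization.of (γ x) = Abelianization.map γ (Abelianization.of x) := by simp
    rw [this, hx, map_one]
  -- alpha is trivial on the commutator subgroup
  have hD : ∀ x ∈ commutator F, α x = x := by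
    have hlt : Nat.card (commutator F) < n := by
      rw [← hn]
      have hne : commutator F ≠ ⊤ := (Group.IsSolvable.commutator_lt_top_of_nontrivial F).ne
      exact lt_of_le_of_ne (Subgroup.card_le_card_group _) (fun h => hne (Subgroup.eq_top_of_card_eq _ h))
    have hoddK : Odd (Nat.card (commutator F)) := hodd.of_dvd_nat (Subgroup.card_subgroup_dvd_card _)
    let αK : commutator F →* commutator F := (α.comp (commutator F).subtype).codRestrict _
      (fun x => hmapcomm α x x.2)
    let βK : commutator F →* commutator F := (β.comp (commutator F).subtype).codRestrict _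
      (fun x => hmapcomm β x x.2)
    have := ih _ hlt (commutator F) rfl hoddK αK βK
      (fun x => Subtype.ext (hα x)) (fun x => Subtype.ext (hβ x)) (fun x => Subtype.ext (hαβ x))
      (fun x hx => Subtype.ext (h1 x (congrArg Subtype.val hx)))
      (fun x hx => Subtype.ext (h2 x (congrArg Subtype.val hx)))
    intro x hx
    exact congrArg Subtype.val (this ⟨x, hx⟩)
  -- principle P
  have hP : ∀ u : F, Abelianization.of (α u) = Abelianization.of u → α u = u := by
    intro u hu
    have hc : α u * u⁻¹ ∈ commutator F := by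
      rw [← Abelianization.ker_of, MonoidHom.mem_ker, map_mul, map_inv, hu, mul_inv_cancel]
    have h3 := hD _ hc
    rw [map_mul, map_inv, hα] at h3
    have h4 : (α u * u⁻¹) * (α u * u⁻¹) = 1 := by
      nth_rewrite 1 [← h3]
      group
    have h5 := eq_one_of_sq_of_odd _ (hoddo _) h4
    exact mul_inv_eq_one.mp h5
  -- fixed mod commutator under an involution γ fixing good elements
  have hQ : ∀ (γ : F →* F), (∀ x, γ (γ x) = x) → (∀ x, γ x = x → α x = x) →
      ∀ u : F, Abelianization.of (γ u) = Abelianization.of u → α u = u := by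
    intro γ hγ hγ1 u hu
    have hc : γ u * u⁻¹ ∈ commutator F := by
      rw [← Abelianization.ker_of, MonoidHom.mem_ker, map_mul, map_inv, hu, mul_inv_cancel]
    obtain ⟨k, hk⟩ := exists_sqrt_of_odd (γ u * u⁻¹) (hoddo _)
    set c := γ u * u⁻¹ with hcdef
    have hγc : γ c = c⁻¹ := by
      rw [hcdef, map_mul, map_inv, hγ]; group
    have hfix : γ (c ^ k * u) = c ^ k * u := by
      have hγu : γ u = c * u := by rw [hcdef]; group
      calc γ (c ^ k * u) = (c⁻¹) ^ k * (c * u) := by rw [map_mul, map_pow, hγc, hγu]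
        _ = (c⁻¹) ^ k * ((c ^ k * c ^ k) * u) := by rw [hk]
        _ = c ^ k * u := by rw [inv_pow]; group
    have h3 := hγ1 _ hfix
    have h4 := hD _ (Subgroup.pow_mem _ hc k)
    rw [map_mul, h4] at h3
    exact mul_left_cancel h3
  intro x
  have hu1 : α (x * β x) = x * β x := by
    apply hQ β hβ h1
    simp only [map_mul, hβ]
    rw [mul_comm]
  have hu2 : α (x * α (β x)) = x * α (β x) := by
    have hγ : ∀ x, (α.comp β) ((α.comp β) x) = x := by
      intro x
      simp only [MonoidHom.comp_apply]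
      rw [hαβ, hα, hβ]
    apply hQ (α.comp β) hγ (fun x hx => h2 x hx)
    simp only [map_mul]
    have := hγ x
    simp only [MonoidHom.comp_apply] at this ⊢
    rw [this, mul_comm]
  have hu3 : α (x * α x) = x * α x := by
    apply hP
    simp only [map_mul, hα]
    rw [mul_comm]
  have hN : α (x * β x * α (β x) * α x) = x * β x * α (β x) * α x := by
    apply hP
    simp only [map_mul, hα]
    have : ∀ a b c d : Abelianization F, a * b * c * d = d * c * b * a := fun a b c d => by
      rw [mul_comm a b, mul_comm (b * a) c, mul_comm (c * (b * a)) d]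
      simp only [mul_assoc]
    rw [this]
  have hx2 : α (x * x) = x * x := by
    apply hP
    have key : Abelianization.of (x * x) = Abelianization.of ((x * β x) * (x * α (β x)) * (x * α x) *
        (x * β x * α (β x) * α x)⁻¹) := by
      simp only [map_mul, map_inv]
      generalize Abelianization.of x = X
      generalize Abelianization.of (β x) = B
      generalize Abelianization.of (α (β x)) = C
      generalize Abelianization.of (α x) = D
      rw [eq_mul_inv_iff_mul_eq]
      ac_rfl
    have key2 : Abelianization.of (α (x * x)) = Abelianization.map α (Abelianization.of (x * x)) := by simp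
    rw [key2, key]
    have key3 : Abelianization.map α (Abelianization.of ((x * β x) * (x * α (β x)) * (x * α x) *
        (x * β x * α (β x) * α x)⁻¹)) = Abelianization.of (α ((x * β x) * (x * α (β x)) * (x * α x) *
        (x * β x * α (β x) * α x)⁻¹)) := by simp
    rw [key3]
    congr 1
    rw [map_mul, map_inv, hN, map_mul, hu3, map_mul, hu2, hu1]
  obtain ⟨k, hk⟩ := exists_sqrt_of_odd x (hoddo x)
  have h5 : x = (x * x) ^ k := by
    conv_lhs => rw [← hk]
    rw [← sq, ← sq, ← pow_mul, ← pow_mul, mul_comm]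
  rw [h5, map_pow, hx2]

/-- `A × B` lemma for an elementary abelian 2-group `V`. -/
theorem axb_elementary {V : Type*} [CommGroup V] [Finite V] (hV : ∀ v : V, v * v = 1) (B : Subgroup (MulAut V))
    (hB : IsPGroup 2 B) (e : MulAut V) (he : Odd (orderOf e)) (heB : ∀ b ∈ B, b * e = e * b)
    (hfix : ∀ v : V, (∀ b ∈ B, b v = v) → e v = v) : e = 1 := by
  by_contra hne
  -- W = [V, e]
  let W : Subgroup V := (MonoidHom.mk' (fun v : V => e v * v⁻¹) (by
    intro a b
    simp only [map_mul, mul_inv]
    ac_rfl)).range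
  have hWmem : ∀ v, v ∈ W ↔ ∃ u : V, e u * u⁻¹ = v := fun v => Iff.rfl
  have hWB : ∀ b ∈ B, ∀ w ∈ W, b w ∈ W := by
    intro b hb w hw
    rw [hWmem] at hw ⊢
    obtain ⟨u, rfl⟩ := hw
    refine ⟨b u, ?_⟩
    have h1 : e (b u) = b (e u) := by
      have := heB b hb
      have h2 := congrArg (fun f : MulAut V => f u) this
      simpa using h2.symm
    rw [h1, map_mul, map_inv]
  have hWne : ∃ w ∈ W, w ≠ 1 := by
    by_contra hcon
    push Not at hcon
    apply hne
    ext v
    have := hcon (e v * v⁻¹) ⟨v, rfl⟩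
    exact mul_inv_eq_one.mp this
  -- B acts on W with a nontrivial fixed point
  let _ : MulAction B W :=
    { smul := fun b w => ⟨(b : MulAut V) w, hWB b b.2 w w.2⟩
      one_smul := fun w => rfl
      mul_smul := fun a b w => rfl }
  have hcard : 2 ∣ Nat.card W := by
    obtain ⟨w, hw, hw1⟩ := hWne
    have : orderOf (⟨w, hw⟩ : W) = 2 := by
      rw [orderOf_eq_prime_iff]
      refine ⟨?_, ?_⟩
      · rw [sq]; exact Subtype.ext (hV w)
      · intro h; exact hw1 (congrArg Subtype.val h)
    rw [← this]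
    exact orderOf_dvd_natCard _
  have hfp : (1 : W) ∈ MulAction.fixedPoints B W := by
    intro b
    exact Subtype.ext (map_one (b : MulAut V))
  obtain ⟨w, hw, hw1⟩ := hB.exists_fixed_point_of_prime_dvd_card_of_fixed_point (α := W) hcard hfp
  have hw2 : e (w : V) = w := by
    apply hfix
    intro b hb
    exact congrArg Subtype.val (hw ⟨b, hb⟩)
  obtain ⟨u, hu⟩ := (hWmem _).mp w.2
  have hpow : ∀ k : ℕ, (e ^ k) u = (w : V) ^ k * u := by
    intro k
    induction k with
    | zero => simp
    | succ k ih =>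
      rw [pow_succ', MulAut.mul_apply, ih, map_mul, map_pow, hw2]
      have : e u = w * u := by rw [← hu]; group
      rw [this, pow_succ, mul_assoc]
  have h3 := hpow (orderOf e)
  rw [pow_orderOf_eq_one] at h3
  have h4 : (w : V) ^ orderOf e = 1 := by
    have : (1 : MulAut V) u = u := rfl
    rw [this] at h3
    exact (mul_eq_right.mp h3.symm)
  have h5 : (w : V) = 1 := by
    apply eq_one_of_sq_of_odd _ _ (hV w)
    exact he.of_dvd_nat (orderOf_dvd_of_pow_eq_one h4)
  exact hw1 (Subtype.ext h5.symm)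

/-- The fixed points in `V` of a subgroup of `MulAut V`. -/
def fixedBy {V : Type*} [CommGroup V] (A : Subgroup (MulAut V)) : Subgroup V where
  carrier := {v | ∀ a ∈ A, a v = v}
  mul_mem' := fun {x y} hx hy a ha => by rw [map_mul, hx a ha, hy a ha]
  one_mem' := fun a _ => map_one a
  inv_mem' := fun {x} hx a ha => by rw [map_inv, hx a ha]

theorem mem_fixedBy {V : Type*} [CommGroup V] (A : Subgroup (MulAut V)) (v : V) :
    v ∈ fixedBy A ↔ ∀ a ∈ A, a v = v := Iff.rfl

theorem fixedBy_anti {V : Type*} [CommGroup V] {A B : Subgroup (MulAut V)} (h : A ≤ B) :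
    fixedBy B ≤ fixedBy A := fun _ hv a ha => hv a (h ha)

/-- Group-theoretic step: `A` elementary abelian normalizing a solvable group `F` of odd order; if `a ∈ A` does
not centralize `F` there is a subgroup `B ≤ A` of index at most two, not containing `a`, such that `a` does not
centralize `C_F(B)`. -/
theorem exists_hyperplane {G : Type u} [Group G] [Finite G] (F : Subgroup G) [Group.IsSolvable F]
    (hF : Odd (Nat.card F)) (A : Subgroup G) (hAF : ∀ a ∈ A, ∀ f ∈ F, a * f * a⁻¹ ∈ F)
    (hcomm : ∀ a ∈ A, ∀ b ∈ A, a * b = b * a) (hsq : ∀ a ∈ A, a * a = 1) (a : G) (ha : a ∈ A)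
    (hna : ∃ f ∈ F, a * f ≠ f * a) :
    ∃ B : Subgroup G, B ≤ A ∧ a ∉ B ∧ (∀ b ∈ A, b ∈ B ∨ a * b ∈ B) ∧
      ∃ f ∈ F, (∀ b ∈ B, b * f = f * b) ∧ a * f ≠ f * a := by
  let S : Set (Subgroup G) := {B | B ≤ A ∧ a ∉ B ∧ ∃ f ∈ F, (∀ b ∈ B, b * f = f * b) ∧ a * f ≠ f * a}
  have hSfin : S.Finite := Set.toFinite _
  have ha1 : a ≠ 1 := by
    rintro rfl
    obtain ⟨f, _, h⟩ := hna
    simp at h
  have hSne : S.Nonempty := by
    obtain ⟨f, hf, h⟩ := hna
    refine ⟨⊥, bot_le, ?_, f, hf, ?_, h⟩
    · simpa using ha1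
    · intro b hb
      rw [Subgroup.mem_bot] at hb
      simp [hb]
  obtain ⟨B, hBS, hBmax⟩ := hSfin.exists_maximal hSne
  obtain ⟨hBA, haB, f, hf, hfB, haf⟩ := hBS
  refine ⟨B, hBA, haB, ?_, f, hf, hfB, haf⟩
  intro b hb
  by_contra hcon
  push Not at hcon
  obtain ⟨hbB, habB⟩ := hcon
  have hinv : ∀ x ∈ A, x⁻¹ = x := fun x hx => inv_eq_of_mul_eq_one_left (hsq x hx)
  -- adjoining an element c of A to B
  have hadj : ∀ c ∈ A, c ∉ B → a * c ∉ B → ∀ f ∈ F, (∀ x ∈ B, x * f = f * x) → c * f = f * c → a * f = f * a := by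
    intro c hc hcB hacB f hf hfB hcf
    by_contra hne
    have hmemB1 : ∀ x ∈ B ⊔ Subgroup.zpowers c, x ∈ B ∨ x * c ∈ B := by
      intro x hx
      let B1 : Subgroup G :=
        { carrier := {x | x ∈ A ∧ (x ∈ B ∨ x * c ∈ B)}
          mul_mem' := by
            rintro x y ⟨hxA, hx⟩ ⟨hyA, hy⟩
            refine ⟨mul_mem hxA hyA, ?_⟩
            rcases hx with hx | hx <;> rcases hy with hy | hy
            · exact Or.inl (mul_mem hx hy)
            · right; rw [mul_assoc]; exact mul_mem hx hy
            · right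
              have : x * y * c = x * c * y := by rw [mul_assoc, hcomm y hyA c hc, mul_assoc]
              rw [this]; exact mul_mem hx hy
            · left
              have : x * y = (x * c) * (y * c) := by
                calc x * y = x * (c * c) * y := by rw [hsq c hc, mul_one]
                  _ = x * c * (c * y) := by group
                  _ = (x * c) * (y * c) := by rw [hcomm c hc y hyA]
              rw [this]; exact mul_mem hx hy
          one_mem' := ⟨one_mem _, Or.inl (one_mem _)⟩
          inv_mem' := by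
            rintro x ⟨hxA, hx⟩
            rw [hinv x hxA]
            exact ⟨hxA, hx⟩ }
      have hle : B ⊔ Subgroup.zpowers c ≤ B1 := by
        rw [sup_le_iff]
        refine ⟨fun y hy => ⟨hBA hy, Or.inl hy⟩, ?_⟩
        rw [Subgroup.zpowers_le]
        exact ⟨hc, Or.inr (by rw [hsq c hc]; exact one_mem _)⟩
      exact (hle hx).2
    have hS : B ⊔ Subgroup.zpowers c ∈ S := by
      refine ⟨?_, ?_, f, hf, ?_, hne⟩
      · rw [sup_le_iff, Subgroup.zpowers_le]; exact ⟨hBA, hc⟩
      · intro h
        rcases hmemB1 a h with h | h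
        · exact haB h
        · exact hacB h
      · intro x hx
        have hle : B ⊔ Subgroup.zpowers c ≤ Subgroup.centralizer {f} := by
          rw [sup_le_iff, Subgroup.zpowers_le]
          refine ⟨fun y hy => ?_, ?_⟩
          · rw [Subgroup.mem_centralizer_singleton_iff]; exact hfB y hy
          · rw [Subgroup.mem_centralizer_singleton_iff]; exact hcf
        exact Subgroup.mem_centralizer_singleton_iff.mp (hle hx)
    have hle := hBmax hS le_sup_left
    exact hcB (hle (Subgroup.mem_sup_right (Subgroup.mem_zpowers c)))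
  -- apply the four lemma to F₁ = C_F(B)
  let F1 : Subgroup G := F ⊓ Subgroup.centralizer (B : Set G)
  have hF1mem : ∀ x, x ∈ F1 ↔ x ∈ F ∧ ∀ y ∈ B, y * x = x * y := by
    intro x
    simp only [F1, Subgroup.mem_inf, Subgroup.mem_centralizer_iff]
    rfl
  have hconj : ∀ c ∈ A, ∀ x ∈ F1, c * x * c⁻¹ ∈ F1 := by
    intro c hc x hx
    rw [hF1mem] at hx ⊢
    refine ⟨hAF c hc x hx.1, fun y hy => ?_⟩
    have h1 := hcomm y (hBA hy) c hc
    have h2 := hcomm y (hBA hy) c⁻¹ (inv_mem hc)
    calc y * (c * x * c⁻¹) = (y * c) * x * c⁻¹ := by group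
      _ = c * (y * x) * c⁻¹ := by rw [h1]; group
      _ = c * x * (y * c⁻¹) := by rw [hx.2 y hy]; group
      _ = c * x * c⁻¹ * y := by rw [h2]; group
  let φ : ∀ c ∈ A, F1 →* F1 := fun c hc =>
    (((MulAut.conj c).toMonoidHom).comp F1.subtype).codRestrict F1 (fun x => hconj c hc x x.2)
  have hφ : ∀ (c : G) (hc : c ∈ A) (x : F1), ((φ c hc x : F1) : G) = c * x * c⁻¹ := fun c hc x => rfl
  have hφfix : ∀ (c : G) (hc : c ∈ A) (x : F1), φ c hc x = x ↔ c * (x : G) = x * c := by
    intro c hc x
    rw [← Subtype.coe_inj, hφ c hc]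
    exact mul_inv_eq_iff_eq_mul
  have hinvol : ∀ (c : G) (hc : c ∈ A) (x : F1), φ c hc (φ c hc x) = x := by
    intro c hc x
    apply Subtype.ext
    rw [hφ c hc, hφ c hc, hinv c hc]
    calc c * (c * (x : G) * c) * c = (c * c) * x * (c * c) := by group
      _ = x := by rw [hsq c hc]; group
  have hsolF1 : Group.IsSolvable F1 := by
    have : F1 ≤ F := inf_le_left
    exact Group.isSolvable_of_isSolvable_injective (Subgroup.inclusion_injective this)
  have hoddF1 : Odd (Nat.card F1) := hF.of_dvd_nat (Subgroup.card_dvd_of_le inf_le_left)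
  have hab : a * b ∈ A := mul_mem ha hb
  have := four_lemma _ F1 rfl hoddF1 (φ a ha) (φ b hb) (hinvol a ha) (hinvol b hb) ?_ ?_ ?_ ⟨f, (hF1mem f).mpr ⟨hf, hfB⟩⟩
  · exact haf ((hφfix a ha _).mp this)
  · intro x
    apply Subtype.ext
    rw [hφ a ha, hφ b hb, hφ b hb, hφ a ha]
    have h1 := hcomm a ha b hb
    have h2 := hcomm b⁻¹ (inv_mem hb) a⁻¹ (inv_mem ha)
    calc a * (b * (x : G) * b⁻¹) * a⁻¹ = (a * b) * x * (b⁻¹ * a⁻¹) := by group
      _ = b * (a * (x : G) * a⁻¹) * b⁻¹ := by rw [h1, h2]; group
  · intro x hx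
    rw [hφfix _ hb] at hx
    rw [hφfix _ ha]
    exact hadj b hb hbB habB x ((hF1mem _).mp x.2).1 ((hF1mem _).mp x.2).2 hx
  · intro x hx
    rw [hφfix _ ha]
    have hx' : (a * b) * (x : G) = x * (a * b) := by
      have := congrArg Subtype.val hx
      rw [hφ a ha, hφ b hb] at this
      have h3 : (a * b) * (x : G) * (a * b)⁻¹ = x := by
        calc (a * b) * (x : G) * (a * b)⁻¹ = a * (b * (x : G) * b⁻¹) * a⁻¹ := by group
          _ = x := this
      exact mul_inv_eq_iff_eq_mul.mp h3
    refine hadj (a * b) hab habB ?_ x ((hF1mem _).mp x.2).1 ((hF1mem _).mp x.2).2 hx'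
    rw [← mul_assoc, hsq a ha, one_mul]
    exact hbB

/-- Failure of factorization for solvable groups at the prime 2: an offender `A` contains a transvection. -/
theorem ff_transvection {V : Type u} [CommGroup V] [Finite V] (hV : ∀ v : V, v * v = 1)
    (F : Subgroup (MulAut V)) [Group.IsSolvable F] (hF : Odd (Nat.card F)) :
    ∀ (n : ℕ) (A : Subgroup (MulAut V)), Nat.card A = n → (∀ a ∈ A, ∀ f ∈ F, a * f * a⁻¹ ∈ F) →
      (∀ a ∈ A, ∀ b ∈ A, a * b = b * a) → (∀ a ∈ A, a * a = 1) → A ≠ ⊥ →
      (∀ a ∈ A, (∀ f ∈ F, a * f = f * a) → a = 1) → Nat.card V ≤ Nat.card A * Nat.card (fixedBy A) →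
      ∃ a ∈ A, a ≠ 1 ∧ Nat.card V ≤ 2 * Nat.card (fixedBy (Subgroup.zpowers a)) := by
  intro n
  induction n using Nat.strong_induction_on with
  | _ n ih =>
  intro A hn hAF hcomm hsq hne hfaith hcard
  by_cases hmin : ∃ B : Subgroup (MulAut V), B < A ∧ B ≠ ⊥ ∧ Nat.card V ≤ Nat.card B * Nat.card (fixedBy B)
  · obtain ⟨B, hBA, hB, hcardB⟩ := hmin
    have hlt : Nat.card B < n := by
      rw [← hn]
      apply lt_of_le_of_ne (Nat.card_le_card_of_injective _ (Subgroup.inclusion_injective hBA.le))
      intro h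
      apply hBA.ne
      apply Subgroup.eq_of_le_of_card_ge hBA.le h.ge
    obtain ⟨a, ha, ha1, h⟩ := ih _ hlt B rfl (fun a ha => hAF a (hBA.le ha))
      (fun a ha b hb => hcomm a (hBA.le ha) b (hBA.le hb)) (fun a ha => hsq a (hBA.le ha)) hB
      (fun a ha => hfaith a (hBA.le ha)) hcardB
    exact ⟨a, hBA.le ha, ha1, h⟩
  push Not at hmin
  obtain ⟨⟨a, ha⟩, ha1'⟩ := Subgroup.ne_bot_iff_exists_ne_one.mp hne
  have ha1 : a ≠ 1 := fun h => ha1' (Subtype.ext h)
  have hna : ∃ f ∈ F, a * f ≠ f * a := by
    by_contra hcon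
    push Not at hcon
    exact ha1 (hfaith a ha hcon)
  obtain ⟨B, hBA, haB, hcov, f, hf, hfB, haf⟩ := exists_hyperplane F hF A hAF hcomm hsq a ha hna
  have hcard2 : Nat.card A ≤ 2 * Nat.card B := by
    classical
    have hsub : (A : Set (MulAut V)) ⊆ (B : Set (MulAut V)) ∪ (fun x => a * x) '' (B : Set (MulAut V)) := by
      intro b hb
      rcases hcov b hb with h | h
      · exact Or.inl h
      · right
        refine ⟨a * b, h, ?_⟩
        show a * (a * b) = b
        rw [← mul_assoc, hsq a ha, one_mul]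
    have h1 := Set.ncard_le_ncard hsub (Set.toFinite _)
    have h2 := Set.ncard_union_le (B : Set (MulAut V)) ((fun x => a * x) '' (B : Set (MulAut V)))
    have h3 := Set.ncard_image_le (f := fun x => a * x) (Set.toFinite (B : Set (MulAut V)))
    have h4 : Nat.card A = (A : Set (MulAut V)).ncard := rfl
    have h5 : Nat.card B = (B : Set (MulAut V)).ncard := rfl
    omega
  by_cases hB : B = ⊥
  · subst hB
    refine ⟨a, ha, ha1, ?_⟩
    have hAz : fixedBy (Subgroup.zpowers a) = fixedBy A := by
      apply le_antisymm _ (fixedBy_anti (by rwa [Subgroup.zpowers_le]))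
      intro v hv b hb
      rcases hcov b hb with h | h
      · rw [Subgroup.mem_bot] at h; rw [h]; rfl
      · rw [Subgroup.mem_bot] at h
        have : b = a := by
          have h' : b = a⁻¹ := (inv_eq_of_mul_eq_one_right h).symm
          rw [h', inv_eq_of_mul_eq_one_left (hsq a ha)]
        rw [this]
        exact hv a (Subgroup.mem_zpowers a)
    rw [hAz]
    have : Nat.card (⊥ : Subgroup (MulAut V)) = 1 := Subgroup.card_bot
    rw [this] at hcard2
    calc Nat.card V ≤ Nat.card A * Nat.card (fixedBy A) := hcard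
      _ ≤ 2 * Nat.card (fixedBy A) := Nat.mul_le_mul_right _ (by omega)
  · exfalso
    have hlt : B < A := lt_of_le_of_ne hBA (fun h => haB (h ▸ ha))
    have h1 := hmin B hlt hB
    have hfle : fixedBy A ≤ fixedBy B := fixedBy_anti hBA
    have hfeq : fixedBy A = fixedBy B := by
      by_contra hne'
      obtain ⟨k, hk⟩ := Subgroup.card_dvd_of_le hfle
      have hpos : 0 < Nat.card (fixedBy A) := Nat.card_pos
      have hk2 : 2 ≤ k := by
        rcases Nat.lt_or_ge k 2 with h | h
        · exfalso
          interval_cases k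
          · have : 0 < Nat.card (fixedBy B) := Nat.card_pos
            omega
          · apply hne'
            apply Subgroup.eq_of_le_of_card_ge hfle
            omega
        · exact h
      have h2 : Nat.card V < Nat.card V := by
        calc Nat.card V ≤ Nat.card A * Nat.card (fixedBy A) := hcard
          _ ≤ (2 * Nat.card B) * Nat.card (fixedBy A) := Nat.mul_le_mul_right _ hcard2
          _ = Nat.card B * (Nat.card (fixedBy A) * 2) := by ring
          _ ≤ Nat.card B * (Nat.card (fixedBy A) * k) := by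
              apply Nat.mul_le_mul_left; apply Nat.mul_le_mul_left; exact hk2
          _ = Nat.card B * Nat.card (fixedBy B) := by rw [← hk]
          _ < Nat.card V := h1
      exact lt_irrefl _ h2
    -- e = [a, f]
    have hfinv : ∀ b ∈ B, b * f⁻¹ = f⁻¹ * b := fun b hb => by
      have := hfB b hb
      calc b * f⁻¹ = f⁻¹ * (f * b) * f⁻¹ := by group
        _ = f⁻¹ * (b * f) * f⁻¹ := by rw [this]
        _ = f⁻¹ * b := by group
    have heF : a * f * a⁻¹ * f⁻¹ ∈ F := mul_mem (hAF a ha f hf) (inv_mem hf)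
    have heodd : Odd (orderOf (a * f * a⁻¹ * f⁻¹)) := by
      have h3 : orderOf (⟨_, heF⟩ : F) ∣ Nat.card F := orderOf_dvd_natCard _
      rw [Subgroup.orderOf_mk] at h3
      exact hF.of_dvd_nat h3
    have he := axb_elementary hV B ?_ (a * f * a⁻¹ * f⁻¹) heodd ?_ ?_
    · apply haf
      have : a * f * a⁻¹ = f := by
        exact mul_inv_eq_one.mp he
      exact mul_inv_eq_iff_eq_mul.mp this
    · intro b
      refine ⟨1, ?_⟩
      rw [pow_one, sq]
      exact Subtype.ext (hsq b (hBA b.2))
    · intro b hb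
      have h1 := hcomm b (hBA hb) a ha
      have h2 := hcomm b (hBA hb) a⁻¹ (inv_mem ha)
      calc b * (a * f * a⁻¹ * f⁻¹) = (b * a) * f * a⁻¹ * f⁻¹ := by group
        _ = a * (b * f) * a⁻¹ * f⁻¹ := by rw [h1]; group
        _ = a * f * (b * a⁻¹) * f⁻¹ := by rw [hfB b hb]; group
        _ = a * f * a⁻¹ * (b * f⁻¹) := by rw [h2]; group
        _ = a * f * a⁻¹ * f⁻¹ * b := by rw [hfinv b hb]; group
    · intro v hv
      have hfv : f⁻¹ v ∈ fixedBy B := by
        intro b hb
        have := congrArg (fun g : MulAut V => g v) (hfinv b hb)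
        simp only [MulAut.mul_apply] at this
        rw [this, hv b hb]
      have hva : ∀ w ∈ fixedBy B, a w = w ∧ a⁻¹ w = w := by
        intro w hw
        rw [← hfeq] at hw
        exact ⟨hw a ha, hw a⁻¹ (inv_mem ha)⟩
      show a (f (a⁻¹ (f⁻¹ v))) = v
      rw [(hva _ hfv).2]
      have : f (f⁻¹ v) = v := by
        have := congrArg (fun g : MulAut V => g v) (mul_inv_cancel f)
        simpa using this
      rw [this]
      exact (hva v hv).1

end Cfsg.Agent.H34
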