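import Mathlib

set_option autoImplicit false

namespace Cfsg.Agent.H34.FP

open Equiv Equiv.Perm
open scoped commutatorElement

/-- merging two cycles -/
theorem merge_aux {α : Type*} [DecidableEq α] (f : Perm α) (x y : α) (hxy : ¬ f.SameCycle x y) :
    ∀ (k : ℕ) (s : α), (f ^ (k+1)) s = x → (swap x y * f).SameCycle s y := by
  intro k
  induction k with
  | zero =>
    intro s hs
    refine ⟨1, ?_⟩
    simp only [zero_add, pow_one] at hs
    simp [Perm.mul_apply, hs]
  | succ k ih =>
    intro s hs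
    by_cases h1 : f s = x
    · refine ⟨1, ?_⟩
      simp [Perm.mul_apply, h1]
    · have h2 : f s ≠ y := by
        intro h2
        apply hxy
        have : (f ^ (k+1)) (f s) = x := by
          rw [pow_succ] at hs
          simpa [Perm.mul_apply] using hs
        rw [h2] at this
        exact Perm.SameCycle.symm ⟨(k+1 : ℕ), by rw [zpow_natCast]; exact this⟩
      have h3 : (f ^ (k+1)) (f s) = x := by
        rw [pow_succ] at hs
        simpa [Perm.mul_apply] using hs
      have h4 := ih (f s) h3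
      have h5 : (swap x y * f) s = f s := by
        simp [Perm.mul_apply, swap_apply_of_ne_of_ne h1 h2]
      rw [← h5] at h4
      exact (Perm.sameCycle_apply_left.mp h4)

theorem merge_left {α : Type*} [DecidableEq α] [Finite α] (f : Perm α) (x y : α)
    (hxy : ¬ f.SameCycle x y) (s : α) (hs : f.SameCycle s x) : (swap x y * f).SameCycle s y := by
  obtain ⟨i, hi, _, h⟩ := hs.exists_pow_eq''
  obtain ⟨k, rfl⟩ : ∃ k, i = k + 1 := ⟨i - 1, by omega⟩
  exact merge_aux f x y hxy k s h

theorem merge {α : Type*} [DecidableEq α] [Finite α] (f : Perm α) (x y : α)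
    (hxy : ¬ f.SameCycle x y) (s : α) (hs : f.SameCycle s x ∨ f.SameCycle s y) :
    (swap x y * f).SameCycle s x := by
  have h0 : (swap x y * f).SameCycle x y := merge_left f x y hxy x (Perm.SameCycle.refl _ _)
  rcases hs with hs | hs
  · exact (merge_left f x y hxy s hs).trans h0.symm
  · have h1 := merge_left f y x (fun h => hxy h.symm) s hs
    rwa [swap_comm] at h1

/-- abelian normal subgroup data -/
theorem exists_abel {α : Type*} [Finite α] (H : Subgroup (Perm α)) (hs : Group.IsSolvable H) (hH : H ≠ ⊥) :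
    ∃ M : Subgroup (Perm α), M ≠ ⊥ ∧ (∀ h ∈ H, ∀ m ∈ M, h * m * h⁻¹ ∈ M) ∧
      (∀ m ∈ M, ∀ m' ∈ M, m * m' = m' * m) := by
  classical
  have hnt : Nontrivial H := (Subgroup.nontrivial_iff_ne_bot H).mpr hH
  obtain ⟨n, hn⟩ := hs.solvable
  let P : ℕ → Prop := fun k => derivedSeries H k = ⊥
  have hP : ∃ k, P k := ⟨n, hn⟩
  have h0 : ¬ P 0 := by
    intro h
    have : (⊤ : Subgroup H) = ⊥ := by simpa [P] using h
    exact (Subgroup.nontrivial_iff_ne_bot (⊤ : Subgroup H)).mp inferInstance this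
  obtain ⟨k, hk⟩ : ∃ k, Nat.find hP = k + 1 := by
    refine ⟨Nat.find hP - 1, ?_⟩
    have : Nat.find hP ≠ 0 := by
      intro h
      have := Nat.find_spec hP
      rw [h] at this
      exact h0 this
    omega
  have h1 : P (k+1) := hk ▸ Nat.find_spec hP
  have h2 : ¬ P k := Nat.find_min hP (by omega)
  refine ⟨(derivedSeries H k).map H.subtype, ?_, ?_, ?_⟩
  · intro h
    apply h2
    have := (Subgroup.map_eq_bot_iff_of_injective _ H.subtype_injective).mp h
    exact this
  · rintro h hh m ⟨m', hm', rfl⟩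
    refine ⟨⟨h, hh⟩ * m' * ⟨h, hh⟩⁻¹, ?_, by simp⟩
    exact (inferInstance : (derivedSeries H k).Normal).conj_mem m' hm' ⟨h, hh⟩
  · rintro m ⟨a, ha, rfl⟩ m' ⟨b, hb, rfl⟩
    have h3 : ⁅a, b⁆ ∈ derivedSeries H (k+1) := by
      rw [derivedSeries_succ]
      exact Subgroup.commutator_mem_commutator ha hb
    have h4 : derivedSeries H (k+1) = ⊥ := h1
    rw [h4, Subgroup.mem_bot] at h3
    rw [commutatorElement_eq_one_iff_mul_comm] at h3
    exact congrArg H.subtype h3

/-- Nonsolvability criterion. -/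
theorem ns {α : Type*} [Fintype α] (H : Subgroup (Perm α)) (htr : ∀ a b : α, ∃ h ∈ H, h a = b)
    (hodd : Odd (Fintype.card α)) (h5 : 5 ≤ Fintype.card α) (v : Perm α) (hv : v ∈ H) (p1 p2 : α)
    (h12 : p1 ≠ p2) (hv1 : v p1 = p1) (hv2 : v p2 = p2)
    (hvt : ∀ a b : α, a ≠ p1 → a ≠ p2 → b ≠ p1 → b ≠ p2 → v.SameCycle a b) : ¬ Group.IsSolvable H := by
  classical
  intro hs
  have hHne : H ≠ ⊥ := by
    rintro rfl
    obtain ⟨h, hh, hab⟩ := htr p1 p2
    rw [Subgroup.mem_bot] at hh
    subst hh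
    exact h12 hab
  obtain ⟨M, hM, hnorm, hab⟩ := exists_abel H hs hHne
  -- M has no fixed point
  have hfix : ∀ a : α, ¬ ∀ m ∈ M, m a = a := by
    intro a ha
    apply hM
    rw [eq_bot_iff]
    intro m hm
    rw [Subgroup.mem_bot]
    ext b
    obtain ⟨h, hh, hb⟩ := htr b a
    have h1 : h (m (h⁻¹ a)) = a := ha (h * m * h⁻¹) (hnorm h hh m hm)
    rw [← hb, show h⁻¹ (h b) = b by simp] at h1
    simpa using h.injective h1
  -- the number of fixed points of elements
  have hvfix : ∀ q : α, v q = q → q = p1 ∨ q = p2 := by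
    intro q hq
    by_contra hc
    push Not at hc
    have hall : ∀ r : α, r = p1 ∨ r = p2 ∨ r = q := by
      intro r
      by_contra hr
      push Not at hr
      obtain ⟨i, hi⟩ := hvt q r hc.1 hc.2 hr.1 hr.2.1
      rw [Perm.zpow_apply_eq_self_of_apply_eq_self hq i] at hi
      exact hr.2.2 hi.symm
    have : (Finset.univ : Finset α) ⊆ {p1, p2, q} := by
      intro r _
      simpa using hall r
    have h6 := Finset.card_le_card this
    have h7 : ({p1, p2, q} : Finset α).card ≤ 3 := Finset.card_le_three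
    rw [Finset.card_univ] at h6
    omega
  have hvpow : ∀ (i : ℤ) (m : Perm α), m ∈ M → v ^ i * m * (v ^ i)⁻¹ ∈ M :=
    fun i m hm => hnorm _ (H.zpow_mem hv i) m hm
  have hvinv : ∀ (i : ℤ), (v ^ i)⁻¹ p1 = p1 := fun i => by
    rw [← zpow_neg]; exact Perm.zpow_apply_eq_self_of_apply_eq_self hv1 _
  have hmove : ∀ (m : Perm α), m ∈ M → ∀ q, v.SameCycle (m p1) q → ∃ m' ∈ M, m' p1 = q := by
    rintro m hm q ⟨i, hi⟩
    exact ⟨v ^ i * m * (v ^ i)⁻¹, hvpow i m hm, by
      simp only [Perm.mul_apply]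
      rw [hvinv i, hi]⟩
  by_cases hc : ∃ m ∈ M, m p1 ≠ p1 ∧ m p1 ≠ p2
  · obtain ⟨m, hm, hm1, hm2⟩ := hc
    -- M is transitive
    have hq : ∀ q, q ≠ p1 → q ≠ p2 → ∃ m' ∈ M, m' p1 = q := fun q h1 h2 =>
      hmove m hm q (hvt _ _ hm1 hm2 h1 h2)
    have htrM : ∀ q, ∃ m' ∈ M, m' p1 = q := by
      intro q
      by_cases h1 : q = p1
      · exact ⟨1, M.one_mem, by simp [h1]⟩
      by_cases h2 : q = p2
      · have h3 := hfix p2
        push Not at h3
        obtain ⟨m', hm', hne⟩ := h3
        by_cases h4 : m' p2 = p1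
        · refine ⟨m'⁻¹, M.inv_mem hm', ?_⟩
          rw [Perm.inv_eq_iff_eq, h2, h4]
        · obtain ⟨m'', hm'', h6⟩ := hq _ h4 hne
          refine ⟨m'⁻¹ * m'', M.mul_mem (M.inv_mem hm') hm'', ?_⟩
          rw [Perm.mul_apply, h6, h2]
          simp
      · exact hq q h1 h2
    have hreg : ∀ m ∈ M, m p1 = p1 → m = 1 := by
      intro m hm h1
      ext q
      obtain ⟨m', hm', rfl⟩ := htrM q
      have := congrArg (fun z : Perm α => z p1) (hab m hm m' hm')
      simp only [Perm.mul_apply] at this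
      rw [this, h1]
      simp
    obtain ⟨m0, hm0, h0⟩ := htrM p2
    have hcomm : v * m0 * v⁻¹ = m0 := by
      have h1 : m0⁻¹ * (v * m0 * v⁻¹) ∈ M := M.mul_mem (M.inv_mem hm0) (hnorm v hv m0 hm0)
      have h2 : (m0⁻¹ * (v * m0 * v⁻¹)) p1 = p1 := by
        simp only [Perm.mul_apply]
        have : v⁻¹ p1 = p1 := by rw [Perm.inv_eq_iff_eq, hv1]
        rw [this, h0, hv2, Perm.inv_eq_iff_eq, h0]
      have := hreg _ h1 h2
      rwa [inv_mul_eq_one, eq_comm] at this
    have h3 : v (m0 p2) = m0 p2 := by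
      have := congrArg (fun z : Perm α => z p2) (mul_inv_eq_iff_eq_mul.mp hcomm)
      simp only [Perm.mul_apply] at this
      rw [this, hv2]
    have h4 : m0 p2 = p1 := by
      rcases hvfix _ h3 with h | h
      · exact h
      · exfalso
        exact h12 (m0.injective (h0.trans h.symm))
    have h5' : m0 ^ 2 = 1 := by
      apply hreg _ (M.pow_mem hm0 2)
      rw [pow_two, Perm.mul_apply, h0, h4]
    have : Fact (Nat.Prime 2) := ⟨Nat.prime_two⟩
    have h6 := Equiv.Perm.card_compl_support_modEq (σ := m0) (p := 2) (n := 1) (by simpa using h5')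
    have h7 : (m0.supportᶜ).card = 0 := by
      rw [Finset.card_eq_zero, Finset.eq_empty_iff_forall_notMem]
      intro q hq
      rw [Finset.mem_compl, Perm.notMem_support] at hq
      obtain ⟨m', hm', rfl⟩ := htrM q
      have h8 : m0 (m' p1) = m' p1 := hq
      have := congrArg (fun z : Perm α => z p1) (hab m0 hm0 m' hm')
      simp only [Perm.mul_apply] at this
      rw [this] at h8
      have := m'.injective h8
      rw [h0] at this
      exact h12 this.symm
    rw [h7] at h6
    have h8 := (Nat.modEq_zero_iff_dvd.mp h6.symm)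
    rw [Nat.odd_iff] at hodd
    omega
  · push Not at hc
    have hc' : ∀ m ∈ M, m p1 = p1 ∨ m p1 = p2 := by
      intro m hm
      by_cases h : m p1 = p1
      · exact Or.inl h
      · exact Or.inr (hc m hm h)
    obtain ⟨m1, hm1, hm1'⟩ : ∃ m ∈ M, m p1 = p2 := by
      have := hfix p1
      push Not at this
      obtain ⟨m, hm, h⟩ := this
      exact ⟨m, hm, hc m hm h⟩
    have hsq1 : ∀ m ∈ M, (m * m) p1 = p1 := by
      intro m hm
      rcases hc' m hm with h | h
      · simp [h]
      · rcases hc' _ (M.mul_mem hm hm) with h' | h'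
        · exact h'
        · exfalso
          rw [Perm.mul_apply] at h'
          rw [← h] at h'
          exact h12 ((m.injective h').symm.trans (by rw [h]))
    have hsq : ∀ m ∈ M, m * m = 1 := by
      intro m hm
      ext q
      obtain ⟨h, hh, hq⟩ := htr q p1
      have h1 : h (m (h⁻¹ (h (m (h⁻¹ p1))))) = p1 := hsq1 (h * m * h⁻¹) (hnorm h hh m hm)
      rw [← hq, show h⁻¹ (h q) = q by simp, show h⁻¹ (h (m q)) = m q by simp] at h1
      have := h.injective h1
      simpa using this
    have hpg : IsPGroup 2 M := by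
      intro m
      refine ⟨1, ?_⟩
      ext1
      simpa [pow_two] using hsq m.1 m.2
    have : Fact (Nat.Prime 2) := ⟨Nat.prime_two⟩
    have h6 := hpg.card_modEq_card_fixedPoints α
    have h7 : Nat.card (MulAction.fixedPoints M α) = 0 := by
      rw [Nat.card_eq_zero]
      left
      constructor
      rintro ⟨q, hq⟩
      apply hfix q
      intro m hm
      exact hq ⟨m, hm⟩
    rw [h7] at h6
    have h8 := (Nat.modEq_zero_iff_dvd.mp h6)
    rw [Nat.card_eq_fintype_card] at h8
    rw [Nat.odd_iff] at hodd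
    omega

end Cfsg.Agent.H34.FP
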