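import Cfsg.Agent.H34.FP1

set_option autoImplicit false

namespace Cfsg.Agent.H34.FP

open Equiv Equiv.Perm
open scoped commutatorElement

/-- the property we look for -/
def Good {α : Type*} (p : ℕ) (u w : Perm α) : Prop :=
  (∀ k : ℕ, (u * w) ^ (p ^ k) ≠ 1) ∧ ¬ Group.IsSolvable (Subgroup.closure ({u, w} : Set (Perm α)))

theorem Good.transfer {α β : Type*} {p : ℕ} {x y : Perm β} (h : Good p x y) (j : β → α)
    (hj : Function.Injective j) (X Y : Perm α) (hX : ∀ b, X (j b) = j (x b))
    (hY : ∀ b, Y (j b) = j (y b)) : Good p X Y := by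
  -- the subgroup of compatible pairs
  let K : Subgroup (Perm α × Perm β) :=
    { carrier := {q | ∀ b, q.1 (j b) = j (q.2 b)}
      mul_mem' := by
        rintro ⟨a, b⟩ ⟨c, d⟩ h1 h2 z
        simp only [Set.mem_setOf_eq] at h1 h2
        simp only [Prod.mk_mul_mk, Perm.mul_apply, h2, h1]
      one_mem' := fun b => rfl
      inv_mem' := by
        rintro ⟨a, b⟩ h1 z
        simp only [Set.mem_setOf_eq] at h1
        simp only [Prod.inv_mk]
        rw [Perm.inv_eq_iff_eq, h1]
        simp }
  have hKX : ((X, x) : Perm α × Perm β) ∈ K := hX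
  have hKY : ((Y, y) : Perm α × Perm β) ∈ K := hY
  have hKinj : ∀ q ∈ K, q.1 = 1 → q.2 = 1 := by
    intro q hq h1
    ext b
    have := hq b
    rw [h1] at this
    exact (hj this).symm
  constructor
  · intro k hk
    apply h.1 k
    have h1 : ((X, x) * (Y, y)) ^ (p ^ k) ∈ K := K.pow_mem (K.mul_mem hKX hKY) _
    exact hKinj _ h1 hk
  · intro hs
    apply h.2
    let L : Subgroup (Perm α × Perm β) := Subgroup.closure {(X, x), (Y, y)}
    have hLK : L ≤ K := by
      rw [Subgroup.closure_le]
      rintro q (rfl | rfl)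
      · exact hKX
      · exact hKY
    have hmap1 : L.map (MonoidHom.fst (Perm α) (Perm β)) = Subgroup.closure {X, Y} := by
      rw [MonoidHom.map_closure, Set.image_pair]
      rfl
    have hmap2 : L.map (MonoidHom.snd (Perm α) (Perm β)) = Subgroup.closure {x, y} := by
      rw [MonoidHom.map_closure, Set.image_pair]
      rfl
    rw [← hmap1] at hs
    rw [← hmap2]
    have hL : Group.IsSolvable L := by
      refine Group.isSolvable_of_isSolvable_injective (f := (MonoidHom.fst (Perm α) (Perm β)).subgroupMap L) ?_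
      rw [injective_iff_map_eq_one]
      rintro ⟨q, hq⟩ h1
      have h2 : q.1 = 1 := congrArg Subtype.val h1
      have h3 := hKinj q (hLK hq) h2
      ext1
      exact Prod.ext h2 h3
    exact Group.isSolvable_of_surjective (f := (MonoidHom.snd (Perm α) (Perm β)).subgroupMap L)
      (MonoidHom.subgroupMap_surjective _ _)

theorem Good.symm {α : Type*} {p : ℕ} {x y : Perm α} (h : Good p x y) : Good p y x := by
  constructor
  · intro k hk
    apply h.1 k
    have : y * x = x⁻¹ * (x * y) * x := by group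
    rw [this] at hk
    have h2 : (x⁻¹ * (x * y) * x) ^ (p ^ k) = x⁻¹ * (x * y) ^ (p ^ k) * x := by
      have := conj_pow (i := p ^ k) (a := x⁻¹) (b := x * y)
      rw [inv_inv] at this
      exact this
    rw [h2] at hk
    calc (x * y) ^ (p ^ k) = x * (x⁻¹ * (x * y) ^ (p ^ k) * x) * x⁻¹ := by group
      _ = 1 := by rw [hk]; group
  · rw [Set.pair_comm]
    exact h.2

theorem Good.conj {α : Type*} {p : ℕ} {x y : Perm α} (h : Good p x y) (g : Perm α) :
    Good p (g * x * g⁻¹) (g * y * g⁻¹) :=
  h.transfer g g.injective _ _ (fun b => by simp [Perm.mul_apply]) (fun b => by simp [Perm.mul_apply])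

/-- configuration -/
def Cfg {α : Type*} (x w : Perm α) (p1 p2 : α) : Prop :=
  (∀ a b, x.SameCycle a b) ∧ p1 ≠ p2 ∧ (x * w) p1 = p1 ∧ (x * w) p2 = p2 ∧
    ∀ a b : α, a ≠ p1 → a ≠ p2 → b ≠ p1 → b ≠ p2 → (x * w).SameCycle a b

theorem Cfg.good {α : Type*} [Fintype α] {x w : Perm α} {p1 p2 : α} (h : Cfg x w p1 p2)
    (p : ℕ) (hp : p.Prime) (hp3 : 3 ≤ p) (i : ℕ) (hc : Fintype.card α = p ^ i)
    (h5 : 5 ≤ Fintype.card α) : Good p x w := by
  classical
  have : Fact p.Prime := ⟨hp⟩
  have hodd : Odd (Fintype.card α) := by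
    rw [hc]
    exact (hp.odd_of_ne_two (by omega)).pow
  constructor
  · intro k hk
    have h6 := Equiv.Perm.card_compl_support_modEq (σ := x * w) (p := p) (n := k) hk
    have h7 : ((x * w).supportᶜ) = {p1, p2} := by
      ext q
      rw [Finset.mem_compl, Perm.notMem_support]
      simp only [Finset.mem_insert, Finset.mem_singleton]
      constructor
      · intro hq
        by_contra hcon
        push Not at hcon
        have hall : ∀ r : α, r = p1 ∨ r = p2 ∨ r = q := by
          intro r
          by_contra hr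
          push Not at hr
          obtain ⟨i, hi⟩ := h.2.2.2.2 q r hcon.1 hcon.2 hr.1 hr.2.1
          rw [Perm.zpow_apply_eq_self_of_apply_eq_self hq i] at hi
          exact hr.2.2 hi.symm
        have h8 : (Finset.univ : Finset α) ⊆ {p1, p2, q} := by
          intro r _
          simpa using hall r
        have h9 := Finset.card_le_card h8
        have h7 : ({p1, p2, q} : Finset α).card ≤ 3 := Finset.card_le_three
        rw [Finset.card_univ] at h9
        omega
      · rintro (rfl | rfl)
        · exact h.2.2.1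
        · exact h.2.2.2.1
    rw [h7, Finset.card_pair h.2.1, hc] at h6
    have hi : i ≠ 0 := by
      rintro rfl
      rw [pow_zero] at hc
      omega
    have h10 : p ^ i ≡ 0 [MOD p] := Nat.modEq_zero_iff_dvd.mpr (dvd_pow_self p hi)
    have h11 := Nat.modEq_zero_iff_dvd.mp (h6.trans h10)
    have := Nat.le_of_dvd (by norm_num) h11
    omega
  · refine ns _ ?_ hodd h5 (x * w) ?_ p1 p2 h.2.1 h.2.2.1 h.2.2.2.1 h.2.2.2.2
    · intro a b
      obtain ⟨i, hi⟩ := h.1 a b
      exact ⟨x ^ i, Subgroup.zpow_mem _ (Subgroup.subset_closure (by simp)) _, hi⟩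
    · exact Subgroup.mul_mem _ (Subgroup.subset_closure (by simp)) (Subgroup.subset_closure (by simp))

/-- perfect two generator groups -/
theorem not_solvable_of_comm {G : Type*} [Group G] (u w a b c d : G) (hu : u ≠ 1)
    (ha : a ∈ Subgroup.closure ({u, w} : Set G)) (hb : b ∈ Subgroup.closure ({u, w} : Set G))
    (hc : c ∈ Subgroup.closure ({u, w} : Set G)) (hd : d ∈ Subgroup.closure ({u, w} : Set G))
    (h1 : u = ⁅a, b⁆) (h2 : w = ⁅c, d⁆) :
    ¬ Group.IsSolvable (Subgroup.closure ({u, w} : Set G)) := by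
  intro hs
  set H := Subgroup.closure ({u, w} : Set G) with hH
  have hu1 : u ∈ ⁅H, H⁆ := by rw [h1]; exact Subgroup.commutator_mem_commutator ha hb
  have hw1 : w ∈ ⁅H, H⁆ := by rw [h2]; exact Subgroup.commutator_mem_commutator hc hd
  have hle : H ≤ ⁅H, H⁆ := by
    conv_lhs => rw [hH]
    rw [Subgroup.closure_le]
    rintro q (rfl | rfl)
    · exact hu1
    · exact hw1
  have hmap : ∀ n, (derivedSeries H n).map H.subtype = H := by
    intro n
    induction n with
    | zero => rw [derivedSeries_zero, ← MonoidHom.range_eq_map, Subgroup.range_subtype]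
    | succ n ih =>
      rw [derivedSeries_succ, Subgroup.map_commutator, ih]
      exact le_antisymm (Subgroup.commutator_le_self H) hle
  obtain ⟨n, hn⟩ := hs.solvable
  have := hmap n
  rw [hn, Subgroup.map_bot] at this
  have hu' : u ∈ H := Subgroup.subset_closure (by simp)
  rw [← this, Subgroup.mem_bot] at hu'
  exact hu hu'

theorem pow_ne_of_five {α : Type*} (p : ℕ) (hp : p = 3) (v : Perm α) (h5 : v ^ 5 = 1) (h1 : v ≠ 1) :
    ∀ k : ℕ, v ^ (p ^ k) ≠ 1 := by
  intro k hk
  have : Fact (Nat.Prime 5) := ⟨by norm_num⟩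
  have h2 := orderOf_eq_prime h5 h1
  have h3 := orderOf_dvd_of_pow_eq_one hk
  rw [h2, hp] at h3
  have := (Nat.Prime.dvd_of_dvd_pow (by norm_num) h3)
  omega

end Cfsg.Agent.H34.FP
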