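import Cfsg.Agent.H34.FP2

set_option autoImplicit false

namespace Cfsg.Agent.H34.FP

open Equiv Equiv.Perm
open scoped commutatorElement

def u5 : Perm (Fin 5) := ⟨![1,2,0,3,4], ![2,0,1,3,4], by unfold Function.LeftInverse; decide, by unfold Function.RightInverse Function.LeftInverse; decide⟩
def w5 : Perm (Fin 5) := ⟨![0,1,3,4,2], ![0,1,4,2,3], by unfold Function.LeftInverse; decide, by unfold Function.RightInverse Function.LeftInverse; decide⟩
def u6 : Perm (Fin 6) := ⟨![1,2,0,4,5,3], ![2,0,1,5,3,4], by unfold Function.LeftInverse; decide, by unfold Function.RightInverse Function.LeftInverse; decide⟩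
def w6 : Perm (Fin 6) := ⟨![1,3,5,0,2,4], ![3,0,4,1,5,2], by unfold Function.LeftInverse; decide, by unfold Function.RightInverse Function.LeftInverse; decide⟩
def v6 : Perm (Fin 6) := ⟨![0,1,3,5,4,2], ![0,1,5,2,4,3], by unfold Function.LeftInverse; decide, by unfold Function.RightInverse Function.LeftInverse; decide⟩

set_option maxRecDepth 100000 in
theorem good5 : Good 3 u5 w5 := by
  refine ⟨pow_ne_of_five 3 rfl _ (by decide) (by decide), ?_⟩
  have hu : u5 ∈ Subgroup.closure ({u5, w5} : Set (Perm (Fin 5))) := Subgroup.subset_closure (by simp)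
  have hw : w5 ∈ Subgroup.closure ({u5, w5} : Set (Perm (Fin 5))) := Subgroup.subset_closure (by simp)
  refine not_solvable_of_comm u5 w5 (w5*u5*u5*w5) (w5*u5*w5) (u5*w5*u5*u5) (u5*w5*u5) (by decide)
    ?_ ?_ ?_ ?_ (by rw [commutatorElement_def]; decide) (by rw [commutatorElement_def]; decide) <;>
  repeat' (first | assumption | apply Subgroup.mul_mem)

set_option maxRecDepth 100000 in
theorem good6 : Good 3 u6 w6 := by
  refine ⟨pow_ne_of_five 3 rfl _ (by decide) (by decide), ?_⟩
  have hu : u6 ∈ Subgroup.closure ({u6, w6} : Set (Perm (Fin 6))) := Subgroup.subset_closure (by simp)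
  have hw : w6 ∈ Subgroup.closure ({u6, w6} : Set (Perm (Fin 6))) := Subgroup.subset_closure (by simp)
  refine not_solvable_of_comm u6 w6 (w6*u6*u6*w6) (w6*u6*w6) (u6*w6*u6*u6) (u6*w6*u6) (by decide)
    ?_ ?_ ?_ ?_ (by rw [commutatorElement_def]; decide) (by rw [commutatorElement_def]; decide) <;>
  repeat' (first | assumption | apply Subgroup.mul_mem)

set_option maxRecDepth 100000 in
theorem good6' : Good 3 u6 v6 := by
  refine ⟨pow_ne_of_five 3 rfl _ (by decide) (by decide), ?_⟩
  have hu : u6 ∈ Subgroup.closure ({u6, v6} : Set (Perm (Fin 6))) := Subgroup.subset_closure (by simp)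
  have hw : v6 ∈ Subgroup.closure ({u6, v6} : Set (Perm (Fin 6))) := Subgroup.subset_closure (by simp)
  refine not_solvable_of_comm u6 v6 (v6*u6*v6*u6*u6*v6*u6*v6*v6) u6 (u6*u6*v6*u6*v6*v6*u6*v6*u6) v6 (by decide)
    ?_ ?_ ?_ ?_ (by rw [commutatorElement_def]; decide) (by rw [commutatorElement_def]; decide) <;>
  repeat' (first | assumption | apply Subgroup.mul_mem)

theorem ct_u5 : u5.cycleType = {3} := by
  rw [show u5 = swap 0 2 * swap 0 1 by decide]
  exact isThreeCycle_swap_mul_swap_same (by decide) (by decide) (by decide)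
theorem ct_w5 : w5.cycleType = {3} := by
  rw [show w5 = swap 2 4 * swap 2 3 by decide]
  exact isThreeCycle_swap_mul_swap_same (by decide) (by decide) (by decide)
theorem ct_v6 : v6.cycleType = {3} := by
  rw [show v6 = swap 2 5 * swap 2 3 by decide]
  exact isThreeCycle_swap_mul_swap_same (by decide) (by decide) (by decide)
theorem ct_u6 : u6.cycleType = {3, 3} := by
  rw [show u6 = (swap 0 2 * swap 0 1) * (swap 3 5 * swap 3 4) by decide]
  have h1 : IsThreeCycle (swap (0 : Fin 6) 2 * swap 0 1) :=
    isThreeCycle_swap_mul_swap_same (by decide) (by decide) (by decide)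
  have h2 : IsThreeCycle (swap (3 : Fin 6) 5 * swap 3 4) :=
    isThreeCycle_swap_mul_swap_same (by decide) (by decide) (by decide)
  rw [Disjoint.cycleType_mul (by intro x; revert x; decide), h1.cycleType, h2.cycleType]
  rfl
theorem ct_w6 : w6.cycleType = {3, 3} := by
  rw [show w6 = (swap 0 3 * swap 0 1) * (swap 2 4 * swap 2 5) by decide]
  have h1 : IsThreeCycle (swap (0 : Fin 6) 3 * swap 0 1) :=
    isThreeCycle_swap_mul_swap_same (by decide) (by decide) (by decide)
  have h2 : IsThreeCycle (swap (2 : Fin 6) 4 * swap 2 5) :=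
    isThreeCycle_swap_mul_swap_same (by decide) (by decide) (by decide)
  rw [Disjoint.cycleType_mul (by intro x; revert x; decide), h1.cycleType, h2.cycleType]
  rfl

end Cfsg.Agent.H34.FP
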