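import Cfsg.Agent.H34.FP2

set_option autoImplicit false

namespace Cfsg.Agent.H34.FP

open Equiv Equiv.Perm

section ct
variable {α β : Type*} [Fintype α] [DecidableEq α] [Fintype β] [DecidableEq β]

theorem cycleType_sumCongr_one (f : Perm α) :
    (Perm.sumCongr f (1 : Perm β)).cycleType = f.cycleType := by
  classical
  have h : Perm.sumCongr f (1 : Perm β) = f.extendDomain (Equiv.ofInjective (Sum.inl : α → α ⊕ β) Sum.inl_injective) := by
    ext x
    rcases x with x | x
    · have := Perm.extendDomain_apply_image f (Equiv.ofInjective (Sum.inl : α → α ⊕ β) Sum.inl_injective) x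
      simp only [Equiv.ofInjective_apply] at this
      rw [this]
      rfl
    · rw [Perm.extendDomain_apply_not_subtype]
      · rfl
      · rintro ⟨y, hy⟩
        cases hy
  rw [h, cycleType_extendDomain]

theorem cycleType_one_sumCongr (g : Perm β) :
    (Perm.sumCongr (1 : Perm α) g).cycleType = g.cycleType := by
  classical
  have h : Perm.sumCongr (1 : Perm α) g = g.extendDomain (Equiv.ofInjective (Sum.inr : β → α ⊕ β) Sum.inr_injective) := by
    ext x
    rcases x with x | x
    · rw [Perm.extendDomain_apply_not_subtype]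
      · rfl
      · rintro ⟨y, hy⟩
        cases hy
    · have := Perm.extendDomain_apply_image g (Equiv.ofInjective (Sum.inr : β → α ⊕ β) Sum.inr_injective) x
      simp only [Equiv.ofInjective_apply] at this
      rw [this]
      rfl
  rw [h, cycleType_extendDomain]

theorem cycleType_sumCongr (f : Perm α) (g : Perm β) :
    (Perm.sumCongr f g).cycleType = f.cycleType + g.cycleType := by
  have h : Perm.sumCongr f g = Perm.sumCongr f 1 * Perm.sumCongr 1 g := by rw [sumCongr_mul, one_mul, mul_one]
  rw [h, Disjoint.cycleType_mul, cycleType_sumCongr_one, cycleType_one_sumCongr]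
  rintro (x | x)
  · right; rfl
  · left; rfl

theorem cycleType_permCongr (e : α ≃ β) (f : Perm α) :
    (e.permCongr f).cycleType = f.cycleType := by
  have h : e.permCongr f = f.extendDomain (e.trans (Equiv.Set.univ β).symm) := by
    ext x
    have := Perm.extendDomain_apply_image f (e.trans (Equiv.Set.univ β).symm) (e.symm x)
    simp only [Equiv.trans_apply, Equiv.apply_symm_apply] at this
    have h2 : ∀ y : β, ((Equiv.Set.univ β).symm y : β) = y := fun y => rfl
    rw [h2, h2] at this
    rw [this]
    rfl
  rw [h, cycleType_extendDomain]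

theorem cycleType_of_trans (f : Perm α) (h : ∀ a b, f.SameCycle a b) (h2 : 2 ≤ Fintype.card α) :
    f.cycleType = {Fintype.card α} := by
  have hsup : f.support = Finset.univ := by
    rw [Finset.eq_univ_iff_forall]
    intro a
    rw [Perm.mem_support]
    intro ha
    have : ∀ b, b = a := by
      intro b
      obtain ⟨i, hi⟩ := h a b
      rw [Perm.zpow_apply_eq_self_of_apply_eq_self ha i] at hi
      exact hi.symm
    have : Subsingleton α := ⟨fun x y => (this x).trans (this y).symm⟩
    have := Fintype.card_le_one_iff_subsingleton.mpr this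
    omega
  have hc : f.IsCycle := by
    have : Nontrivial α := Fintype.one_lt_card_iff_nontrivial.mp (by omega)
    obtain ⟨a⟩ := this.to_nonempty
    refine ⟨a, ?_, fun b _ => h a b⟩
    rw [← Perm.mem_support, hsup]
    exact Finset.mem_univ _
  rw [hc.cycleType, hsup, Finset.card_univ]

end ct

theorem sameCycle_sq {α : Type*} (f : Perm α) (b : ℕ) (hb : Odd b) (hf : f ^ b = 1) (s t : α)
    (h : f.SameCycle s t) : (f * f).SameCycle s t := by
  obtain ⟨c, hc⟩ := hb
  obtain ⟨k, hk⟩ := h
  refine ⟨k * (c+1), ?_⟩
  have h1 : (f * f) ^ (k * ((c:ℤ)+1)) = f ^ k := by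
    have : f * f = f ^ (2:ℤ) := by rw [zpow_two]
    rw [this, ← zpow_mul]
    have h3 : (2 * (k * ((c:ℤ)+1))) = (b : ℤ) * k + k := by rw [hc]; push_cast; ring
    rw [h3, zpow_add, zpow_mul, zpow_natCast, hf, one_zpow, one_mul]
  rw [h1, hk]

end Cfsg.Agent.H34.FP
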