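import Cfsg.Agent.H34.FP4

set_option autoImplicit false

namespace Cfsg.Agent.H34.FP

open Equiv Equiv.Perm

theorem sc_step {α : Type*} {f : Perm α} {i j k : α} (h : f i = j) (h2 : f.SameCycle j k) :
    f.SameCycle i k := Perm.sameCycle_apply_left.mp (h.symm ▸ h2)

def vf (m : ℕ) : Perm (Fin (m+3)) where
  toFun i := if h : i.1 = 0 then ⟨m, by omega⟩ else if i.1 ≤ m then ⟨i.1 - 1, by omega⟩ else i
  invFun i := if h : i.1 < m then ⟨i.1 + 1, by omega⟩ else if i.1 = m then ⟨0, by omega⟩ else i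
  left_inv := by
    intro i
    by_cases h : i.1 = 0
    · simp only [h, dite_true]
      simp
      ext
      simp [h]
    · by_cases h2 : i.1 ≤ m
      · simp only [h, h2, dite_false, if_true]
        rw [dif_pos (by show i.1 - 1 < m; omega)]
        ext
        simp only
        omega
      · simp only [h, h2, dite_false, if_false]
        rw [dif_neg (by omega), if_neg (by omega)]
  right_inv := by
    intro i
    by_cases h : i.1 < m
    · simp only [h, dite_true]
      rw [dif_neg (by show ¬ i.1 + 1 = 0; omega), if_pos (by show i.1 + 1 ≤ m; omega)]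
      ext
      simp
    · by_cases h2 : i.1 = m
      · simp only [h2, lt_irrefl, dite_false, if_true]
        ext
        simp [h2]
      · simp only [h, h2, dite_false, if_false]
        rw [dif_neg (by omega), if_neg (by omega)]

def rot (m : ℕ) : Perm (Fin (m+3)) where
  toFun i := if h : i.1 = m + 2 then ⟨0, by omega⟩ else ⟨i.1 + 1, by omega⟩
  invFun i := if h : i.1 = 0 then ⟨m + 2, by omega⟩ else ⟨i.1 - 1, by omega⟩
  left_inv := by
    intro i
    by_cases h : i.1 = m + 2
    · simp only [h, dite_true]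
      ext
      simp [h]
    · simp only [h, dite_false]
      rw [dif_neg (by show ¬ i.1 + 1 = 0; omega)]
      ext
      simp
  right_inv := by
    intro i
    by_cases h : i.1 = 0
    · simp only [h, dite_true]
      ext
      simp [h]
    · simp only [h, dite_false]
      rw [dif_neg (by show ¬ i.1 - 1 = m + 2; omega)]
      ext
      simp only
      omega

theorem rot_last (m : ℕ) : rot m ⟨m+2, by omega⟩ = ⟨0, by omega⟩ := by
  show dite _ _ _ = _
  rw [dif_pos (show m + 2 = m + 2 from rfl)]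

theorem rot_lt (m k : ℕ) (hk : k < m + 2) : rot m ⟨k, by omega⟩ = ⟨k+1, by omega⟩ := by
  show dite _ _ _ = _
  rw [dif_neg (by show ¬ k = m+2; omega)]

theorem vf_zero (m : ℕ) : vf m ⟨0, by omega⟩ = ⟨m, by omega⟩ := rfl

theorem vf_pos (m k : ℕ) (hk : k ≤ m) (h0 : 0 < k) : vf m ⟨k, by omega⟩ = ⟨k-1, by omega⟩ := by
  show dite _ _ _ = _
  rw [dif_neg (show ¬ k = 0 by omega), if_pos (show k ≤ m by omega)]

theorem vf_gt (m k : ℕ) (hk : m < k) (h0 : k < m + 3) : vf m ⟨k, by omega⟩ = ⟨k, by omega⟩ := by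
  show dite _ _ _ = _
  rw [dif_neg (show ¬ k = 0 by omega), if_neg (show ¬ k ≤ m by omega)]

def xf (m : ℕ) : Perm (Fin (m+3)) := vf m * (rot m)⁻¹

theorem xf_rot (m : ℕ) : xf m * rot m = vf m := by
  unfold xf; group

theorem xf_apply (m : ℕ) (i : Fin (m+3)) : xf m (rot m i) = vf m i := by
  rw [← xf_rot]; rfl

theorem xf_zero (m : ℕ) : xf m ⟨0, by omega⟩ = ⟨m+2, by omega⟩ := by
  rw [← rot_last, xf_apply, vf_gt m (m+2) (by omega) (by omega)]

theorem xf_last (m : ℕ) : xf m ⟨m+2, by omega⟩ = ⟨m+1, by omega⟩ := by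
  rw [← rot_lt m (m+1) (by omega), xf_apply, vf_gt m (m+1) (by omega) (by omega)]

theorem xf_one (m : ℕ) : xf m ⟨1, by omega⟩ = ⟨m, by omega⟩ := by
  have := rot_lt m 0 (by omega)
  simp only [zero_add] at this
  rw [← this, xf_apply, vf_zero]

theorem xf_mid (m k : ℕ) (h1 : 2 ≤ k) (h2 : k ≤ m + 1) : xf m ⟨k, by omega⟩ = ⟨k-2, by omega⟩ := by
  obtain ⟨j, rfl⟩ : ∃ j, k = j + 1 := ⟨k-1, by omega⟩
  rw [← rot_lt m j (by omega), xf_apply, vf_pos m j (by omega) (by omega)]
  ext
  simp only
  omega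

theorem rot_trans (m : ℕ) : ∀ a b, (rot m).SameCycle a b := by
  have h : ∀ (j k : ℕ) (hk : k < m + 3), m + 3 - k ≤ j → (rot m).SameCycle ⟨k, hk⟩ ⟨0, by omega⟩ := by
    intro j
    induction j with
    | zero => intro k hk h; omega
    | succ j ih =>
      intro k hk h
      by_cases h1 : k = m + 2
      · subst h1
        exact sc_step (rot_last m) (Perm.SameCycle.refl _ _)
      · exact sc_step (rot_lt m k (by omega)) (ih (k+1) (by omega) (by omega))
  intro a b
  exact (h _ a.1 a.2 le_rfl).trans (h _ b.1 b.2 le_rfl).symm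

theorem xf_trans (m : ℕ) (hm : Even m) : ∀ a b, (xf m).SameCycle a b := by
  have h : ∀ (k : ℕ) (hk : k < m + 3), k ≤ m + 1 → Even k → (xf m).SameCycle ⟨k, hk⟩ ⟨0, by omega⟩ := by
    intro k
    induction k using Nat.strong_induction_on with
    | _ k ih =>
      intro hk h1 h2
      rcases Nat.eq_zero_or_pos k with h0 | h0
      · subst h0; exact Perm.SameCycle.refl _ _
      · obtain ⟨j, hj⟩ := h2
        exact sc_step (xf_mid m k (by omega) h1) (ih (k-2) (by omega) _ (by omega) ⟨j-1, by omega⟩)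
  have h' : ∀ (k : ℕ) (hk : k < m + 3), k ≤ m + 1 → Odd k → (xf m).SameCycle ⟨k, hk⟩ ⟨0, by omega⟩ := by
    intro k
    induction k using Nat.strong_induction_on with
    | _ k ih =>
      intro hk h1 h2
      by_cases h0 : k = 1
      · subst h0
        exact sc_step (xf_one m) (h m (by omega) (by omega) hm)
      · obtain ⟨j, hj⟩ := h2
        exact sc_step (xf_mid m k (by omega) h1) (ih (k-2) (by omega) _ (by omega) ⟨j-1, by omega⟩)
  have h'' : ∀ (k : ℕ) (hk : k < m + 3), (xf m).SameCycle ⟨k, hk⟩ ⟨0, by omega⟩ := by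
    intro k hk
    by_cases h1 : k = m + 2
    · subst h1
      refine sc_step (xf_last m) (h' (m+1) (by omega) le_rfl ?_)
      exact hm.add_one
    · rcases Nat.even_or_odd k with h2 | h2
      · exact h k hk (by omega) h2
      · exact h' k hk (by omega) h2
  intro a b
  exact (h'' a.1 a.2).trans (h'' b.1 b.2).symm

theorem base (m : ℕ) (hm : Even m) :
    Cfg (xf m) (rot m) ⟨m+1, by omega⟩ ⟨m+2, by omega⟩ := by
  refine ⟨xf_trans m hm, ?_, ?_, ?_, ?_⟩
  · intro h
    have := congrArg Fin.val h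
    simp at this
  · rw [xf_rot]; exact vf_gt m (m+1) (by omega) (by omega)
  · rw [xf_rot]; exact vf_gt m (m+2) (by omega) (by omega)
  · rw [xf_rot]
    have h : ∀ (k : ℕ) (hk : k ≤ m), (vf m).SameCycle ⟨k, by omega⟩ ⟨0, by omega⟩ := by
      intro k
      induction k with
      | zero => intro _; exact Perm.SameCycle.refl _ _
      | succ k ih =>
        intro hk
        exact sc_step (vf_pos m (k+1) hk (by omega)) (ih (by omega))
    have h2 : ∀ a : Fin (m+3), a ≠ ⟨m+1, by omega⟩ → a ≠ ⟨m+2, by omega⟩ → a.1 ≤ m := by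
      intro a h3 h4
      by_contra hc
      have : a.1 = m + 1 ∨ a.1 = m + 2 := by omega
      rcases this with h | h
      · exact h3 (Fin.ext h)
      · exact h4 (Fin.ext h)
    intro a b ha1 ha2 hb1 hb2
    exact (h a.1 (h2 a ha1 ha2)).trans (h b.1 (h2 b hb1 hb2)).symm

end Cfsg.Agent.H34.FP
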