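import Cfsg.Agent.H34.FP5

set_option autoImplicit false

namespace Cfsg.Agent.H34.FP

open Equiv Equiv.Perm

theorem rangeSwap_apply (m : ℕ) (hm : 4 ≤ m) (k : ℕ) (hk : k < m + 3) (h1 : k ≠ 4) (h2 : k ≠ 2) :
    swap (⟨4, by omega⟩ : Fin (m+3)) ⟨2, by omega⟩ ⟨k, hk⟩ = ⟨k, hk⟩ := by
  apply swap_apply_of_ne_of_ne
  · intro h; exact h1 (congrArg Fin.val h)
  · intro h; exact h2 (congrArg Fin.val h)

theorem base_t (m : ℕ) (hm : Even m) (h4 : 4 ≤ m) :
    Cfg (swap (⟨4, by omega⟩ : Fin (m+3)) ⟨2, by omega⟩ * xf m * (swap (⟨4, by omega⟩ : Fin (m+3)) ⟨2, by omega⟩)⁻¹)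
      (rot m) ⟨m+1, by omega⟩ ⟨m+2, by omega⟩ := by
  set t := swap (⟨4, by omega⟩ : Fin (m+3)) ⟨2, by omega⟩ with ht
  have ht4 : t ⟨4, by omega⟩ = ⟨2, by omega⟩ := swap_apply_left _ _
  have ht2 : t ⟨2, by omega⟩ = ⟨4, by omega⟩ := swap_apply_right _ _
  have htk : ∀ (k : ℕ) (hk : k < m + 3), k ≠ 4 → k ≠ 2 → t ⟨k, hk⟩ = ⟨k, hk⟩ :=
    fun k hk h1 h2 => rangeSwap_apply m h4 k hk h1 h2
  have htinv : t⁻¹ = t := swap_inv _ _
  rw [htinv]
  have happ : ∀ a, (t * xf m * t * rot m) a = t (xf m (t (rot m a))) := fun a => rfl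
  have e1 : (t * xf m * t * rot m) ⟨1, by omega⟩ = ⟨4, by omega⟩ := by
    rw [happ, rot_lt m 1 (by omega)]
    change t (xf m (t ⟨2, by omega⟩)) = _
    rw [ht2, xf_mid m 4 (by omega) (by omega)]
    exact ht2
  have e3 : (t * xf m * t * rot m) ⟨3, by omega⟩ = ⟨0, by omega⟩ := by
    rw [happ, rot_lt m 3 (by omega)]
    change t (xf m (t ⟨4, by omega⟩)) = _
    rw [ht4, xf_mid m 2 (by omega) (by omega)]
    exact htk 0 (by omega) (by omega) (by omega)
  have e2 : (t * xf m * t * rot m) ⟨2, by omega⟩ = ⟨1, by omega⟩ := by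
    rw [happ, rot_lt m 2 (by omega), htk (2+1) (by omega) (by omega) (by omega),
      xf_mid m (2+1) (by omega) (by omega)]
    exact htk 1 (by omega) (by omega) (by omega)
  have e4 : (t * xf m * t * rot m) ⟨4, by omega⟩ = ⟨3, by omega⟩ := by
    rw [happ, rot_lt m 4 (by omega), htk (4+1) (by omega) (by omega) (by omega),
      xf_mid m (4+1) (by omega) (by omega)]
    exact htk 3 (by omega) (by omega) (by omega)
  have e5 : ∀ (h : 5 ≤ m), (t * xf m * t * rot m) ⟨5, by omega⟩ = ⟨2, by omega⟩ := by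
    intro h
    rw [happ, rot_lt m 5 (by omega), htk (5+1) (by omega) (by omega) (by omega),
      xf_mid m (5+1) (by omega) (by omega)]
    exact ht4
  have e6 : ∀ (k : ℕ) (hk : k ≤ m) (h6 : 6 ≤ k), (t * xf m * t * rot m) ⟨k, by omega⟩ = ⟨k-1, by omega⟩ := by
    intro k hk h6
    rw [happ, rot_lt m k (by omega), htk (k+1) (by omega) (by omega) (by omega),
      xf_mid m (k+1) (by omega) (by omega)]
    exact htk (k-1) (by omega) (by omega) (by omega)
  refine ⟨?_, ?_, ?_, ?_, ?_⟩
  · intro a b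
    have h := (Perm.sameCycle_conj (f := xf m) (g := t) (x := a) (y := b)).mpr (xf_trans m hm _ _)
    rwa [htinv] at h
  · intro h
    have := congrArg Fin.val h
    simp at this
  · rw [happ, rot_lt m (m+1) (by omega), htk (m+1+1) (by omega) (by omega) (by omega), xf_last]
    exact htk (m+1) (by omega) (by omega) (by omega)
  · rw [happ, rot_last, htk 0 (by omega) (by omega) (by omega), xf_zero]
    exact htk (m+2) (by omega) (by omega) (by omega)
  · have s0 : (t * xf m * t * rot m).SameCycle ⟨0, by omega⟩ ⟨0, by omega⟩ := Perm.SameCycle.refl _ _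
    have s3 := sc_step e3 s0
    have s4 := sc_step e4 s3
    have s1 := sc_step e1 s4
    have s2 := sc_step e2 s1
    have h : ∀ (k : ℕ) (hk : k ≤ m), (t * xf m * t * rot m).SameCycle ⟨k, by omega⟩ ⟨0, by omega⟩ := by
      intro k
      induction k with
      | zero => intro _; exact s0
      | succ k ih =>
        intro hk
        by_cases h0 : k = 0
        · subst h0; exact s1
        by_cases h1 : k = 1
        · subst h1; exact s2
        by_cases h2 : k = 2
        · subst h2; exact s3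
        by_cases h3 : k = 3
        · subst h3; exact s4
        by_cases h5 : k = 4
        · subst h5; exact sc_step (e5 hk) s2
        · exact sc_step (e6 (k+1) hk (by omega)) (ih (by omega))
    have h2 : ∀ a : Fin (m+3), a ≠ ⟨m+1, by omega⟩ → a ≠ ⟨m+2, by omega⟩ → a.1 ≤ m := by
      intro a h3 h4
      by_contra hc
      have : a.1 = m + 1 ∨ a.1 = m + 2 := by omega
      rcases this with h | h
      · exact h3 (Fin.ext h)
      · exact h4 (Fin.ext h)
    intro a b ha1 ha2 hb1 hb2
    exact (h a.1 (h2 a ha1 ha2)).trans (h b.1 (h2 b hb1 hb2)).symm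

def r5 : Perm (Fin 5) := ⟨![1,2,3,4,0], ![4,0,1,2,3], by unfold Function.LeftInverse; decide, by unfold Function.RightInverse Function.LeftInverse; decide⟩
def x5 : Perm (Fin 5) := ⟨![2,0,4,1,3], ![1,3,0,4,2], by unfold Function.LeftInverse; decide, by unfold Function.RightInverse Function.LeftInverse; decide⟩

theorem sc_of_pow {n : ℕ} {α : Type*} (f : Perm α) (a b : α) (h : ∃ k : Fin n, (f ^ (k : ℕ)) a = b) :
    f.SameCycle a b := by
  obtain ⟨k, hk⟩ := h
  exact ⟨(k : ℕ), by rw [zpow_natCast]; exact hk⟩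

set_option maxRecDepth 100000 in
theorem base5 : Cfg x5 r5 0 3 := by
  refine ⟨?_, by decide, by decide, by decide, ?_⟩
  · intro a b
    apply sc_of_pow (n := 5)
    revert a b; decide
  · intro a b ha1 ha2 hb1 hb2
    apply sc_of_pow (n := 3)
    revert a b; decide

set_option maxRecDepth 100000 in
theorem base5' : Cfg (swap 2 3 * x5 * (swap 2 3)⁻¹) r5 0 1 := by
  have h : (swap 2 3 * x5 * (swap 2 3)⁻¹) = (⟨![3,0,1,4,2], ![1,2,4,0,3], by unfold Function.LeftInverse; decide, by unfold Function.RightInverse Function.LeftInverse; decide⟩ : Perm (Fin 5)) := by decide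
  rw [h]
  refine ⟨?_, by decide, by decide, by decide, ?_⟩
  · intro a b
    apply sc_of_pow (n := 5)
    revert a b; decide
  · intro a b ha1 ha2 hb1 hb2
    apply sc_of_pow (n := 3)
    revert a b; decide

set_option maxRecDepth 100000 in
theorem r5_trans : ∀ a b, r5.SameCycle a b := by
  intro a b
  apply sc_of_pow (n := 5)
  revert a b; decide

/-- both classes -/
theorem both (p : ℕ) (hp : p.Prime) (hp3 : 3 ≤ p) (i N : ℕ) (hN : N = p ^ i) (h5 : 5 ≤ N) :
    ∃ (x y t : Perm (Fin N)), x.cycleType = {N} ∧ y.cycleType = {N} ∧ sign t = -1 ∧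
      Good p x y ∧ Good p (t * x * t⁻¹) y := by
  have hodd : Odd N := by
    rw [hN]
    exact (hp.odd_of_ne_two (by omega)).pow
  by_cases h : N = 5
  · subst h
    refine ⟨x5, r5, swap 2 3, ?_, ?_, ?_, ?_, ?_⟩
    · have := cycleType_of_trans x5 base5.1 (by simp)
      simpa using this
    · have := cycleType_of_trans r5 r5_trans (by simp)
      simpa using this
    · exact sign_swap (by decide)
    · exact base5.good p hp hp3 i (by simpa using hN) (by simp)
    · exact base5'.good p hp hp3 i (by simpa using hN) (by simp)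
  · obtain ⟨m, rfl⟩ : ∃ m, N = m + 3 := ⟨N-3, by omega⟩
    have hm : Even m := by
      rw [Nat.odd_iff] at hodd
      rw [Nat.even_iff]
      omega
    have h4 : 4 ≤ m := by
      rw [Nat.even_iff] at hm
      omega
    refine ⟨xf m, rot m, swap ⟨4, by omega⟩ ⟨2, by omega⟩, ?_, ?_, ?_, ?_, ?_⟩
    · have := cycleType_of_trans _ (xf_trans m hm) (by simp)
      simpa using this
    · have := cycleType_of_trans _ (rot_trans m) (by simp)
      simpa using this
    · apply sign_swap
      intro h
      have := congrArg Fin.val h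
      simp at this
    · exact (base m hm).good p hp hp3 i (by simpa using hN) (by simp; omega)
    · exact (base_t m hm h4).good p hp hp3 i (by simpa using hN) (by simp; omega)

end Cfsg.Agent.H34.FP
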