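import Cfsg.Agent.H34.FP6

set_option autoImplicit false

namespace Cfsg.Agent.H34.FP

open Equiv Equiv.Perm

theorem exists_rot (b : ℕ) (hb : 1 ≤ b) : ∃ c : Perm (Fin b), (∀ s t, c.SameCycle s t) ∧ c ^ b = 1 ∧
    c.cycleType = Multiset.filter (fun z => 2 ≤ z) {b} := by
  by_cases h2 : 2 ≤ b
  · obtain ⟨n, rfl⟩ : ∃ n, b = n + 2 := ⟨b-2, by omega⟩
    refine ⟨finRotate (n+2), ?_, ?_, ?_⟩
    · intro s t
      have hc : (finRotate (n+2)).IsCycle := isCycle_finRotate
      apply hc.sameCycle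
      · rw [← Perm.mem_support, support_finRotate]; exact Finset.mem_univ _
      · rw [← Perm.mem_support, support_finRotate]; exact Finset.mem_univ _
    · have hc : (finRotate (n+2)).IsCycle := isCycle_finRotate
      have := hc.orderOf
      rw [support_finRotate, Finset.card_univ, Fintype.card_fin] at this
      have h := pow_orderOf_eq_one (finRotate (n+2))
      rw [this] at h
      exact h
    · rw [cycleType_finRotate]
      rw [Multiset.filter_singleton, if_pos h2]
  · have : b = 1 := by omega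
    subst this
    refine ⟨1, ?_, by simp, ?_⟩
    · intro s t
      rw [Subsingleton.elim s t]
    · rw [cycleType_one, Multiset.filter_singleton, if_neg (by omega)]
      rfl

section
variable {α β : Type*}

theorem sumCongr_zpow (f : Perm α) (g : Perm β) (i : ℤ) :
    (Perm.sumCongr f g) ^ i = Perm.sumCongr (f ^ i) (g ^ i) := by
  have h := map_zpow (Perm.sumCongrHom α β) (f, g) i
  exact h.symm

theorem sc_inl (f : Perm α) (g : Perm β) (a b : α) (h : f.SameCycle a b) :
    (Perm.sumCongr f g).SameCycle (Sum.inl a) (Sum.inl b) := by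
  obtain ⟨i, hi⟩ := h
  exact ⟨i, by rw [sumCongr_zpow]; simp [hi]⟩

theorem sc_inr (f : Perm α) (g : Perm β) (a b : β) (h : g.SameCycle a b) :
    (Perm.sumCongr f g).SameCycle (Sum.inr a) (Sum.inr b) := by
  obtain ⟨i, hi⟩ := h
  exact ⟨i, by rw [sumCongr_zpow]; simp [hi]⟩

theorem not_sc (f : Perm α) (g : Perm β) (a : α) (b : β) :
    ¬ (Perm.sumCongr f g).SameCycle (Sum.inl a) (Sum.inr b) := by
  rintro ⟨i, hi⟩
  rw [sumCongr_zpow] at hi
  simp at hi

theorem step [Finite α] [DecidableEq α] [Finite β] [DecidableEq β] (x w : Perm α) (p1 p2 a0 : α)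
    (h : Cfg x w p1 p2) (h1 : a0 ≠ p1) (h2 : a0 ≠ p2) (b : ℕ) (hb : Odd b) (c : Perm β) (z : β)
    (hc : ∀ s t, c.SameCycle s t) (hcb : c ^ b = 1) :
    Cfg (swap (Sum.inl a0) (Sum.inr z) * Perm.sumCongr x c) (Perm.sumCongr w c) (Sum.inl p1) (Sum.inl p2) := by
  have hprod : swap (Sum.inl a0) (Sum.inr z) * Perm.sumCongr x c * Perm.sumCongr w c =
      swap (Sum.inl a0) (Sum.inr z) * Perm.sumCongr (x * w) (c * c) := by
    rw [mul_assoc, Perm.sumCongr_mul]
  refine ⟨?_, ?_, ?_, ?_, ?_⟩
  · have hall : ∀ s, (swap (Sum.inl a0) (Sum.inr z) * Perm.sumCongr x c).SameCycle s (Sum.inl a0) := by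
      intro s
      apply merge _ _ _ (not_sc _ _ _ _)
      rcases s with s | s
      · left; exact sc_inl _ _ _ _ (h.1 _ _)
      · right; exact sc_inr _ _ _ _ (hc _ _)
    intro a b
    exact (hall a).trans (hall b).symm
  · intro h3
    exact h.2.1 (Sum.inl_injective h3)
  · rw [hprod, Perm.mul_apply]
    have : (Perm.sumCongr (x * w) (c * c)) (Sum.inl p1) = Sum.inl p1 := by
      show Sum.inl ((x * w) p1) = _
      rw [h.2.2.1]
    rw [this]
    exact swap_apply_of_ne_of_ne (fun h3 => h1 (Sum.inl_injective h3).symm) (by simp)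
  · rw [hprod, Perm.mul_apply]
    have : (Perm.sumCongr (x * w) (c * c)) (Sum.inl p2) = Sum.inl p2 := by
      show Sum.inl ((x * w) p2) = _
      rw [h.2.2.2.1]
    rw [this]
    exact swap_apply_of_ne_of_ne (fun h3 => h2 (Sum.inl_injective h3).symm) (by simp)
  · rw [hprod]
    have hall : ∀ s, s ≠ Sum.inl p1 → s ≠ Sum.inl p2 →
        (swap (Sum.inl a0) (Sum.inr z) * Perm.sumCongr (x * w) (c * c)).SameCycle s (Sum.inl a0) := by
      intro s h3 h4
      apply merge _ _ _ (not_sc _ _ _ _)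
      rcases s with s | s
      · left
        exact sc_inl _ _ _ _ (h.2.2.2.2 _ _ (fun h5 => h3 (by rw [h5])) (fun h5 => h4 (by rw [h5])) h1 h2)
      · right
        exact sc_inr _ _ _ _ (sameCycle_sq c b hb hcb _ _ (hc _ _))
    intro a b ha1 ha2 hb1 hb2
    exact (hall a ha1 ha2).trans (hall b hb1 hb2).symm

end

theorem exists_cfg (b : ℕ) (hb : Odd b) (hb3 : 3 ≤ b) (m : Multiset ℕ) (hm : ∀ c ∈ m, Odd c) :
    ∃ (β : Type) (_ : Fintype β) (_ : DecidableEq β) (x w : Perm β) (p1 p2 a0 : β),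
      Cfg x w p1 p2 ∧ a0 ≠ p1 ∧ a0 ≠ p2 ∧ Fintype.card β = b + m.sum ∧
      w.cycleType = {b} + m.filter (fun z => 2 ≤ z) := by
  induction m using Multiset.induction_on with
  | empty =>
    obtain ⟨k, rfl⟩ : ∃ k, b = k + 3 := ⟨b-3, by omega⟩
    have hk : Even k := by
      rw [Nat.odd_iff] at hb
      rw [Nat.even_iff]
      omega
    refine ⟨Fin (k+3), inferInstance, inferInstance, xf k, rot k, ⟨k+1, by omega⟩, ⟨k+2, by omega⟩,
      ⟨0, by omega⟩, base k hk, ?_, ?_, by simp, ?_⟩
    · intro h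
      have := congrArg Fin.val h
      simp at this
    · intro h
      have := congrArg Fin.val h
      simp at this
    · have := cycleType_of_trans _ (rot_trans k) (by simp)
      simpa using this
  | cons c m ih =>
    obtain ⟨β, i1, i2, x, w, p1, p2, a0, h1, h2, h3, h4, h5⟩ := ih (fun c hc => hm c (Multiset.mem_cons_of_mem hc))
    have hc : Odd c := hm c (Multiset.mem_cons_self _ _)
    have hc1 : 1 ≤ c := by
      rcases hc with ⟨d, hd⟩; omega
    obtain ⟨r, hr1, hr2, hr3⟩ := exists_rot c hc1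
    refine ⟨β ⊕ Fin c, inferInstance, inferInstance, _, _, _, _, Sum.inl a0,
      step x w p1 p2 a0 h1 h2 h3 c hc r ⟨0, by omega⟩ hr1 hr2, ?_, ?_, ?_, ?_⟩
    · exact fun h => h2 (Sum.inl_injective h)
    · exact fun h => h3 (Sum.inl_injective h)
    · rw [Fintype.card_sum, h4, Fintype.card_fin, Multiset.sum_cons]
      ring
    · rw [cycleType_sumCongr, h5, hr3, ← Multiset.singleton_add c m, Multiset.filter_add, add_assoc,
        add_comm (Multiset.filter _ m)]

theorem exists_sub (p : ℕ) (hp : 2 ≤ p) (i : ℕ) : ∀ (n : ℕ) (P : Multiset ℕ), P.card = n →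
    (∀ a ∈ P, ∃ j ≤ i, a = p ^ j) → p ^ i ≤ P.sum → (∃ b ∈ P, 1 < b) →
    ∃ m ≤ P, m.sum = p ^ i ∧ ∃ b ∈ m, 1 < b := by
  intro n
  induction n with
  | zero =>
    rintro P hP _ _ ⟨b, hb, _⟩
    rw [Multiset.card_eq_zero] at hP
    subst hP
    simp at hb
  | succ n ih =>
    intro P hP hj hs hb
    by_cases heq : P.sum = p ^ i
    · exact ⟨P, le_rfl, heq, hb⟩
    obtain ⟨b, hb, hb1⟩ := hb
    obtain ⟨q, hq, hmin⟩ := P.toFinset.exists_min_image id ⟨b, Multiset.mem_toFinset.mpr hb⟩
    rw [Multiset.mem_toFinset] at hq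
    obtain ⟨P', rfl⟩ := Multiset.exists_cons_of_mem hq
    obtain ⟨j, hji, hqj⟩ := hj q hq
    have hdvd : ∀ a ∈ q ::ₘ P', q ∣ a := by
      intro a ha
      obtain ⟨j', hj', haj⟩ := hj a ha
      have h1 : q ≤ a := hmin a (Multiset.mem_toFinset.mpr ha)
      rw [hqj, haj] at h1 ⊢
      exact pow_dvd_pow p ((Nat.pow_le_pow_iff_right (by omega)).mp h1)
    have h1 : q ∣ (q ::ₘ P').sum := Multiset.dvd_sum hdvd
    have h2 : q ∣ p ^ i := by rw [hqj]; exact pow_dvd_pow p hji
    have hq0 : 0 < q := by rw [hqj]; positivity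
    have h3 : p ^ i ≤ P'.sum := by
      obtain ⟨s, hs'⟩ := h1
      obtain ⟨r, hr⟩ := h2
      have h4 : r < s := by
        by_contra hc
        push Not at hc
        have : q * s ≤ q * r := Nat.mul_le_mul_left q hc
        rw [← hs', ← hr] at this
        exact heq (le_antisymm this hs)
      have h5 : q * (r + 1) ≤ q * s := Nat.mul_le_mul_left q h4
      rw [← hs', mul_add, ← hr, mul_one, Multiset.sum_cons] at h5
      omega
    have h4 : ∃ b ∈ P', 1 < b := by
      by_contra hc
      push Not at hc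
      rcases Multiset.mem_cons.mp hb with h5 | h5
      · have h6 : P' = 0 := by
          rw [Multiset.eq_zero_iff_forall_notMem]
          intro a ha
          have h7 := hc a ha
          have h8 : q ≤ a := hmin a (Multiset.mem_toFinset.mpr (Multiset.mem_cons_of_mem ha))
          omega
        rw [h6, Multiset.sum_zero] at h3
        have : 0 < p ^ i := by positivity
        omega
      · exact absurd hb1 (by have := hc b h5; omega)
    obtain ⟨m, hm, hms, hmb⟩ := ih P' (by simpa using hP) (fun a ha => hj a (Multiset.mem_cons_of_mem ha)) h3 h4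
    exact ⟨m, hm.trans (Multiset.le_cons_self _ _), hms, hmb⟩

end Cfsg.Agent.H34.FP
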