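import Cfsg.Agent.H34.FP7
import Cfsg.Agent.H34.FP3

set_option autoImplicit false

namespace Cfsg.Agent.H34.FP

open Equiv Equiv.Perm

theorem model (p : ℕ) {n : ℕ} (U W : Perm (Fin n)) {β : Type} [Fintype β] [DecidableEq β]
    (x y : Perm β) (a b : Multiset ℕ) (ha : U.cycleType = x.cycleType + a)
    (hb : W.cycleType = y.cycleType + b) (ha' : Fintype.card β + a.sum ≤ n)
    (hb' : Fintype.card β + b.sum ≤ n) :
    ∃ h0 : Perm (Fin n), ∀ (t : Perm β) (s : Perm (Fin (n - Fintype.card β))),
      Good p x (t * y * t⁻¹) →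
      ∃ g : Perm (Fin n), sign g = sign h0 * sign t * sign s ∧ Good p U (g * W * g⁻¹) := by
  obtain ⟨ux, hux⟩ := (exists_with_cycleType_iff (Fin (n - Fintype.card β)) (m := a)).mpr
    ⟨by rw [Fintype.card_fin]; omega, fun c hc => two_le_of_mem_cycleType (by
      rw [ha]; exact Multiset.mem_add.mpr (Or.inr hc))⟩
  obtain ⟨wx, hwx⟩ := (exists_with_cycleType_iff (Fin (n - Fintype.card β)) (m := b)).mpr
    ⟨by rw [Fintype.card_fin]; omega, fun c hc => two_le_of_mem_cycleType (by
      rw [hb]; exact Multiset.mem_add.mpr (Or.inr hc))⟩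
  let e : β ⊕ Fin (n - Fintype.card β) ≃ Fin n := Fintype.equivOfCardEq (by
    rw [Fintype.card_sum, Fintype.card_fin, Fintype.card_fin]; omega)
  have hX : (e.permCongr (Perm.sumCongr x ux)).cycleType = U.cycleType := by
    rw [cycleType_permCongr, cycleType_sumCongr, hux, ha]
  have hY : W.cycleType = (e.permCongr (Perm.sumCongr y wx)).cycleType := by
    rw [cycleType_permCongr, cycleType_sumCongr, hwx, hb]
  obtain ⟨g1, hg1⟩ := isConj_iff.mp (isConj_iff_cycleType_eq.mpr hX)
  obtain ⟨g2, hg2⟩ := isConj_iff.mp (isConj_iff_cycleType_eq.mpr hY)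
  refine ⟨g1 * g2, fun t s hG => ⟨g1 * e.permCongr (Perm.sumCongr t s) * g2, ?_, ?_⟩⟩
  · rw [Perm.sign_mul, Perm.sign_mul, Perm.sign_mul, sign_permCongr, sign_sumCongr]
    ac_rfl
  · have h1 : g1 * e.permCongr (Perm.sumCongr t s) * g2 * W * (g1 * e.permCongr (Perm.sumCongr t s) * g2)⁻¹
      = g1 * (e.permCongr (Perm.sumCongr t s) * e.permCongr (Perm.sumCongr y wx) *
        (e.permCongr (Perm.sumCongr t s))⁻¹) * g1⁻¹ := by
      rw [← hg2]; group
    rw [h1, ← hg1]
    apply Good.conj
    refine hG.transfer (fun z => e (Sum.inl z)) (e.injective.comp Sum.inl_injective) _ _ ?_ ?_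
    · intro z
      simp [Equiv.permCongr_apply]
    · intro z
      have hinv : (e.permCongr (Perm.sumCongr t s))⁻¹ = e.permCongr (Perm.sumCongr t⁻¹ s⁻¹) := by
        rw [inv_eq_iff_mul_eq_one]
        ext q
        simp only [Perm.mul_apply, Equiv.permCongr_apply, Equiv.symm_apply_apply]
        rcases hq : e.symm q with z | z
        · simp [← hq]
        · simp [← hq]
      rw [hinv]
      simp [Perm.mul_apply, Equiv.permCongr_apply]

theorem exists_odd_central {n : ℕ} (W : Perm (Fin n)) (h : ¬ Subgroup.centralizer {W} ≤ alternatingGroup (Fin n)) :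
    ∃ z : Perm (Fin n), sign z = -1 ∧ z * W * z⁻¹ = W := by
  rw [SetLike.not_le_iff_exists] at h
  obtain ⟨z, hz, hz2⟩ := h
  refine ⟨z, ?_, ?_⟩
  · rcases Int.units_eq_one_or (sign z) with h | h
    · exact absurd (mem_alternatingGroup.mpr h) hz2
    · exact h
  · rw [Subgroup.mem_centralizer_singleton_iff] at hz
    rw [mul_inv_eq_iff_eq_mul, hz]

theorem main_ge5 (p : ℕ) (hp : p.Prime) (hp3 : 3 ≤ p) {n : ℕ} (U W : Perm (Fin n)) (i : ℕ)
    (hN5 : 5 ≤ p ^ i) (hW : ∀ c ∈ W.cycleType, ∃ j ≤ i, c = p ^ j) (hUN : p ^ i ∈ U.cycleType)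
    (hW1 : W ≠ 1) : ∃ g : Perm (Fin n), sign g = 1 ∧ Good p U (g * W * g⁻¹) := by
  obtain ⟨N, hN⟩ : ∃ N, N = p ^ i := ⟨_, rfl⟩
  have hUn : U.cycleType.sum ≤ n := by
    rw [sum_cycleType]
    exact (Finset.card_le_univ _).trans (by simp)
  have hWn : W.cycleType.sum ≤ n := by
    rw [sum_cycleType]
    exact (Finset.card_le_univ _).trans (by simp)
  obtain ⟨a, ha⟩ := Multiset.exists_cons_of_mem hUN
  have ha1 : U.cycleType = {p ^ i} + a := by rw [ha, Multiset.singleton_add]
  have ha2 : p ^ i + a.sum ≤ n := by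
    rw [ha, Multiset.sum_cons] at hUn; exact hUn
  -- the sub-multiset
  set S := W.cycleType with hS
  have hS2 : ∀ c ∈ S, 2 ≤ c := fun c hc => two_le_of_mem_cycleType hc
  have hSne : S ≠ 0 := by
    rw [hS]; exact fun h => hW1 (cycleType_eq_zero.mp h)
  obtain ⟨c0, hc0⟩ := Multiset.exists_mem_of_ne_zero hSne
  obtain ⟨m, hmP, hms, b, hbm, hb1⟩ := exists_sub p (by omega) i _ (S + Multiset.replicate (n - S.sum) 1) rfl
    (by
      intro c hc
      rcases Multiset.mem_add.mp hc with hc | hc
      · exact hW c hc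
      · exact ⟨0, by omega, by rw [pow_zero]; exact Multiset.eq_of_mem_replicate hc⟩)
    (by
      rw [Multiset.sum_add, Multiset.sum_replicate, smul_eq_mul, mul_one]
      have : p ^ i ≤ n := by omega
      omega)
    ⟨c0, Multiset.mem_add.mpr (Or.inl hc0), by have := hS2 c0 hc0; omega⟩
  have hPj : ∀ c ∈ m, ∃ j ≤ i, c = p ^ j := by
    intro c hc
    rcases Multiset.mem_add.mp (Multiset.mem_of_le hmP hc) with hc | hc
    · exact hW c hc
    · exact ⟨0, by omega, by rw [pow_zero]; exact Multiset.eq_of_mem_replicate hc⟩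
  have hmodd : ∀ c ∈ m, Odd c := by
    intro c hc
    obtain ⟨j, _, rfl⟩ := hPj c hc
    exact (hp.odd_of_ne_two (by omega)).pow
  have hb3 : 3 ≤ b := by
    have := hmodd b hbm
    rcases this with ⟨d, hd⟩
    omega
  obtain ⟨β, iβ1, iβ2, x, y, p1, p2, a0, hcfg, -, -, hcard, hct⟩ := exists_cfg b (hmodd b hbm) hb3 (m.erase b)
    (fun c hc => hmodd c (Multiset.mem_of_mem_erase hc))
  have hcard2 : Fintype.card β = p ^ i := by
    rw [hcard, ← Multiset.sum_cons, Multiset.cons_erase hbm, hms]
  have hct2 : y.cycleType = m.filter (fun z => 2 ≤ z) := by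
    rw [hct]
    conv_rhs => rw [← Multiset.cons_erase hbm]
    rw [Multiset.filter_cons_of_pos _ (by omega : 2 ≤ b), Multiset.singleton_add]
  have hxct : x.cycleType = {p ^ i} := by
    rw [cycleType_of_trans x hcfg.1 (by omega), hcard2]
  have hSf : (S + Multiset.replicate (n - S.sum) 1).filter (fun z => 2 ≤ z) = S := by
    rw [Multiset.filter_add, Multiset.filter_eq_self.mpr hS2, Multiset.filter_eq_nil.mpr, add_zero]
    intro c hc
    rw [Multiset.eq_of_mem_replicate hc]
    omega
  have hle : m.filter (fun z => 2 ≤ z) ≤ S := by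
    conv_rhs => rw [← hSf]
    exact Multiset.filter_le_filter _ hmP
  obtain ⟨b', hb'⟩ := Multiset.le_iff_exists_add.mp hle
  obtain ⟨d, hd⟩ := Multiset.le_iff_exists_add.mp hmP
  have hb'd : b' = d.filter (fun z => 2 ≤ z) := by
    have h1 : S = m.filter (fun z => 2 ≤ z) + d.filter (fun z => 2 ≤ z) := by
      rw [← Multiset.filter_add, ← hd, hSf]
    rw [h1] at hb'
    exact (add_left_cancel hb').symm
  have hdsum : d.sum + p ^ i = n := by
    have := congrArg Multiset.sum hd
    rw [Multiset.sum_add, Multiset.sum_add, Multiset.sum_replicate, smul_eq_mul, mul_one, hms] at this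
    omega
  have hb's : b'.sum ≤ d.sum := by
    rw [hb'd]
    obtain ⟨d', hd'⟩ := Multiset.le_iff_exists_add.mp (Multiset.filter_le (fun z => 2 ≤ z) d)
    conv_rhs => rw [hd']
    rw [Multiset.sum_add]
    omega
  obtain ⟨h0, hmodel⟩ := model p U W x y a b' (by rw [hxct]; exact ha1) (by rw [hct2]; exact hb')
    (by rw [hcard2]; exact ha2) (by rw [hcard2]; omega)
  have hgood : Good p x y := hcfg.good p hp hp3 i hcard2 (by omega)
  have hgood' : Good p x (1 * y * 1⁻¹) := by simpa using hgood
  rcases Int.units_eq_one_or (sign h0) with hs | hs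
  · obtain ⟨g, hg, hg2⟩ := hmodel 1 1 hgood'
    exact ⟨g, by rw [hg, hs]; simp, hg2⟩
  by_cases hn : p ^ i + 2 ≤ n
  · have h1 : 1 < n - Fintype.card β := by omega
    obtain ⟨g, hg, hg2⟩ := hmodel 1 (swap ⟨0, by omega⟩ ⟨1, h1⟩) hgood'
    refine ⟨g, ?_, hg2⟩
    rw [hg, hs, sign_swap]
    · simp
    · intro h
      have := congrArg Fin.val h
      simp at this
  by_cases hcent : Subgroup.centralizer {W} ≤ alternatingGroup (Fin n)
  · rw [centralizer_le_alternating_iff] at hcent
    obtain ⟨-, hc1, hc2⟩ := hcent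
    rw [Fintype.card_fin, ← hS] at hc1
    rw [← hS] at hc2
    have hnd : S.Nodup := Multiset.nodup_iff_count_le_one.mpr hc2
    have hSN : S = {p ^ i} := by
      by_cases hNS : p ^ i ∈ S
      · obtain ⟨S', hS'⟩ := Multiset.exists_cons_of_mem hNS
        have : S' = 0 := by
          rw [Multiset.eq_zero_iff_forall_notMem]
          intro c hc
          have h1 := hS2 c (by rw [hS']; exact Multiset.mem_cons_of_mem hc)
          have h2 := Multiset.single_le_sum (s := S') (fun x _ => Nat.zero_le x) c hc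
          rw [hS', Multiset.sum_cons] at hWn
          omega
        rw [hS', this]
        rfl
      · exfalso
        have hlog : ∀ c ∈ S, ∃ j, j < i ∧ 1 ≤ j ∧ c = p ^ j := by
          intro c hc
          obtain ⟨j, hj, hcj⟩ := hW c hc
          refine ⟨j, ?_, ?_, hcj⟩
          · rcases Nat.lt_or_ge j i with h | h
            · exact h
            · exfalso
              have : j = i := by omega
              subst this
              rw [← hcj] at hNS
              exact hNS hc
          · by_contra h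
            have : j = 0 := by omega
            subst this
            have := hS2 c hc
            rw [hcj, pow_zero] at this
            omega
        have hsum : S.sum < p ^ i := by
          have h1 : S.sum = ∑ k ∈ S.toFinset.image (Nat.log p), p ^ k := by
            rw [Finset.sum_image]
            · have h2 : S.sum = ∑ c ∈ S.toFinset, c := by
                rw [Finset.sum_eq_multiset_sum]
                rw [Multiset.toFinset_val, Multiset.dedup_eq_self.mpr hnd]
                simp
              rw [h2]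
              apply Finset.sum_congr rfl
              intro c hc
              obtain ⟨j, _, _, rfl⟩ := hlog c (Multiset.mem_toFinset.mp hc)
              rw [Nat.log_pow (by omega)]
            · intro c hc c' hc' h
              obtain ⟨j, _, _, rfl⟩ := hlog c (Multiset.mem_toFinset.mp hc)
              obtain ⟨j', _, _, rfl⟩ := hlog c' (Multiset.mem_toFinset.mp hc')
              simp only [Nat.log_pow (show 1 < p by omega)] at h
              rw [h]
          rw [h1]
          apply Nat.geomSum_lt (by omega)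
          intro k hk
          obtain ⟨c, hc, rfl⟩ := Finset.mem_image.mp hk
          obtain ⟨j, hj, _, rfl⟩ := hlog c (Multiset.mem_toFinset.mp hc)
          rw [Nat.log_pow (by omega)]
          exact hj
        have hd1 : p ∣ S.sum := by
          apply Multiset.dvd_sum
          intro c hc
          obtain ⟨j, _, hj, rfl⟩ := hlog c hc
          exact dvd_pow_self p (by omega)
        have hi : i ≠ 0 := by
          rintro rfl
          rw [pow_zero] at hN5
          omega
        have hd2 : p ∣ p ^ i := dvd_pow_self p hi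
        have hd3 := Nat.le_of_dvd (by omega) (Nat.dvd_sub hd2 hd1)
        have : p ^ i ≤ n := by omega
        omega
    obtain ⟨x', y', t, hx', hy', ht, hG1, hG2⟩ := both p hp hp3 i (p ^ i) rfl hN5
    obtain ⟨h0', hmodel'⟩ := model p U W x' y' a 0 (by rw [hx']; exact ha1)
      (by rw [hy', add_zero, ← hSN]) (by rw [Fintype.card_fin]; exact ha2)
      (by rw [Fintype.card_fin]; simp; omega)
    rcases Int.units_eq_one_or (sign h0') with hs' | hs'
    · obtain ⟨g, hg, hg2⟩ := hmodel' 1 1 (by simpa using hG1)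
      exact ⟨g, by rw [hg, hs']; simp, hg2⟩
    · have hG3 := hG2.conj t⁻¹
      have h1 : t⁻¹ * (t * x' * t⁻¹) * (t⁻¹)⁻¹ = x' := by group
      rw [h1] at hG3
      obtain ⟨g, hg, hg2⟩ := hmodel' t⁻¹ 1 hG3
      refine ⟨g, ?_, hg2⟩
      rw [hg, hs', sign_inv, ht]
      simp
  · obtain ⟨z, hz1, hz2⟩ := exists_odd_central W hcent
    obtain ⟨g, hg, hg2⟩ := hmodel 1 1 hgood'
    refine ⟨g * z, ?_, ?_⟩
    · rw [Perm.sign_mul, hg, hs, hz1]; simp
    · have : g * z * W * (g * z)⁻¹ = g * (z * W * z⁻¹) * g⁻¹ := by group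
      rw [this, hz2]
      exact hg2

theorem main_3 {n : ℕ} (hn : 5 ≤ n) (U W : Perm (Fin n)) (hU : ∀ c ∈ U.cycleType, c = 3)
    (hW : ∀ c ∈ W.cycleType, c = 3) (hU1 : U ≠ 1) (hW1 : W ≠ 1) :
    ∃ g : Perm (Fin n), sign g = 1 ∧ Good 3 U (g * W * g⁻¹) := by
  obtain ⟨k, hk⟩ : ∃ k, k = U.cycleType.card := ⟨_, rfl⟩
  obtain ⟨l, hl⟩ : ∃ l, l = W.cycleType.card := ⟨_, rfl⟩
  have hUc : U.cycleType = Multiset.replicate k 3 := Multiset.eq_replicate.mpr ⟨hk.symm, hU⟩
  have hWc : W.cycleType = Multiset.replicate l 3 := Multiset.eq_replicate.mpr ⟨hl.symm, hW⟩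
  have hUn : U.cycleType.sum ≤ n := by
    rw [sum_cycleType]
    exact (Finset.card_le_univ _).trans (by simp)
  have hWn : W.cycleType.sum ≤ n := by
    rw [sum_cycleType]
    exact (Finset.card_le_univ _).trans (by simp)
  rw [hUc, Multiset.sum_replicate, smul_eq_mul] at hUn
  rw [hWc, Multiset.sum_replicate, smul_eq_mul] at hWn
  have hk1 : 1 ≤ k := by
    by_contra h
    apply hU1
    rw [← cycleType_eq_zero, hUc, show k = 0 by omega]
    rfl
  have hl1 : 1 ≤ l := by
    by_contra h
    apply hW1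
    rw [← cycleType_eq_zero, hWc, show l = 0 by omega]
    rfl
  suffices h : ∃ g : Perm (Fin n), Good 3 U (g * W * g⁻¹) by
    obtain ⟨g, hg⟩ := h
    rcases Int.units_eq_one_or (sign g) with hs | hs
    · exact ⟨g, hs, hg⟩
    · have hcent : ¬ Subgroup.centralizer {W} ≤ alternatingGroup (Fin n) := by
        rw [centralizer_le_alternating_iff]
        rintro ⟨-, h1, h2⟩
        have h3 := h2 3
        rw [hWc, Multiset.count_replicate_self] at h3
        rw [hWc, Multiset.sum_replicate, smul_eq_mul, Fintype.card_fin] at h1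
        omega
      obtain ⟨z, hz1, hz2⟩ := exists_odd_central W hcent
      refine ⟨g * z, ?_, ?_⟩
      · rw [Perm.sign_mul, hs, hz1]; simp
      · have : g * z * W * (g * z)⁻¹ = g * (z * W * z⁻¹) * g⁻¹ := by group
        rw [this, hz2]
        exact hg
  have fin : ∀ {β : Type} [Fintype β] [DecidableEq β] (x y : Perm β) (k' l' : ℕ),
      U.cycleType = x.cycleType + Multiset.replicate k' 3 → W.cycleType = y.cycleType + Multiset.replicate l' 3 →
      Fintype.card β + k' * 3 ≤ n → Fintype.card β + l' * 3 ≤ n → Good 3 x y →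
      ∃ g : Perm (Fin n), Good 3 U (g * W * g⁻¹) := by
    intro β _ _ x y k' l' h1 h2 h3 h4 h5
    obtain ⟨h0, hm⟩ := model 3 U W x y _ _ h1 h2 (by rw [Multiset.sum_replicate, smul_eq_mul]; exact h3)
      (by rw [Multiset.sum_replicate, smul_eq_mul]; exact h4)
    obtain ⟨g, _, hg⟩ := hm 1 1 (by simpa using h5)
    exact ⟨g, hg⟩
  have r1 : ∀ k, 1 ≤ k → Multiset.replicate k 3 = {3} + Multiset.replicate (k-1) 3 := by
    intro k hk
    obtain ⟨j, rfl⟩ : ∃ j, k = j + 1 := ⟨k-1, by omega⟩
    rw [Multiset.replicate_succ, Multiset.singleton_add]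
    rfl
  have r2 : ∀ k, 2 ≤ k → Multiset.replicate k 3 = {3, 3} + Multiset.replicate (k-2) 3 := by
    intro k hk
    obtain ⟨j, rfl⟩ : ∃ j, k = j + 2 := ⟨k-2, by omega⟩
    rw [Multiset.replicate_succ, Multiset.replicate_succ]
    rfl
  by_cases hk2 : 2 ≤ k
  · by_cases hl2 : 2 ≤ l
    · refine fin u6 w6 (k-2) (l-2) ?_ ?_ ?_ ?_ good6
      · rw [hUc, ct_u6, r2 k hk2]
      · rw [hWc, ct_w6, r2 l hl2]
      · rw [Fintype.card_fin]; omega
      · rw [Fintype.card_fin]; omega
    · refine fin u6 v6 (k-2) (l-1) ?_ ?_ ?_ ?_ good6'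
      · rw [hUc, ct_u6, r2 k hk2]
      · rw [hWc, ct_v6, r1 l hl1]
      · rw [Fintype.card_fin]; omega
      · rw [Fintype.card_fin]; omega
  · by_cases hl2 : 2 ≤ l
    · refine fin v6 u6 (k-1) (l-2) ?_ ?_ ?_ ?_ good6'.symm
      · rw [hUc, ct_v6, r1 k hk1]
      · rw [hWc, ct_u6, r2 l hl2]
      · rw [Fintype.card_fin]; omega
      · rw [Fintype.card_fin]; omega
    · refine fin u5 w5 (k-1) (l-1) ?_ ?_ ?_ ?_ good5
      · rw [hUc, ct_u5, r1 k hk1]
      · rw [hWc, ct_w5, r1 l hl1]
      · rw [Fintype.card_fin]; omega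
      · rw [Fintype.card_fin]; omega

end Cfsg.Agent.H34.FP
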