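import Cfsg.Prelude.Def_LocalEven
import Mathlib.GroupTheory.Sylow

set_option autoImplicit false

namespace Cfsg.Agent.H34

universe u v w

theorem involves_iff {H : Type u} [Group H] {G : Type v} [Group G] :
    Cfsg.Involves H G ↔ ∃ (K : Subgroup G) (θ : K →* H), Function.Surjective θ := by
  constructor
  · rintro ⟨K, R, hR, ⟨e⟩⟩
    exact ⟨K, e.toMonoidHom.comp (QuotientGroup.mk' _), e.surjective.comp (QuotientGroup.mk'_surjective _)⟩
  · rintro ⟨K, θ, hθ⟩
    have h1 : (θ.ker.map K.subtype).subgroupOf K = θ.ker :=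
      Subgroup.comap_map_eq_self_of_injective K.subtype_injective _
    have h2 : ((θ.ker.map K.subtype).subgroupOf K).Normal := by rw [h1]; infer_instance
    refine ⟨K, θ.ker.map K.subtype, h2, ⟨?_⟩⟩
    exact (QuotientGroup.quotientMulEquivOfEq h1).trans (QuotientGroup.quotientKerEquivOfSurjective θ hθ)

theorem involves_of_injective {H : Type u} [Group H] {G : Type v} [Group G] {G' : Type w} [Group G']
    (f : G →* G') (hf : Function.Injective f) (h : Cfsg.Involves H G) : Cfsg.Involves H G' := by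
  rw [involves_iff] at h ⊢
  obtain ⟨K, θ, hθ⟩ := h
  let e := K.equivMapOfInjective f hf
  exact ⟨K.map f, θ.comp e.symm.toMonoidHom, hθ.comp e.symm.surjective⟩

theorem involves_of_subgroup {H : Type u} [Group H] {G : Type v} [Group G] (N : Subgroup G)
    (h : Cfsg.Involves H N) : Cfsg.Involves H G :=
  involves_of_injective N.subtype N.subtype_injective h

theorem involves_of_surjective {H : Type u} [Group H] {G : Type v} [Group G] {G' : Type w} [Group G']
    (f : G →* G') (hf : Function.Surjective f) (h : Cfsg.Involves H G') : Cfsg.Involves H G := by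
  rw [involves_iff] at h ⊢
  obtain ⟨K, θ, hθ⟩ := h
  refine ⟨K.comap f, θ.comp (f.subgroupComap K), hθ.comp ?_⟩
  rintro ⟨y, hy⟩
  obtain ⟨x, rfl⟩ := hf y
  exact ⟨⟨x, hy⟩, rfl⟩

theorem involves_of_quotient {H : Type u} [Group H] {G : Type v} [Group G] (N : Subgroup G) [N.Normal]
    (h : Cfsg.Involves H (G ⧸ N)) : Cfsg.Involves H G :=
  involves_of_surjective (QuotientGroup.mk' N) (QuotientGroup.mk'_surjective N) h

theorem involves_congr {H : Type u} [Group H] {H' : Type w} [Group H'] {G : Type v} [Group G]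
    (e : H ≃* H') (h : Cfsg.Involves H G) : Cfsg.Involves H' G := by
  rw [involves_iff] at h ⊢
  obtain ⟨K, θ, hθ⟩ := h
  exact ⟨K, e.toMonoidHom.comp θ, e.surjective.comp hθ⟩

theorem card_ne_one_add_one (W : Type u) [Group W] [Finite W] :
    Nat.card {w : W // w ≠ 1} + 1 = Nat.card W := by
  have h := Set.ncard_add_ncard_compl ({1} : Set W)
  rw [Set.ncard_singleton] at h
  have h2 : Nat.card {w : W // w ≠ 1} = ({1}ᶜ : Set W).ncard := rfl
  omega

/-- The group of automorphisms of a group of order 4 has at most 6 elements. -/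
theorem card_mulAut_le_six {W : Type u} [Group W] [Finite W] (hW : Nat.card W = 4) :
    Nat.card (MulAut W) ≤ 6 := by
  let f : MulAut W → Equiv.Perm {w : W // w ≠ 1} := fun φ =>
    φ.toEquiv.subtypeEquiv (fun w => by
      show w ≠ 1 ↔ φ w ≠ 1
      rw [ne_eq, ne_eq, EmbeddingLike.map_eq_one_iff])
  have hf : Function.Injective f := by
    intro φ ψ h
    ext w
    by_cases hw : w = 1
    · rw [hw, map_one, map_one]
    · have := congrArg (fun g : Equiv.Perm {w : W // w ≠ 1} => ((g ⟨w, hw⟩ : {w : W // w ≠ 1}) : W)) h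
      exact this
  have h3 : Nat.card {w : W // w ≠ 1} = 3 := by
    have := card_ne_one_add_one W
    omega
  have := Nat.card_le_card_of_injective f hf
  rw [Nat.card_perm, h3] at this
  exact this

/-- An automorphism of order 3 of a group of order 4 fixes only the identity. -/
theorem eq_one_of_fixed_of_order_three {W : Type u} [Group W] [Finite W] (hW : Nat.card W = 4)
    (φ : MulAut W) (hφ : orderOf φ = 3) (w : W) (hw : φ w = w) : w = 1 := by
  by_contra hne
  have hp : IsPGroup 3 (Subgroup.zpowers φ) := by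
    have : Fact (Nat.Prime 3) := ⟨Nat.prime_three⟩
    apply IsPGroup.of_card (n := 1)
    rw [Nat.card_zpowers, hφ, pow_one]
  have : Fact (Nat.Prime 3) := ⟨Nat.prime_three⟩
  have hmod := hp.card_modEq_card_fixedPoints W
  rw [hW] at hmod
  have hfixmem : ∀ v : W, φ v = v → v ∈ MulAction.fixedPoints (Subgroup.zpowers φ) W := by
    intro v hv
    rintro ⟨ψ, hψ⟩
    obtain ⟨n, rfl⟩ := Subgroup.mem_zpowers_iff.mp hψ
    show (φ ^ n) v = v
    have hn : ∀ n : ℕ, (φ ^ n) v = v := by
      intro n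
      induction n with
      | zero => rfl
      | succ n ih => rw [pow_succ, MulAut.mul_apply, hv, ih]
    cases n with
    | ofNat n => simpa using hn n
    | negSucc n =>
      rw [zpow_negSucc]
      have := hn (n + 1)
      calc (φ ^ (n + 1))⁻¹ v = (φ ^ (n + 1))⁻¹ ((φ ^ (n + 1)) v) := by rw [this]
        _ = v := by rw [← MulAut.mul_apply, inv_mul_cancel]; rfl
  have hsub : ({1, w} : Set W) ⊆ MulAction.fixedPoints (Subgroup.zpowers φ) W := by
    intro v hv
    rcases hv with rfl | hv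
    · exact hfixmem _ (map_one φ)
    · rw [Set.mem_singleton_iff] at hv
      rw [hv]; exact hfixmem _ hw
  have h2 : 2 ≤ Nat.card (MulAction.fixedPoints (Subgroup.zpowers φ) W) := by
    have h3 := Set.ncard_le_ncard hsub (Set.toFinite _)
    rw [Set.ncard_pair (Ne.symm hne)] at h3
    exact h3
  have h4 : Nat.card (MulAction.fixedPoints (Subgroup.zpowers φ) W) ≤ 4 := by
    rw [← hW]; exact Nat.card_le_card_of_injective _ Subtype.val_injective
  have h5 : Nat.card (MulAction.fixedPoints (Subgroup.zpowers φ) W) = 4 := by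
    unfold Nat.ModEq at hmod
    omega
  have hall : MulAction.fixedPoints (Subgroup.zpowers φ) W = Set.univ := by
    apply Set.eq_of_subset_of_ncard_le (Set.subset_univ _) _ (Set.toFinite _)
    rw [Set.ncard_univ, hW]
    exact h5.ge
  have h1 : φ = 1 := by
    ext v
    have hv : v ∈ MulAction.fixedPoints (Subgroup.zpowers φ) W := by rw [hall]; trivial
    exact hv ⟨φ, Subgroup.mem_zpowers φ⟩
  rw [h1, orderOf_one] at hφ
  omega

/-- Main construction: if a normal four-subgroup `W` of the finite group `G` is acted on by `G` as `S₃`,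
then `S₄` is involved in `G`. -/
theorem involves_S4_of_normal {G : Type u} [Group G] [Finite G] (W : Subgroup G) [W.Normal]
    (hcard : Nat.card W = 4) (g h : G) (k : ℕ) (hk : Odd k)
    (hgk : ∀ w ∈ W, g ^ k * w * (g ^ k)⁻¹ = w) (hg1 : ∃ w ∈ W, g * w * g⁻¹ ≠ w)
    (hh2 : ∀ w ∈ W, (h * h) * w * (h * h)⁻¹ = w)
    (hh1 : ∃ w ∈ W, h * w * h⁻¹ ≠ w) : Cfsg.Involves (Equiv.Perm (Fin 4)) G := by
  classical
  have : Fact (Nat.Prime 3) := ⟨Nat.prime_three⟩
  have : Fact (Nat.Prime 2) := ⟨Nat.prime_two⟩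
  let ρ : G →* MulAut W := MulAut.conjNormal
  have hρ : ∀ (x : G) (w : W), ((ρ x w : W) : G) = x * w * x⁻¹ := fun x w => MulAut.conjNormal_apply x w
  have hcardA := card_mulAut_le_six hcard
  have hρne : ∀ x : G, (∃ w ∈ W, x * w * x⁻¹ ≠ w) → ρ x ≠ 1 := by
    rintro x ⟨w, hw, hne⟩ hcon
    apply hne
    have := congrArg (fun φ : MulAut W => ((φ ⟨w, hw⟩ : W) : G)) hcon
    simp only [hρ] at this
    exact this
  -- orders of ρ g and ρ h
  have hρh : orderOf (ρ h) = 2 := by
    rw [orderOf_eq_prime_iff]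
    refine ⟨?_, hρne h hh1⟩
    ext w
    rw [sq, ← map_mul, hρ]
    simpa using hh2 w w.2
  have hρgodd : Odd (orderOf (ρ g)) := by
    apply hk.of_dvd_nat
    apply orderOf_dvd_of_pow_eq_one
    ext w
    rw [← map_pow, hρ]
    simpa using hgk w w.2
  have hρg : orderOf (ρ g) = 3 ∧ Nat.card ρ.range = 6 := by
    have h1 : 2 ∣ Nat.card ρ.range := by
      rw [← hρh]; exact Subgroup.orderOf_dvd_natCard _ (MonoidHom.mem_range.mpr ⟨h, rfl⟩)
    have h2 : orderOf (ρ g) ∣ Nat.card ρ.range :=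
      Subgroup.orderOf_dvd_natCard _ (MonoidHom.mem_range.mpr ⟨g, rfl⟩)
    have hcop : Nat.Coprime 2 (orderOf (ρ g)) := (Nat.coprime_two_left).mpr hρgodd
    have h3 := hcop.mul_dvd_of_dvd_of_dvd h1 h2
    have hle : Nat.card ρ.range ≤ 6 := (Subgroup.card_le_card_group _).trans hcardA
    have hpos : 0 < Nat.card ρ.range := Nat.card_pos
    have h4 := Nat.le_of_dvd hpos h3
    have hne1 : orderOf (ρ g) ≠ 1 := fun h => hρne g hg1 (orderOf_eq_one_iff.mp h)
    have h5 : orderOf (ρ g) = 3 := by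
      obtain ⟨m, hm⟩ := hρgodd
      omega
    refine ⟨h5, ?_⟩
    rw [h5] at h3
    exact le_antisymm hle (Nat.le_of_dvd hpos h3)
  obtain ⟨hρg3, hrange6⟩ := hρg
  -- a 3-element g1
  obtain ⟨g1, hg1p, hρg1⟩ : ∃ g1 : G, (∃ a : ℕ, orderOf g1 = 3 ^ a) ∧ orderOf (ρ g1) = 3 := by
    obtain ⟨a, b, hb, hab⟩ := Nat.exists_eq_pow_mul_and_not_dvd (orderOf_pos g).ne' 3 (by norm_num)
    refine ⟨g ^ b, ⟨a, ?_⟩, ?_⟩
    · rw [orderOf_pow_of_dvd]
      · rw [hab]
        exact Nat.mul_div_cancel _ (Nat.pos_of_ne_zero (fun h => hb (h ▸ dvd_zero _)))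
      · exact fun h => hb (h ▸ dvd_zero _)
      · rw [hab]; exact Dvd.intro_left _ rfl
    · rw [map_pow, Nat.Coprime.orderOf_pow, hρg3]
      rw [hρg3]
      exact (Nat.Prime.coprime_iff_not_dvd Nat.prime_three).mpr hb
  let T : Subgroup G := (Subgroup.zpowers (ρ g1)).comap ρ
  have hTmem : g1 ∈ T := Subgroup.mem_zpowers (ρ g1)
  have hTindex : T.index = 2 := by
    have hle : Subgroup.zpowers (ρ g1) ≤ ρ.range := by
      rw [Subgroup.zpowers_le]; exact MonoidHom.mem_range.mpr ⟨g1, rfl⟩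
    have h1 : T.index = (Subgroup.zpowers (ρ g1)).relIndex ρ.range := by
      rw [Subgroup.index_comap]
    have h2 := Subgroup.relIndex_mul_relIndex ⊥ (Subgroup.zpowers (ρ g1)) ρ.range bot_le hle
    rw [Subgroup.relIndex_bot_left, Subgroup.relIndex_bot_left, Nat.card_zpowers, hρg1, hrange6, ← h1] at h2
    omega
  have hTnormal : T.Normal := Subgroup.normal_of_index_eq_two hTindex
  -- Sylow 3-subgroup of T containing g1
  have hpg : IsPGroup 3 (Subgroup.zpowers (⟨g1, hTmem⟩ : T)) := by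
    obtain ⟨a, ha⟩ := hg1p
    apply IsPGroup.of_card (n := a)
    rw [Nat.card_zpowers, Subgroup.orderOf_mk, ha]
  obtain ⟨R, hR⟩ := hpg.exists_le_sylow
  let R' : Subgroup G := (R : Subgroup T).map T.subtype
  have hg1R : g1 ∈ R' := ⟨⟨g1, hTmem⟩, hR (Subgroup.mem_zpowers _), rfl⟩
  have hR'p : IsPGroup 3 R' := R.2.map _
  let X : Subgroup G := Subgroup.normalizer (R' : Set G)
  have hR'X : R' ≤ X := Subgroup.le_normalizer
  have hfrat : X ⊔ T = ⊤ := Sylow.normalizer_sup_eq_top R
  have hWX : W ⊓ X = ⊥ := by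
    rw [Subgroup.eq_bot_iff_forall]
    rintro w ⟨hwW, hwX⟩
    have hcomm : w * g1 * w⁻¹ * g1⁻¹ = 1 := by
      have h1 : w * g1 * w⁻¹ * g1⁻¹ ∈ R' := by
        apply mul_mem _ (inv_mem hg1R)
        exact (Subgroup.mem_normalizer_iff.mp hwX g1).mp hg1R
      have h2 : w * g1 * w⁻¹ * g1⁻¹ ∈ W := by
        have h3 : g1 * w⁻¹ * g1⁻¹ ∈ W := Subgroup.Normal.conj_mem inferInstance _ (inv_mem hwW) _
        have h4 := mul_mem hwW h3
        have h5 : w * (g1 * w⁻¹ * g1⁻¹) = w * g1 * w⁻¹ * g1⁻¹ := by group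
        rwa [h5] at h4
      have h3 : orderOf (w * g1 * w⁻¹ * g1⁻¹) ∣ 4 := by
        rw [← hcard]; exact Subgroup.orderOf_dvd_natCard _ h2
      obtain ⟨n, hn⟩ := (IsPGroup.iff_orderOf.mp hR'p) ⟨_, h1⟩
      rw [Subgroup.orderOf_mk] at hn
      rw [hn] at h3
      have h4 : Nat.Coprime (3 ^ n) 4 := Nat.Coprime.pow_left _ (by norm_num)
      have h5 : 3 ^ n = 1 := Nat.Coprime.eq_one_of_dvd h4 h3
      rw [h5] at hn
      exact orderOf_eq_one_iff.mp hn
    have hfix : ρ g1 ⟨w, hwW⟩ = ⟨w, hwW⟩ := by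
      apply Subtype.ext
      rw [hρ]
      have : w * g1 * w⁻¹ = g1 := mul_inv_eq_one.mp hcomm
      have h2 : w * g1 = g1 * w := mul_inv_eq_iff_eq_mul.mp this
      show g1 * w * g1⁻¹ = w
      rw [← h2, mul_inv_cancel_right]
    exact congrArg Subtype.val (eq_one_of_fixed_of_order_three hcard (ρ g1) hρg1 _ hfix)
  -- ρ(X) = ρ(G)
  have hρX : Nat.card (X.map ρ) = 6 := by
    have h1 : T.map ρ ≤ X.map ρ := by
      calc T.map ρ ≤ Subgroup.zpowers (ρ g1) := Subgroup.map_comap_le _ _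
        _ ≤ X.map ρ := by
            rw [Subgroup.zpowers_le]
            exact ⟨g1, hR'X hg1R, rfl⟩
    have h2 : X.map ρ = ρ.range := by
      rw [MonoidHom.range_eq_map, ← hfrat, Subgroup.map_sup]
      exact (sup_eq_left.mpr h1).symm
    rw [h2, hrange6]
  -- K = W X
  let K : Subgroup G := W ⊔ X
  have hXK : X ≤ K := le_sup_right
  have hWK : W ≤ K := le_sup_left
  have hXindex : X.relIndex K = 4 := by
    have h1 : W.relIndex K = Nat.card X := by
      have h2 : W.relIndex (W ⊔ X) = W.relIndex X := Subgroup.relIndex_sup_left X W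
      rw [h2, ← Subgroup.inf_relIndex_right, hWX, Subgroup.relIndex_bot_left]
    have h2 := Subgroup.relIndex_mul_relIndex ⊥ W K bot_le hWK
    have h3 := Subgroup.relIndex_mul_relIndex ⊥ X K bot_le hXK
    rw [Subgroup.relIndex_bot_left, Subgroup.relIndex_bot_left] at h2 h3
    rw [h1, hcard] at h2
    rw [← h2] at h3
    have hpos : 0 < Nat.card X := Nat.card_pos
    have h4 : Nat.card X * X.relIndex K = Nat.card X * 4 := by rw [h3, mul_comm]
    exact Nat.eq_of_mul_eq_mul_left hpos h4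
  let X' : Subgroup K := X.subgroupOf K
  have hcardQ : Nat.card (K ⧸ X') = 4 := hXindex
  let θ : K →* Equiv.Perm (K ⧸ X') := MulAction.toPermHom K (K ⧸ X')
  have hker : θ.ker ≤ X' ⊓ (ρ.comp K.subtype).ker := by
    intro x hx
    rw [MonoidHom.mem_ker] at hx
    have hfix : ∀ y : K, (x : K) • (QuotientGroup.mk y : K ⧸ X') = QuotientGroup.mk y := by
      intro y
      have := congrArg (fun f : Equiv.Perm (K ⧸ X') => f (QuotientGroup.mk y)) hx
      exact this
    have hx1 : x ∈ X' := by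
      have := hfix 1
      rw [MulAction.Quotient.smul_mk, smul_eq_mul, mul_one, QuotientGroup.eq] at this
      simpa using this
    refine Subgroup.mem_inf.mpr ⟨hx1, ?_⟩
    rw [MonoidHom.mem_ker]
    ext w
    have h1 := hfix ⟨w, hWK w.2⟩
    rw [MulAction.Quotient.smul_mk, smul_eq_mul, QuotientGroup.eq] at h1
    have h2 : ((x : G) * w)⁻¹ * (w : G) ∈ X := h1
    have h3 : (x : G)⁻¹ ∈ X := inv_mem hx1
    have h4 : (w : G)⁻¹ * (x : G)⁻¹ * w * x ∈ X := by
      have h5 := mul_mem h2 (inv_mem h3)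
      rw [inv_inv] at h5
      have h6 : ((x : G) * w)⁻¹ * (w : G) * x = (w : G)⁻¹ * (x : G)⁻¹ * w * x := by group
      rwa [h6] at h5
    have h5 : (w : G)⁻¹ * (x : G)⁻¹ * w * x ∈ W := by
      have h6 : (x : G)⁻¹ * w * x ∈ W := by
        have := Subgroup.Normal.conj_mem (H := W) inferInstance _ w.2 (x : G)⁻¹
        simpa using this
      have h7 := mul_mem (inv_mem w.2) h6
      have h8 : (w : G)⁻¹ * ((x : G)⁻¹ * w * x) = (w : G)⁻¹ * (x : G)⁻¹ * w * x := by group
      rwa [h8] at h7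
    have h6 : (w : G)⁻¹ * (x : G)⁻¹ * w * x ∈ W ⊓ X := ⟨h5, h4⟩
    rw [hWX, Subgroup.mem_bot] at h6
    show ((ρ (x : G) w : W) : G) = w
    rw [hρ]
    calc (x : G) * w * (x : G)⁻¹ = (x : G) * (w : G) * ((w : G)⁻¹ * (x : G)⁻¹ * w * x) * (x : G)⁻¹ := by
          rw [h6]; group
      _ = w := by group
  have hrange : 24 ≤ Nat.card θ.range := by
    have h1 : Nat.card θ.range = θ.ker.index := (Subgroup.index_ker θ).symm
    have h2 : (X' ⊓ (ρ.comp K.subtype).ker).index = 24 := by
      have h3 := Subgroup.relIndex_mul_index (inf_le_left : X' ⊓ (ρ.comp K.subtype).ker ≤ X')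
      have h4 : (X' ⊓ (ρ.comp K.subtype).ker).relIndex X' = 6 := by
        rw [Subgroup.inf_relIndex_left, Subgroup.relIndex_ker]
        have h5 : X'.map (ρ.comp K.subtype) = X.map ρ := by
          rw [← Subgroup.map_map, Subgroup.subgroupOf_map_subtype, inf_eq_left.mpr hXK]
        rw [h5, hρX]
      have h5 : X'.index = 4 := hXindex
      rw [h4, h5] at h3
      omega
    rw [h1, ← h2]
    have hne : θ.ker.index ≠ 0 := Subgroup.index_ne_zero_of_finite
    exact Nat.le_of_dvd (Nat.pos_of_ne_zero hne) (Subgroup.index_dvd_of_le hker)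
  have hsurj : Function.Surjective θ := by
    rw [← MonoidHom.range_eq_top]
    apply Subgroup.eq_top_of_le_card
    rw [Nat.card_perm, hcardQ]
    exact hrange
  have e : K ⧸ X' ≃ Fin 4 := by
    have : Finite (K ⧸ X') := inferInstance
    exact (Finite.equivFinOfCardEq hcardQ)
  rw [involves_iff]
  exact ⟨K, (e.permCongrHom).toMonoidHom.comp θ, (e.permCongrHom).surjective.comp hsurj⟩

end Cfsg.Agent.H34
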