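import Cfsg.Agent.H34.FF
import Cfsg.Agent.H34.Involves
import Cfsg.Agent.H34.Thompson
import Cfsg.Agent.Solv.Core
import Cfsg.Agent.Solv.MinNormal

/-!
Solvable groups without `S₄`: a 2-subgroup offending on a 2-reduced elementary abelian normal 2-subgroup
centralizes it.
-/

set_option autoImplicit false

namespace Cfsg.Agent.H34

open Cfsg

universe u

theorem fixed_commutator_eq_one {V : Type u} [CommGroup V] (hV : ∀ v : V, v * v = 1) (e : MulAut V)
    (he : Odd (orderOf e)) (u : V) (hfix : e (e u * u⁻¹) = e u * u⁻¹) : e u * u⁻¹ = 1 := by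
  have heu : e u = (e u * u⁻¹) * u := by group
  generalize e u * u⁻¹ = w at hfix heu ⊢
  have hpow : ∀ k : ℕ, (e ^ k) u = w ^ k * u := by
    intro k
    induction k with
    | zero => simp
    | succ k ih =>
      rw [pow_succ', MulAut.mul_apply, ih, map_mul, map_pow, hfix, heu, pow_succ, mul_assoc]
  have h3 := hpow (orderOf e)
  rw [pow_orderOf_eq_one] at h3
  have h4 : w ^ orderOf e = 1 := by
    have : (1 : MulAut V) u = u := rfl
    rw [this] at h3
    exact (mul_eq_right.mp h3.symm)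
  apply eq_one_of_sq_of_odd _ _ (hV w)
  exact he.of_dvd_nat (orderOf_dvd_of_pow_eq_one h4)

theorem mem_fixedBy_zpowers {V : Type u} [CommGroup V] (a : MulAut V) (v : V) :
    v ∈ fixedBy (Subgroup.zpowers a) ↔ a v = v := by
  constructor
  · intro h; exact h a (Subgroup.mem_zpowers a)
  · intro h b hb
    have hle : Subgroup.zpowers a ≤ MulAction.stabilizer (MulAut V) v := by
      rw [Subgroup.zpowers_le]; exact h
    exact hle hb

/-- A transvection `a` and `d = [a, f]` of odd order generate an `S₃` acting on a four-group `[V, d]`. -/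
theorem transvection_S3 {V : Type u} [CommGroup V] [Finite V] (hV : ∀ v : V, v * v = 1) (a f : MulAut V)
    (ha2 : a * a = 1) (hat : Nat.card V ≤ 2 * Nat.card (fixedBy (Subgroup.zpowers a)))
    (hd : Odd (orderOf (a * f * a⁻¹ * f⁻¹))) (hne : a * f * a⁻¹ * f⁻¹ ≠ 1) :
    ∃ W : Subgroup V, Nat.card W = 4 ∧ (∀ w ∈ W, a w ∈ W) ∧ (∀ w ∈ W, (a * f * a⁻¹ * f⁻¹) w ∈ W) ∧
      (∀ w ∈ W, (a * f * a⁻¹ * f⁻¹) w = w → w = 1) ∧ ∃ w ∈ W, a w ≠ w := by
  set d := a * f * a⁻¹ * f⁻¹ with hddef
  have hainv : a⁻¹ = a := inv_eq_of_mul_eq_one_left ha2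
  have had : a * d * a⁻¹ = d⁻¹ := by
    rw [hddef, hainv]
    calc a * (a * f * a * f⁻¹) * a = (a * a) * f * a * f⁻¹ * a := by group
      _ = f * a * f⁻¹ * a := by rw [ha2]; group
      _ = (a⁻¹ * f * a⁻¹ * f⁻¹)⁻¹ := by group
      _ = (a * f * a * f⁻¹)⁻¹ := by rw [hainv]
  let φ : V →* V := MonoidHom.mk' (fun v : V => d v * v⁻¹) (by
    intro a b
    simp only [map_mul, mul_inv]
    ac_rfl)
  let W : Subgroup V := φ.range
  have hWmem : ∀ v, v ∈ W ↔ ∃ u : V, d u * u⁻¹ = v := fun v => Iff.rfl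
  have hfixd : ∀ w ∈ W, d w = w → w = 1 := by
    intro w hw hdw
    obtain ⟨u, rfl⟩ := (hWmem w).mp hw
    exact fixed_commutator_eq_one hV d hd u hdw
  have hdd : ∀ v : V, d (d⁻¹ v) = v := fun v => by rw [← MulAut.mul_apply, mul_inv_cancel]; rfl
  have hdW : ∀ w ∈ W, d w ∈ W := by
    intro w hw
    obtain ⟨u, rfl⟩ := (hWmem w).mp hw
    rw [hWmem]
    exact ⟨d u, by rw [map_mul, map_inv]⟩
  have haW : ∀ w ∈ W, a w ∈ W := by
    intro w hw
    obtain ⟨u, rfl⟩ := (hWmem w).mp hw
    rw [hWmem]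
    -- a d u = d⁻¹ a u
    have h1 : a (d u) = d⁻¹ (a u) := by
      rw [← had, hainv]
      show a (d u) = a (d (a (a u)))
      have : a (a u) = u := by
        have h := congrArg (fun g : MulAut V => g u) ha2
        exact h
      rw [this]
    refine ⟨(d⁻¹ (a u))⁻¹, ?_⟩
    rw [map_mul, map_inv, h1, map_inv, hdd, inv_inv, mul_comm]
  -- cardinality
  have hker : ∀ v, v ∈ φ.ker ↔ d v = v := by
    intro v
    rw [MonoidHom.mem_ker]
    exact mul_inv_eq_one
  have hcardW : Nat.card W * Nat.card φ.ker = Nat.card V := by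
    have h1 := Subgroup.index_ker φ
    have h2 := Subgroup.card_mul_index φ.ker
    rw [h1, mul_comm] at h2
    exact h2
  set Ca := fixedBy (Subgroup.zpowers a) with hCa
  let Cb : Subgroup V := Ca.map f.toMonoidHom
  have hCbmem : ∀ v ∈ Cb, (f * a⁻¹ * f⁻¹) v = v := by
    rintro _ ⟨v, hv, rfl⟩
    have hv' := (mem_fixedBy_zpowers a v).mp hv
    show f (a⁻¹ (f⁻¹ (f v))) = f v
    have h1 : f⁻¹ (f v) = v := by rw [← MulAut.mul_apply, inv_mul_cancel]; rfl
    rw [h1, hainv, hv']
  have hle : Ca ⊓ Cb ≤ φ.ker := by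
    rintro v ⟨h1, h2⟩
    rw [hker, hddef]
    have h3 : (a * f * a⁻¹ * f⁻¹) v = a ((f * a⁻¹ * f⁻¹) v) := rfl
    rw [h3, hCbmem v h2]
    exact (mem_fixedBy_zpowers a v).mp h1
  have hCbcard : Nat.card Cb = Nat.card Ca := by
    have hf : Function.Injective f.toMonoidHom := f.injective
    exact Subgroup.card_map_of_injective hf
  have hpos : 0 < Nat.card V := Nat.card_pos
  have hidx : ∀ C : Subgroup V, Nat.card V ≤ 2 * Nat.card C → C.index ≤ 2 := by
    intro C hC
    have h1 := Subgroup.card_mul_index C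
    have hCpos : 0 < Nat.card C := Nat.card_pos
    rw [← h1, mul_comm] at hC
    exact Nat.le_of_mul_le_mul_right hC hCpos
  have hW4 : Nat.card W ≤ 4 := by
    have h1 : Nat.card W = φ.ker.index := by rw [Subgroup.index_ker]
    rw [h1]
    calc φ.ker.index ≤ (Ca ⊓ Cb).index :=
          Nat.le_of_dvd (Nat.pos_of_ne_zero Subgroup.index_ne_zero_of_finite) (Subgroup.index_dvd_of_le hle)
      _ ≤ Ca.index * Cb.index := Subgroup.index_inf_le
      _ ≤ 2 * 2 := Nat.mul_le_mul (hidx Ca hat) (hidx Cb (by rw [hCbcard]; exact hat))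
  have hWne : ∃ w ∈ W, w ≠ 1 := by
    by_contra hcon
    push Not at hcon
    apply hne
    ext v
    have := hcon (d v * v⁻¹) ⟨v, rfl⟩
    exact mul_inv_eq_one.mp this
  have h2W : 2 ∣ Nat.card W := by
    obtain ⟨w, hw, hw1⟩ := hWne
    have : orderOf w = 2 := by
      rw [orderOf_eq_prime_iff]
      exact ⟨by rw [sq]; exact hV w, hw1⟩
    rw [← this]
    exact Subgroup.orderOf_dvd_natCard _ hw
  have hWcard : Nat.card W = 4 := by
    have hpos : 0 < Nat.card W := Nat.card_pos
    have hne2 : Nat.card W ≠ 2 := by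
      intro h2
      obtain ⟨w, hw, hw1⟩ := hWne
      have hdw1 : d w ≠ 1 := by
        intro h; apply hw1; exact (map_eq_one_iff d d.injective).mp h
      have h3 : ∀ x ∈ W, x ≠ 1 → x = w := by
        intro x hx hx1
        by_contra hxw
        have hsub : ({1, w, x} : Set V) ⊆ (W : Set V) := by
          intro y hy
          rcases hy with rfl | rfl | rfl
          · exact one_mem W
          · exact hw
          · exact hx
        have h5 := Set.ncard_le_ncard hsub (Set.toFinite _)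
        have h6 : ({1, w, x} : Set V).ncard = 3 := by
          rw [Set.ncard_eq_three]
          exact ⟨1, w, x, Ne.symm hw1, Ne.symm hx1, Ne.symm hxw, rfl⟩
        have h7 : (W : Set V).ncard = 2 := h2
        omega
      exact hw1 (hfixd w hw (h3 (d w) (hdW w hw) hdw1))
    omega
  refine ⟨W, hWcard, haW, hdW, hfixd, ?_⟩
  by_contra hcon
  push Not at hcon
  obtain ⟨w, hw, hw1⟩ := hWne
  have h1 : a (d w) = d w := hcon _ (hdW w hw)
  have h2 : a (d w) = d⁻¹ (a w) := by
    rw [← had, hainv]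
    show a (d w) = a (d (a (a w)))
    have : a (a w) = w := by
      have h := congrArg (fun g : MulAut V => g w) ha2
      exact h
    rw [this]
  rw [hcon w hw] at h2
  have h3 : (d * d) w = w := by
    rw [MulAut.mul_apply, ← h1, h2, hdd]
  obtain ⟨k, hk⟩ := exists_sqrt_of_odd d hd
  have h4 : d w = w := by
    have h5 : d = (d * d) ^ k := by
      conv_lhs => rw [← hk]
      rw [← sq, ← sq, ← pow_mul, ← pow_mul, mul_comm]
    rw [h5]
    have h6 : ∀ n : ℕ, ((d * d) ^ n) w = w := by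
      intro n
      induction n with
      | zero => rfl
      | succ n ih => rw [pow_succ, MulAut.mul_apply, h3, ih]
    exact h6 k
  exact hw1 (hfixd w hw h4)

/-- The Fitting subgroup of a finite group with `O_2 = 1` has odd order. -/
theorem odd_card_fitting {H : Type u} [Group H] [Finite H] (h2 : pCore 2 H = ⊥) :
    Odd (Nat.card (fittingSubgroup H)) := by
  have : Fact (Nat.Prime 2) := ⟨Nat.prime_two⟩
  have h1 := Cfsg.Agent.Solv.coprime_relIndex_pCore_iSup (G := H) 2
  rw [← Cfsg.Agent.Solv.fitting_eq_iSup_pCore, h2, Subgroup.relIndex_bot_left] at h1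
  exact (Nat.coprime_two_right).mp h1

theorem offender_aux {V : Type u} [CommGroup V] [Finite V] (hV : ∀ v : V, v * v = 1)
    (H : Subgroup (MulAut V)) [Group.IsSolvable H] (hred : pCore 2 H = ⊥) (A : Subgroup (MulAut V)) (hAH : A ≤ H)
    (hcomm : ∀ a ∈ A, ∀ b ∈ A, a * b = b * a) (hsq : ∀ a ∈ A, a * a = 1) (hne : A ≠ ⊥)
    (hcard : Nat.card V ≤ Nat.card A * Nat.card (fixedBy A)) :
    ∃ a ∈ A, ∃ d ∈ H, Odd (orderOf d) ∧ a * a = 1 ∧
      ∃ W : Subgroup V, Nat.card W = 4 ∧ (∀ w ∈ W, a w ∈ W) ∧ (∀ w ∈ W, d w ∈ W) ∧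
      (∀ w ∈ W, d w = w → w = 1) ∧ ∃ w ∈ W, a w ≠ w := by
  let F : Subgroup (MulAut V) := (fittingSubgroup H).map H.subtype
  have hFH : F ≤ H := Subgroup.map_subtype_le _
  have hFodd : Odd (Nat.card F) := by
    rw [Subgroup.card_map_of_injective H.subtype_injective]
    exact odd_card_fitting hred
  have hFsol : Group.IsSolvable F :=
    Group.isSolvable_of_isSolvable_injective (Subgroup.inclusion_injective hFH)
  have hnorm : ∀ a ∈ A, ∀ f ∈ F, a * f * a⁻¹ ∈ F := by
    rintro a ha _ ⟨f, hf, rfl⟩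
    exact ⟨⟨a, hAH ha⟩ * f * (⟨a, hAH ha⟩ : H)⁻¹, Subgroup.Normal.conj_mem inferInstance f hf _, rfl⟩
  have hfaith : ∀ a ∈ A, (∀ f ∈ F, a * f = f * a) → a = 1 := by
    intro a ha hf
    have h1 : (⟨a, hAH ha⟩ : H) ∈ Subgroup.centralizer (fittingSubgroup H : Set H) := by
      rw [Subgroup.mem_centralizer_iff]
      intro f hf'
      apply Subtype.ext
      exact (hf f ⟨f, hf', rfl⟩).symm
    have h2 : (⟨a, hAH ha⟩ : H) ∈ fittingSubgroup H := Cfsg.Agent.Solv.centralizer_fitting_le h1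
    have h3 : Odd (orderOf (⟨a, hAH ha⟩ : H)) :=
      (odd_card_fitting hred).of_dvd_nat (Subgroup.orderOf_dvd_natCard _ h2)
    have h4 := eq_one_of_sq_of_odd _ h3 (Subtype.ext (hsq a ha))
    exact congrArg Subtype.val h4
  obtain ⟨a, ha, ha1, hat⟩ := ff_transvection hV F hFodd _ A rfl hnorm hcomm hsq hne hfaith hcard
  obtain ⟨f, hf, haf⟩ : ∃ f ∈ F, a * f ≠ f * a := by
    by_contra hcon
    push Not at hcon
    exact ha1 (hfaith a ha hcon)
  have hdF : a * f * a⁻¹ * f⁻¹ ∈ F := mul_mem (hnorm a ha f hf) (inv_mem hf)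
  have hd : Odd (orderOf (a * f * a⁻¹ * f⁻¹)) := hFodd.of_dvd_nat (Subgroup.orderOf_dvd_natCard _ hdF)
  have hdne : a * f * a⁻¹ * f⁻¹ ≠ 1 := by
    intro h
    apply haf
    exact mul_inv_eq_iff_eq_mul.mp (mul_inv_eq_one.mp h)
  obtain ⟨W, hW⟩ := transvection_S3 hV a f (hsq a ha) hat hd hdne
  exact ⟨a, ha, _, hFH hdF, hd, hsq a ha, W, hW⟩

theorem offender_centralizes {G : Type u} [Group G] [Finite G] [Group.IsSolvable G]
    (hS4 : ¬ Involves (Equiv.Perm (Fin 4)) G) (V : Subgroup G) [V.Normal] (hVab : IsElementaryAbelian 2 V)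
    (hred : pCore 2 (MulAut.conjNormal : G →* MulAut V).range = ⊥) (A : Subgroup G)
    (hA : IsElementaryAbelian 2 A)
    (hcard : Nat.card V * Nat.card (A ⊓ Subgroup.centralizer (V : Set G) : Subgroup G) ≤
      Nat.card A * Nat.card (V ⊓ Subgroup.centralizer (A : Set G) : Subgroup G)) :
    A ≤ Subgroup.centralizer (V : Set G) := by
  by_contra hnot
  have hVab' := (isElementaryAbelian_iff 2 V).mp hVab
  have hA' := (isElementaryAbelian_iff 2 A).mp hA
  let inst : CommGroup V :=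
    { (inferInstance : Group V) with mul_comm := fun a b => Subtype.ext (hVab'.1 a a.2 b b.2) }
  have hV2 : ∀ v : V, v * v = 1 := fun v => Subtype.ext (by
    have := hVab'.2 v v.2
    rw [sq] at this
    exact this)
  let ρ : G →* MulAut V := MulAut.conjNormal
  have hρ : ∀ (x : G) (w : V), ((ρ x w : V) : G) = x * w * x⁻¹ := fun x w => MulAut.conjNormal_apply x w
  have hsolH : Group.IsSolvable ρ.range := Group.isSolvable_of_surjective ρ.rangeRestrict_surjective
  have hker : ρ.ker = Subgroup.centralizer (V : Set G) := by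
    ext x
    rw [MonoidHom.mem_ker, Subgroup.mem_centralizer_iff]
    constructor
    · intro h v hv
      have h1 : ((ρ x ⟨v, hv⟩ : V) : G) = v := by rw [h]; rfl
      rw [hρ] at h1
      exact (mul_inv_eq_iff_eq_mul.mp h1).symm
    · intro h
      ext v
      rw [hρ]
      show x * (v : G) * x⁻¹ = v
      rw [← h v v.2, mul_inv_cancel_right]
  have hAle : A.map ρ ≤ ρ.range := by
    rintro _ ⟨a, _, rfl⟩; exact ⟨a, rfl⟩
  have hcardA : Nat.card (A.map ρ) * Nat.card (A ⊓ Subgroup.centralizer (V : Set G) : Subgroup G) =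
      Nat.card A := by
    have h1 := Subgroup.relIndex_ker (K := A) ρ
    rw [hker] at h1
    have h2 := Subgroup.relIndex_mul_relIndex ⊥ (A ⊓ Subgroup.centralizer (V : Set G)) A bot_le inf_le_left
    rw [Subgroup.relIndex_bot_left, Subgroup.relIndex_bot_left, Subgroup.inf_relIndex_left, h1, mul_comm] at h2
    exact h2
  have hfix : Nat.card (fixedBy (A.map ρ)) =
      Nat.card (V ⊓ Subgroup.centralizer (A : Set G) : Subgroup G) := by
    have h1 : (fixedBy (A.map ρ)).map V.subtype = V ⊓ Subgroup.centralizer (A : Set G) := by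
      ext x
      constructor
      · rintro ⟨v, hv, rfl⟩
        refine Subgroup.mem_inf.mpr ⟨v.2, ?_⟩
        rw [Subgroup.mem_centralizer_iff]
        intro a ha
        have h2 := congrArg Subtype.val (hv (ρ a) ⟨a, ha, rfl⟩)
        rw [hρ] at h2
        exact mul_inv_eq_iff_eq_mul.mp h2
      · intro hvx
        obtain ⟨hv, hx⟩ := Subgroup.mem_inf.mp hvx
        refine ⟨⟨x, hv⟩, ?_, rfl⟩
        rintro _ ⟨a, ha, rfl⟩
        apply Subtype.ext
        rw [hρ]
        rw [Subgroup.mem_centralizer_iff] at hx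
        show a * x * a⁻¹ = x
        rw [hx a ha, mul_inv_cancel_right]
    rw [← h1, Subgroup.card_map_of_injective V.subtype_injective]
  have hcard2 : Nat.card V ≤ Nat.card (A.map ρ) * Nat.card (fixedBy (A.map ρ)) := by
    rw [hfix]
    rw [← hcardA] at hcard
    have hpos : 0 < Nat.card (A ⊓ Subgroup.centralizer (V : Set G) : Subgroup G) := Nat.card_pos
    apply Nat.le_of_mul_le_mul_right _ hpos
    calc _ ≤ _ := hcard
      _ = _ := by ring
  have hne : A.map ρ ≠ ⊥ := by
    intro h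
    rw [Subgroup.map_eq_bot_iff, hker] at h
    exact hnot h
  obtain ⟨a, ha, d, hd, hdodd, ha2, W, hWcard, haW, hdW, hdfix, haw⟩ :=
    offender_aux (V := V) hV2 ρ.range hred (A.map ρ) hAle
      (by
        rintro _ ⟨a, ha, rfl⟩ _ ⟨b, hb, rfl⟩
        rw [← map_mul, hA'.1 a ha b hb, map_mul])
      (by
        rintro _ ⟨a, ha, rfl⟩
        have := hA'.2 a ha
        rw [sq] at this
        rw [← map_mul, this, map_one]) hne hcard2
  obtain ⟨a', ha', rfl⟩ := ha
  obtain ⟨d', rfl⟩ := hd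
  apply hS4
  -- the normalizer of W
  let WG : Subgroup G := W.map V.subtype
  have hWGmem : ∀ x : G, x ∈ WG ↔ ∃ w ∈ W, (w : G) = x := fun x => Iff.rfl
  have hnorm : ∀ x : G, (∀ w ∈ W, ρ x w ∈ W) → x ∈ Subgroup.normalizer (WG : Set G) := by
    intro x hx
    have h1 : ∀ y ∈ WG, x * y * x⁻¹ ∈ WG := by
      rintro _ ⟨w, hw, rfl⟩
      exact ⟨ρ x w, hx w hw, hρ x w⟩
    rw [Subgroup.mem_normalizer_iff]
    intro y
    refine ⟨h1 y, ?_⟩
    -- injectivity on the finite set
    intro hy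
    have h2 : WG.map (MulAut.conj x).toMonoidHom = WG := by
      apply Subgroup.eq_of_le_of_card_ge
      · rintro _ ⟨y, hy, rfl⟩
        exact h1 y hy
      · have hinj : Function.Injective (MulAut.conj x).toMonoidHom := (MulAut.conj x).injective
        exact (Subgroup.card_map_of_injective hinj).ge
    have h3 : x * y * x⁻¹ ∈ WG.map (MulAut.conj x).toMonoidHom := by rw [h2]; exact hy
    obtain ⟨z, hz, hz2⟩ := h3
    have h4 : x * z * x⁻¹ = x * y * x⁻¹ := hz2
    have h5 : z = y := by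
      have := congrArg (fun t => x⁻¹ * t * x) h4
      simpa [mul_assoc] using this
    rwa [← h5]
  let N : Subgroup G := Subgroup.normalizer (WG : Set G)
  have ha'N : a' ∈ N := hnorm a' haW
  have hd'N : d' ∈ N := hnorm d' hdW
  have hWN : WG ≤ N := Subgroup.le_normalizer
  apply involves_of_subgroup N
  have hWnormal : (WG.subgroupOf N).Normal := Subgroup.normal_in_normalizer
  have hcardWN : Nat.card (WG.subgroupOf N) = 4 := by
    rw [Nat.card_congr (Subgroup.subgroupOfEquivOfLe hWN).toEquiv,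
      Subgroup.card_map_of_injective V.subtype_injective, hWcard]
  have hWne : ∃ w ∈ W, w ≠ 1 := by
    obtain ⟨w, hw, hw1⟩ := haw
    refine ⟨w, hw, fun h => hw1 ?_⟩
    rw [h, map_one]
  refine involves_S4_of_normal (WG.subgroupOf N) hcardWN ⟨d', hd'N⟩ ⟨a', ha'N⟩ (orderOf (ρ d')) hdodd ?_ ?_ ?_ ?_
  · rintro ⟨w, hwN⟩ hw
    obtain ⟨v, hv, rfl⟩ := hw
    apply Subtype.ext
    have h1 := hρ (d' ^ orderOf (ρ d')) v
    rw [map_pow, pow_orderOf_eq_one] at h1
    exact h1.symm
  · obtain ⟨w, hw, hw1⟩ := hWne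
    have hwG : (w : G) ∈ WG := ⟨w, hw, rfl⟩
    refine ⟨⟨w, hWN hwG⟩, hwG, ?_⟩
    intro hcon
    apply hw1
    apply hdfix w hw
    apply Subtype.ext
    rw [hρ]
    exact congrArg Subtype.val hcon
  · rintro ⟨w, hwN⟩ hw
    obtain ⟨v, hv, rfl⟩ := hw
    apply Subtype.ext
    have h1 := hρ (a' * a') v
    rw [map_mul, ha2] at h1
    exact h1.symm
  · obtain ⟨w, hw, hw1⟩ := haw
    have hwG : (w : G) ∈ WG := ⟨w, hw, rfl⟩
    refine ⟨⟨w, hWN hwG⟩, hwG, ?_⟩
    intro hcon
    apply hw1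
    apply Subtype.ext
    rw [hρ]
    exact congrArg Subtype.val hcon

end Cfsg.Agent.H34
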