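import Mathlib

/-!
Irreducible abelian normal subgroups of index two on a space whose order is an odd non-square.
-/

set_option autoImplicit false
set_option linter.unusedSectionVars false

namespace Cfsg.Agent.H34

universe u v

theorem two_torsion_free {V : Type v} [AddGroup V] [Finite V] (hodd : Odd (Nat.card V)) {v : V} (h : v + v = 0) : v = 0 := by
  have h1 : addOrderOf v ∣ 2 := addOrderOf_dvd_of_nsmul_eq_zero (by rw [two_nsmul, h])
  have h2 : addOrderOf v ∣ Nat.card V := addOrderOf_dvd_natCard v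
  have h3 : addOrderOf v ∣ Nat.gcd 2 (Nat.card V) := Nat.dvd_gcd h1 h2
  have h4 : Nat.gcd 2 (Nat.card V) = 1 := by
    rw [← Nat.Coprime]
    exact (Nat.coprime_two_left).mpr hodd
  rw [h4, Nat.dvd_one] at h3
  exact AddMonoid.addOrderOf_eq_one_iff.mp h3

/-- the commutative ring generated by an abelian irreducible group, and the action on it -/
theorem commute_of_nonsquare {H : Type u} {V : Type v} [Group H] [AddCommGroup V] [Finite V] [DistribMulAction H V]
    (N : Subgroup H) (hN : N.Normal) (hidx : ∀ h : H, h * h ∈ N) (hcomm : ∀ a ∈ N, ∀ b ∈ N, a * b = b * a)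
    (hirr : ∀ W : AddSubgroup V, (∀ a ∈ N, ∀ w ∈ W, a • w ∈ W) → W ≠ ⊥ → W = ⊤)
    (hodd : Odd (Nat.card V)) (hsq : ¬ IsSquare (Nat.card V)) (h a : H) (ha : a ∈ N) (x : V) :
    h • a • x = a • h • x := by
  classical
  let A := AddMonoid.End V
  let ρ : H →* A := DistribMulAction.toAddMonoidEnd H V
  have hρ : ∀ (g : H) (v : V), ρ g v = g • v := fun _ _ => rfl
  have hfinA : Finite A := by
    have : Function.Injective (fun (f : A) (v : V) => f v) := DFunLike.coe_injective
    exact Finite.of_injective _ this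
  let R : Subring A := Subring.closure (ρ '' (N : Set H))
  have hρR : ∀ b ∈ N, ρ b ∈ R := fun b hb => Subring.subset_closure ⟨b, hb, rfl⟩
  have h1 : R ≤ Subring.centralizer (ρ '' (N : Set H)) := by
    rw [Subring.closure_le]
    rintro _ ⟨b, hb, rfl⟩
    rw [SetLike.mem_coe, Subring.mem_centralizer_iff]
    rintro _ ⟨c, hc, rfl⟩
    rw [← map_mul, ← map_mul, hcomm c hc b hb]
  have h2 : R ≤ Subring.centralizer (R : Set A) := by
    rw [Subring.closure_le]
    rintro _ ⟨b, hb, rfl⟩
    rw [SetLike.mem_coe, Subring.mem_centralizer_iff]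
    intro r hr
    exact (Subring.mem_centralizer_iff.mp (h1 hr) _ ⟨b, hb, rfl⟩).symm
  have hRcomm : ∀ r ∈ R, ∀ s ∈ R, r * s = s * r := fun r hr s hs => Subring.mem_centralizer_iff.mp (h2 hs) r hr
  -- nonzero elements are injective
  have hinj : ∀ r ∈ R, r ≠ 0 → ∀ v : V, r v = 0 → v = 0 := by
    intro r hr hr0 v hv
    by_contra hv0
    have hW := hirr (AddMonoidHom.ker r) (by
      intro b hb w hw
      have hw : r w = 0 := hw
      show r (b • w) = 0
      have h3 : (r * ρ b) w = (ρ b * r) w := by rw [hRcomm r hr _ (hρR b hb)]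
      calc r (b • w) = (r * ρ b) w := rfl
        _ = (ρ b * r) w := h3
        _ = b • (r w) := rfl
        _ = 0 := by rw [hw, smul_zero]) (by
      intro hbot
      have : v ∈ AddMonoidHom.ker r := hv
      rw [hbot, AddSubgroup.mem_bot] at this
      exact hv0 this)
    apply hr0
    ext w
    have : w ∈ AddMonoidHom.ker r := by rw [hW]; exact AddSubgroup.mem_top w
    exact this
  have hV1 : Nat.card V ≠ 1 := by
    intro h3
    rw [h3] at hsq
    exact hsq ⟨1, rfl⟩
  obtain ⟨v0, hv0⟩ : ∃ v : V, v ≠ 0 := by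
    by_contra hcon
    push Not at hcon
    apply hV1
    rw [Nat.card_eq_one_iff_unique]
    exact ⟨⟨fun a b => by rw [hcon a, hcon b]⟩, ⟨0⟩⟩
  -- card R = card V
  have hcard : Nat.card R = Nat.card V := by
    apply Nat.card_congr
    refine Equiv.ofBijective (fun r => (r : A) v0) ⟨?_, ?_⟩
    · intro r s hrs
      by_contra hne
      apply hv0
      apply hinj ((r : A) - s) (R.sub_mem r.2 s.2)
      · intro h3
        exact hne (Subtype.ext (sub_eq_zero.mp h3))
      · show (r : A) v0 - (s : A) v0 = 0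
        exact sub_eq_zero.mpr hrs
    · let W : AddSubgroup V :=
        { carrier := {w | ∃ r ∈ R, r v0 = w}
          zero_mem' := ⟨0, R.zero_mem, rfl⟩
          add_mem' := by
            rintro _ _ ⟨r, hr, rfl⟩ ⟨s, hs, rfl⟩
            exact ⟨r + s, R.add_mem hr hs, rfl⟩
          neg_mem' := by
            rintro _ ⟨r, hr, rfl⟩
            exact ⟨-r, R.neg_mem hr, rfl⟩ }
      have hW : W = ⊤ := hirr W (by
        rintro b hb _ ⟨r, hr, rfl⟩
        exact ⟨ρ b * r, R.mul_mem (hρR b hb) hr, rfl⟩) (by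
        intro hbot
        have : v0 ∈ W := ⟨1, R.one_mem, rfl⟩
        rw [hbot, AddSubgroup.mem_bot] at this
        exact hv0 this)
      intro w
      have : w ∈ W := by rw [hW]; exact AddSubgroup.mem_top w
      obtain ⟨r, hr, hrw⟩ := this
      exact ⟨⟨r, hr⟩, hrw⟩
  -- the conjugation
  let τ : A →+* A :=
    { toFun := fun r => ρ h * r * ρ h⁻¹
      map_one' := by rw [mul_one, ← map_mul, mul_inv_cancel, map_one]
      map_mul' := by
        intro r s
        have : ρ h⁻¹ * ρ h = 1 := by rw [← map_mul, inv_mul_cancel, map_one]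
        calc ρ h * (r * s) * ρ h⁻¹ = ρ h * r * 1 * s * ρ h⁻¹ := by simp only [mul_one, mul_assoc]
          _ = ρ h * r * ρ h⁻¹ * (ρ h * s * ρ h⁻¹) := by rw [← this]; simp only [mul_assoc]
      map_zero' := by rw [mul_zero, zero_mul]
      map_add' := by intro r s; rw [mul_add, add_mul] }
  have hτ : ∀ r, τ r = ρ h * r * ρ h⁻¹ := fun _ => rfl
  have hτR : ∀ r ∈ R, τ r ∈ R := by
    have h3 : R ≤ R.comap τ := by
      rw [Subring.closure_le]
      rintro _ ⟨b, hb, rfl⟩
      show τ (ρ b) ∈ R
      rw [hτ, ← map_mul, ← map_mul]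
      exact hρR _ (hN.conj_mem b hb h)
    exact h3
  have hττ : ∀ r ∈ R, τ (τ r) = r := by
    intro r hr
    rw [hτ, hτ]
    have h3 : ρ h * ρ h = ρ (h * h) := (map_mul _ _ _).symm
    have h4 : ρ h⁻¹ * ρ h⁻¹ = ρ (h * h)⁻¹ := by rw [← map_mul, mul_inv_rev]
    calc ρ h * (ρ h * r * ρ h⁻¹) * ρ h⁻¹ = (ρ h * ρ h) * r * (ρ h⁻¹ * ρ h⁻¹) := by simp only [mul_assoc]
      _ = r * (ρ (h * h) * ρ (h * h)⁻¹) := by
        rw [h3, h4, hRcomm _ (hρR _ (hidx h)) r hr, mul_assoc]
      _ = r := by rw [← map_mul, mul_inv_cancel, map_one, mul_one]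
  have h2A : ∀ r : A, r + r = 0 → r = 0 := by
    intro r hr
    ext w
    exact two_torsion_free hodd (DFunLike.congr_fun hr w)
  -- the key claim
  have hfix : ∀ r ∈ R, τ r = r := by
    intro r hr
    by_contra hne
    apply hsq
    let b0 : A := r - τ r
    have hb0R : b0 ∈ R := R.sub_mem hr (hτR r hr)
    have hb0 : b0 ≠ 0 := fun h3 => hne (sub_eq_zero.mp h3).symm
    have hτb0 : τ b0 = -b0 := by
      show τ (r - τ r) = -(r - τ r)
      rw [map_sub, hττ r hr, neg_sub]
    have hcancel : ∀ s ∈ R, ∀ t ∈ R, s * b0 = t * b0 → s = t := by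
      intro s hs t ht hst
      have h3 : b0 * (s - t) = 0 := by rw [hRcomm b0 hb0R _ (R.sub_mem hs ht), sub_mul, hst, sub_self]
      apply sub_eq_zero.mp
      ext w
      exact hinj b0 hb0R hb0 _ (DFunLike.congr_fun h3 w)
    let P := {s : A // s ∈ R ∧ τ s = s}
    let M := {s : A // s ∈ R ∧ τ s = -s}
    have hPM : Nat.card P ≤ Nat.card M := by
      refine Nat.card_le_card_of_injective (fun s : P => (⟨s.1 * b0, R.mul_mem s.2.1 hb0R, by
        rw [map_mul, s.2.2, hτb0, mul_neg]⟩ : M)) ?_
      intro s t hst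
      exact Subtype.ext (hcancel _ s.2.1 _ t.2.1 (congrArg Subtype.val hst))
    have hMP : Nat.card M ≤ Nat.card P := by
      refine Nat.card_le_card_of_injective (fun s : M => (⟨s.1 * b0, R.mul_mem s.2.1 hb0R, by
        rw [map_mul, s.2.2, hτb0, neg_mul_neg]⟩ : P)) ?_
      intro s t hst
      exact Subtype.ext (hcancel _ s.2.1 _ t.2.1 (congrArg Subtype.val hst))
    have hR1 : Nat.card R ≤ Nat.card P * Nat.card M := by
      rw [← Nat.card_prod]
      refine Nat.card_le_card_of_injective (fun s : R => ((⟨s.1 + τ s.1, R.add_mem s.2 (hτR _ s.2), by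
        rw [map_add, hττ _ s.2, add_comm]⟩ : P), (⟨s.1 - τ s.1, R.sub_mem s.2 (hτR _ s.2), by
        rw [map_sub, hττ _ s.2, neg_sub]⟩ : M))) ?_
      intro s t hst
      have h3 : s.1 + τ s.1 = t.1 + τ t.1 := congrArg (fun z : P × M => z.1.1) hst
      have h4 : s.1 - τ s.1 = t.1 - τ t.1 := congrArg (fun z : P × M => z.2.1) hst
      apply Subtype.ext
      apply sub_eq_zero.mp
      apply h2A
      calc (s.1 - t.1) + (s.1 - t.1) = (s.1 + τ s.1) + (s.1 - τ s.1) - ((t.1 + τ t.1) + (t.1 - τ t.1)) := by abel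
        _ = 0 := by rw [h3, h4, sub_self]
    have hR2 : Nat.card P * Nat.card M ≤ Nat.card R := by
      rw [← Nat.card_prod]
      refine Nat.card_le_card_of_injective (fun z : P × M => (⟨z.1.1 + z.2.1, R.add_mem z.1.2.1 z.2.2.1⟩ : R)) ?_
      rintro ⟨a1, b1⟩ ⟨a2, b2⟩ hz
      have h3 : a1.1 + b1.1 = a2.1 + b2.1 := congrArg Subtype.val hz
      have h4 : a1.1 - b1.1 = a2.1 - b2.1 := by
        have := congrArg τ h3
        rwa [map_add, map_add, a1.2.2, b1.2.2, a2.2.2, b2.2.2, ← sub_eq_add_neg, ← sub_eq_add_neg] at this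
      have h5 : a1.1 = a2.1 := by
        apply sub_eq_zero.mp
        apply h2A
        calc (a1.1 - a2.1) + (a1.1 - a2.1) = (a1.1 + b1.1) + (a1.1 - b1.1) - ((a2.1 + b2.1) + (a2.1 - b2.1)) := by abel
          _ = 0 := by rw [h3, h4, sub_self]
      have h6 : b1.1 = b2.1 := by
        rw [h5] at h3
        exact add_left_cancel h3
      exact Prod.ext (Subtype.ext h5) (Subtype.ext h6)
    rw [← hcard]
    refine ⟨Nat.card P, ?_⟩
    have h5 : Nat.card P = Nat.card M := le_antisymm hPM hMP
    have h6 : Nat.card R = Nat.card P * Nat.card M := le_antisymm hR1 hR2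
    rw [h6, ← h5]
  have h3 := hfix (ρ a) (hρR a ha)
  rw [hτ] at h3
  have h4 : ρ h * ρ a = ρ a * ρ h := by
    have h5 : ρ h⁻¹ * ρ h = 1 := by rw [← map_mul, inv_mul_cancel, map_one]
    calc ρ h * ρ a = ρ h * ρ a * ρ h⁻¹ * ρ h := by
          rw [mul_assoc (ρ h * ρ a), h5, mul_one]
      _ = ρ a * ρ h := by rw [h3]
  exact DFunLike.congr_fun h4 x

/-- sign of the regular representation -/
noncomputable def cayleySign (H : Type u) [Group H] [Fintype H] [DecidableEq H] : H →* ℤˣ where
  toFun u := Equiv.Perm.sign (Equiv.mulRight u)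
  map_one' := by
    have : (Equiv.mulRight (1 : H)) = 1 := by ext x; simp
    rw [this, map_one]
  map_mul' := by
    intro u w
    have : Equiv.mulRight (u * w) = Equiv.mulRight w * Equiv.mulRight u := by
      ext x; simp [mul_assoc]
    rw [this, map_mul, mul_comm]

theorem cayleySign_map {H : Type u} [Group H] [Fintype H] [DecidableEq H] (φ : H ≃* H) (u : H) :
    cayleySign H (φ u) = cayleySign H u := by
  have : Equiv.mulRight (φ u) = φ.toEquiv.permCongr (Equiv.mulRight u) := by
    ext x; simp [Equiv.permCongr_apply]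
  show Equiv.Perm.sign (Equiv.mulRight (φ u)) = Equiv.Perm.sign (Equiv.mulRight u)
  rw [this, Equiv.Perm.sign_permCongr]

theorem cayleySign_eq {H : Type u} [Group H] [Fintype H] [DecidableEq H] (u : H) (hev : Even (orderOf u))
    (hodd : Odd (Subgroup.zpowers u).index) : cayleySign H u = -1 := by
  classical
  let C := Subgroup.zpowers u
  let u' : C := ⟨u, Subgroup.mem_zpowers u⟩
  let f : (H ⧸ C) × C ≃ H := Equiv.ofBijective (fun z => z.1.out * (z.2 : H)) (by
    constructor
    · rintro ⟨q, c⟩ ⟨q', c'⟩ h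
      have h1 : q.out * (c : H) = q'.out * (c' : H) := h
      have h2 : q = q' := by
        rw [← QuotientGroup.out_eq' q, ← QuotientGroup.out_eq' q', QuotientGroup.eq]
        have h3 : (q.out)⁻¹ * q'.out = (c : H) * (c' : H)⁻¹ := by
          rw [inv_mul_eq_iff_eq_mul, ← mul_assoc, h1]; group
        rw [h3]
        exact C.mul_mem c.2 (C.inv_mem c'.2)
      subst h2
      have h4 := mul_left_cancel h1
      rw [Subtype.ext h4]
    · intro x
      refine ⟨((x : H ⧸ C), ⟨((x : H ⧸ C).out)⁻¹ * x, ?_⟩), ?_⟩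
      · rw [← QuotientGroup.eq]; exact QuotientGroup.out_eq' _
      · show (x : H ⧸ C).out * (((x : H ⧸ C).out)⁻¹ * x) = x
        group)
  have hperm : Equiv.mulRight u = f.permCongr (Equiv.prodCongrRight (fun _ : H ⧸ C => Equiv.mulRight u')) := by
    ext x
    obtain ⟨⟨q, c⟩, rfl⟩ := f.surjective x
    rw [Equiv.permCongr_apply, Equiv.symm_apply_apply]
    show q.out * (c : H) * u = q.out * ((c * u' : C) : H)
    rw [mul_assoc]; rfl
  have hcyc : Equiv.Perm.sign (Equiv.mulRight u') = -1 := by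
    have hu1 : orderOf u ≠ 1 := by
      intro h
      rw [h] at hev
      exact absurd hev (by decide)
    have hmove : ∀ x : C, Equiv.mulRight u' x ≠ x := by
      intro x hx
      apply hu1
      rw [orderOf_eq_one_iff]
      have h1 : x * u' = x := hx
      exact congrArg Subtype.val (mul_eq_left.mp h1)
    have hic : (Equiv.mulRight u').IsCycle := by
      refine ⟨1, hmove 1, fun y _ => ?_⟩
      obtain ⟨k, hk⟩ := Subgroup.mem_zpowers_iff.mp y.2
      refine ⟨k, ?_⟩
      rw [Equiv.zpow_mulRight]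
      apply Subtype.ext
      show ((1 * u' ^ k : C) : H) = y
      rw [one_mul, ← hk]
      rfl
    have hsupp : (Equiv.mulRight u').support = Finset.univ := by
      ext x
      simp only [Equiv.Perm.mem_support, Finset.mem_univ, iff_true]
      exact hmove x
    rw [hic.sign, hsupp, Finset.card_univ]
    have h2 : Fintype.card C = orderOf u := by
      rw [← Nat.card_eq_fintype_card]; exact Nat.card_zpowers u
    rw [h2, hev.neg_one_pow]
  show Equiv.Perm.sign (Equiv.mulRight u) = -1
  rw [hperm, Equiv.Perm.sign_permCongr, Equiv.Perm.sign_prodCongrRight, Finset.prod_const, hcyc, Finset.card_univ,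
    ← Nat.card_eq_fintype_card]
  exact hodd.neg_one_pow

end Cfsg.Agent.H34
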