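import Cfsg.Agent.H34.McK1
import Cfsg.Agent.H34.Cusp1
import Cfsg.Agent.S2431
import Cfsg.Agent.S2437
import Cfsg.Agent.H14.QuatSylow
import Cfsg.Agent.H81.SL2Card

/-!
McKay for `SL₂(q)`, `q` odd.
-/

set_option autoImplicit false
set_option linter.unusedSectionVars false

namespace Cfsg.Agent.H34.McK

open Cfsg Cfsg.Agent.Char Cfsg.Agent.CharBase Cfsg.Agent.H39 Cfsg.Agent.H34.Deg Matrix
open Cfsg.Agent.H41 (tr NoEig tr_conj tr_inv tr_neg det_eq)
open scoped ComplexConjugate commutatorElement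

universe u v

section gen

theorem normalizer_equiv {G : Type u} [Group G] [Finite G] {ℓ : ℕ} [Fact ℓ.Prime] (S T : Sylow ℓ G) :
    Nonempty (Subgroup.normalizer ((S : Subgroup G) : Set G) ≃* Subgroup.normalizer ((T : Subgroup G) : Set G)) := by
  obtain ⟨t, rfl⟩ := MulAction.exists_smul_eq G S T
  have h : ((t • S : Sylow ℓ G) : Subgroup G) = (S : Subgroup G).map (MulAut.conj t).toMonoidHom := rfl
  have h2 := Subgroup.map_equiv_normalizer_eq (S : Subgroup G) (MulAut.conj t)
  rw [← h] at h2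
  exact ⟨((Subgroup.normalizer ((S : Subgroup G) : Set G)).equivMapOfInjective (MulAut.conj t).toMonoidHom (MulAut.conj t).injective).trans
    (MulEquiv.subgroupCongr h2)⟩

theorem not_dvd_index_normalizer {G : Type u} [Group G] [Finite G] {ℓ : ℕ} [Fact ℓ.Prime] (S : Sylow ℓ G) :
    ¬ ℓ ∣ ((S : Subgroup G).subgroupOf (Subgroup.normalizer ((S : Subgroup G) : Set G))).index := by
  intro h
  have h1 := Subgroup.relIndex_mul_index (Subgroup.le_normalizer (H := (S : Subgroup G)))
  have h2 : ¬ ℓ ∣ (S : Subgroup G).index := S.not_dvd_index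
  apply h2
  rw [← h1]
  exact Dvd.dvd.mul_right h _

/-- the `ℓ'`-degree characters of the normalizer of an abelian Sylow subgroup -/
theorem nl_normalizer_of_abelian {G : Type u} [Group G] [Finite G] {ℓ : ℕ} [Fact ℓ.Prime] (S : Sylow ℓ G)
    (hS : ∀ a ∈ S, ∀ b ∈ S, a * b = b * a) :
    nl ℓ (Subgroup.normalizer ((S : Subgroup G) : Set G)) = Nat.card (ConjClasses (Subgroup.normalizer ((S : Subgroup G) : Set G))) := by
  haveI : ((S : Subgroup G).subgroupOf (Subgroup.normalizer ((S : Subgroup G) : Set G))).Normal := Subgroup.normal_in_normalizer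
  refine nl_of_abelian ((S : Subgroup G).subgroupOf (Subgroup.normalizer ((S : Subgroup G) : Set G))) ?_ (not_dvd_index_normalizer S)
  intro a ha b hb
  exact Subtype.ext (hS a.1 ha b.1 hb)

theorem card_conjClasses_of_comm {M : Type u} [Group M] [Finite M] (h : ∀ a b : M, a * b = b * a) : Nat.card (ConjClasses M) = Nat.card M := by
  refine Nat.card_congr (Equiv.ofBijective (ConjClasses.mk : M → ConjClasses M) ⟨?_, ConjClasses.mk_surjective⟩).symm
  intro a b hab
  rw [ConjClasses.mk_eq_mk_iff_isConj, isConj_iff] at hab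
  obtain ⟨c, hc⟩ := hab
  rw [← hc, h c a, mul_inv_cancel_right]

theorem comm_of_card_conjClasses {M : Type u} [Group M] [Finite M] (h : Nat.card (ConjClasses M) = Nat.card M) (a b : M) : a * b = b * a := by
  classical
  haveI := Fintype.ofFinite M
  have h1 := card_comm_eq_card_conjClasses_mul_card M
  rw [h, ← Nat.card_prod] at h1
  have h2 : Function.Injective (Subtype.val : {p : M × M // Commute p.1 p.2} → M × M) := Subtype.val_injective
  have h3 : Function.Bijective (Subtype.val : {p : M × M // Commute p.1 p.2} → M × M) :=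
    (Nat.bijective_iff_injective_and_card _).2 ⟨h2, h1⟩
  obtain ⟨⟨p, hp⟩, hpe⟩ := h3.2 (a, b)
  have hpe' : p = (a, b) := hpe
  rw [hpe'] at hp
  exact hp

/-- a nonabelian group of order 12 with an abelian normal subgroup of index 3 has four classes -/
theorem card_conjClasses_twelve {M : Type u} [Group M] [Finite M] (h12 : Nat.card M = 12) (A : Subgroup M) [A.Normal]
    (hA : ∀ a ∈ A, ∀ b ∈ A, a * b = b * a) (hidx : A.index = 3) (hne : ¬ ∀ a b : M, a * b = b * a) : Nat.card (ConjClasses M) = 4 := by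
  classical
  haveI : Fintype (IrrCharacter M) := Fintype.ofFinite _
  have hdeg : ∀ χ : IrrCharacter M, charDegree (χ : M → ℂ) = 1 ∨ charDegree (χ : M → ℂ) = 3 := by
    intro χ
    have h1 := degree_dvd_index A hA χ
    rw [hidx] at h1
    exact (Nat.dvd_prime Nat.prime_three).1 h1
  have hsum : ∑ χ : IrrCharacter M, (charDegree (χ : M → ℂ)) ^ 2 = 12 := by
    have h1 := sum_sq_degree (G := M)
    rw [h12] at h1
    have h2 : ∀ χ : IrrCharacter M, (χ : M → ℂ) 1 ^ 2 = (((charDegree (χ : M → ℂ)) ^ 2 : ℕ) : ℂ) := by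
      intro χ
      rw [BlkC.charDegree_spec]; push_cast; rfl
    rw [Finset.sum_congr rfl fun χ _ => h2 χ, ← Nat.cast_sum] at h1
    exact_mod_cast h1
  have h3 : ∀ χ : IrrCharacter M, (charDegree (χ : M → ℂ)) ^ 2 = 1 + 8 * (if charDegree (χ : M → ℂ) = 3 then 1 else 0) := by
    intro χ
    rcases hdeg χ with h | h <;> rw [h] <;> norm_num
  rw [Finset.sum_congr rfl fun χ _ => h3 χ, Finset.sum_add_distrib, ← Finset.mul_sum, Finset.sum_const, Finset.card_univ, smul_eq_mul, mul_one] at hsum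
  have hk : Nat.card (ConjClasses M) = Fintype.card (IrrCharacter M) := by
    rw [← card_irr_eq_card_conjClasses, Nat.card_eq_fintype_card]
  rw [← hk] at hsum
  have h4 : Nat.card (ConjClasses M) ≠ 12 := by
    intro h
    exact hne (comm_of_card_conjClasses (by rw [h, h12]))
  omega

end gen

variable {F : Type*} [Field F] [Fintype F] [DecidableEq F] {k : ℕ} (D : OddData F k)

include D in
/-- counting by degree -/
theorem count_deg (P : ℕ → Prop) [DecidablePred P] :
    Nat.card {χ : IrrCharacter (SpecialLinearGroup (Fin 2) F) // P (charDegree (χ : SpecialLinearGroup (Fin 2) F → ℂ))} =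
      (if P 1 then 1 else 0) + (if P (2 * k + 1) then 1 else 0) + (if P (2 * k + 2) then (k - 1) else 0) +
      (if P (k + 1) then 2 else 0) + (if P (2 * k) then k else 0) + (if P k then 2 else 0) := by
  classical
  haveI : Fintype (IrrCharacter (SpecialLinearGroup (Fin 2) F)) := Fintype.ofFinite _
  have n1 := D.n1
  have n2 := D.n2
  have n3 : Nat.card {χ : IrrCharacter (SpecialLinearGroup (Fin 2) F) // D.a χ = 2} = k - 1 := by
    have := D.n3; omega
  have n4 := D.n4
  have n5 := D.n5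
  have n6 := D.n6
  have hs : ∀ (Q : IrrCharacter (SpecialLinearGroup (Fin 2) F) → Prop) [DecidablePred Q] (t : ℕ),
      ∑ χ : IrrCharacter (SpecialLinearGroup (Fin 2) F), (if Q χ then t else 0) = Nat.card {χ // Q χ} * t := by
    intro Q _ t
    rw [← Finset.sum_filter, Finset.sum_const, smul_eq_mul, Nat.card_eq_fintype_card, Fintype.card_subtype]
  rw [← mul_one (Nat.card {χ : IrrCharacter (SpecialLinearGroup (Fin 2) F) // P (charDegree (χ : SpecialLinearGroup (Fin 2) F → ℂ))}),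
    ← hs (fun χ => P (charDegree (χ : SpecialLinearGroup (Fin 2) F → ℂ)))]
  have key : ∀ χ : IrrCharacter (SpecialLinearGroup (Fin 2) F), (if P (charDegree (χ : SpecialLinearGroup (Fin 2) F → ℂ)) then 1 else 0) =
      (if D.a χ = 1 ∧ D.b χ + D.c χ = 0 then (if P 1 then 1 else 0) else 0) +
      (if D.a χ = 1 ∧ D.b χ + D.c χ = 2 then (if P (2 * k + 1) then 1 else 0) else 0) +
      (if D.a χ = 2 then (if P (2 * k + 2) then 1 else 0) else 0) +
      (if D.a χ = 1 ∧ D.b χ + D.c χ = 1 then (if P (k + 1) then 1 else 0) else 0) +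
      (if D.a χ = 0 ∧ D.b χ + D.c χ = 2 then (if P (2 * k) then 1 else 0) else 0) +
      (if D.a χ = 0 ∧ D.b χ + D.c χ = 1 then (if P k then 1 else 0) else 0) := by
    intro χ
    rw [charDegree_of_eq (D.deg χ)]
    rcases D.six χ with ⟨h, h'⟩ | ⟨h, h'⟩ | ⟨h, h'⟩ | ⟨h, h'⟩ | ⟨h, h'⟩ | ⟨h, h'⟩ <;> rw [h, h']
    · simp
    · rw [show 1 + 2 * k = 2 * k + 1 by ring]; simp
    · rw [show 2 + 2 * k = 2 * k + 2 by ring]; simp
    · rw [show 1 + 1 * k = k + 1 by ring]; simp
    · rw [show 0 + 2 * k = 2 * k by ring]; simp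
    · rw [show 0 + 1 * k = k by ring]; simp
  rw [Finset.sum_congr rfl fun χ _ => key χ]
  rw [Finset.sum_add_distrib, Finset.sum_add_distrib, Finset.sum_add_distrib, Finset.sum_add_distrib, Finset.sum_add_distrib,
    hs, hs, hs, hs, hs, hs, n1, n2, n3, n4, n5, n6]
  split_ifs <;> simp

/-- the normalizer of the unipotent Sylow subgroup -/
theorem normalizer_uSyl (p : ℕ) [Fact p.Prime] [CharP F p] :
    Subgroup.normalizer (((uSyl p : Sylow p (SpecialLinearGroup (Fin 2) F)) : Subgroup (SpecialLinearGroup (Fin 2) F)) : Set (SpecialLinearGroup (Fin 2) F)) =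
      (Cfsg.upperTriangularGL 2 F).comap Matrix.SpecialLinearGroup.toGL := by
  have hU : ∀ h : SpecialLinearGroup (Fin 2) F, h ∈ (uSyl p : Sylow p (SpecialLinearGroup (Fin 2) F)) ↔ (h 1 0 = 0 ∧ h 0 0 = 1 ∧ h 1 1 = 1) := by
    intro h
    constructor
    · rintro ⟨x, rfl⟩
      exact ⟨rfl, rfl, rfl⟩
    · rintro ⟨h1, h2, h3⟩
      have : h = uSL (h 0 1) := by
        apply H41.sl2_ext
        · exact h2
        · rfl
        · exact h1
        · exact h3
      rw [this]
      exact uSL_mem_uSyl p _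
  have hB : ∀ g : SpecialLinearGroup (Fin 2) F, g ∈ (Cfsg.upperTriangularGL 2 F).comap Matrix.SpecialLinearGroup.toGL ↔ g 1 0 = 0 := fun g => mem_B2 (inSL F)
  have hconj : ∀ g h : SpecialLinearGroup (Fin 2) F, g 1 0 = 0 → h ∈ (uSyl p : Sylow p (SpecialLinearGroup (Fin 2) F)) →
      g * h * g⁻¹ ∈ (uSyl p : Sylow p (SpecialLinearGroup (Fin 2) F)) := by
    intro g h hg hh
    rw [hU] at hh ⊢
    obtain ⟨h1, h2, h3⟩ := hh
    have hd := det_eq g
    rw [hg, mul_zero, sub_zero] at hd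
    refine ⟨?_, ?_, ?_⟩
    · simp only [H41.mul_10, H41.mul_00, H41.mul_11, H41.mul_01, H41.inv_00, H41.inv_01, H41.inv_10, H41.inv_11, h1, h2, h3, hg]
      ring
    · simp only [H41.mul_10, H41.mul_00, H41.mul_11, H41.mul_01, H41.inv_00, H41.inv_01, H41.inv_10, H41.inv_11, h1, h2, h3, hg]
      linear_combination hd
    · simp only [H41.mul_10, H41.mul_00, H41.mul_11, H41.mul_01, H41.inv_00, H41.inv_01, H41.inv_10, H41.inv_11, h1, h2, h3, hg]
      linear_combination hd
  ext g
  rw [hB, Subgroup.mem_normalizer_iff]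
  constructor
  · intro h
    have h1 := (h (uSL 1)).1 (uSL_mem_uSyl p 1)
    have h2 := ((hU _).1 h1).1
    simp only [H41.mul_10, H41.mul_00, H41.mul_11, H41.mul_01, H41.inv_00, H41.inv_01, H41.inv_10, H41.inv_11] at h2
    have e00 : (uSL (1 : F)) 0 0 = 1 := rfl
    have e01 : (uSL (1 : F)) 0 1 = 1 := rfl
    have e10 : (uSL (1 : F)) 1 0 = 0 := rfl
    have e11 : (uSL (1 : F)) 1 1 = 1 := rfl
    rw [e00, e01, e10, e11] at h2
    have h3 : g 1 0 * g 1 0 = 0 := by linear_combination -h2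
    exact mul_self_eq_zero.1 h3
  · intro hg h
    refine ⟨hconj g h hg, fun h1 => ?_⟩
    have hg' : g⁻¹ 1 0 = 0 := by rw [H41.inv_10, hg, neg_zero]
    have h2 := hconj g⁻¹ _ hg' h1
    have h3 : g⁻¹ * (g * h * g⁻¹) * g⁻¹⁻¹ = h := by group
    rwa [h3] at h2

theorem uSyl_comm (p : ℕ) [Fact p.Prime] [CharP F p] : ∀ a ∈ (uSyl p : Sylow p (SpecialLinearGroup (Fin 2) F)),
    ∀ b ∈ (uSyl p : Sylow p (SpecialLinearGroup (Fin 2) F)), a * b = b * a := by
  rintro _ ⟨x, rfl⟩ _ ⟨y, rfl⟩
  rw [← map_mul, ← map_mul, mul_comm]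

include D in
/-- defining characteristic -/
theorem mckay_defining (p : ℕ) [Fact p.Prime] [CharP F p] (S : Sylow p (SpecialLinearGroup (Fin 2) F)) :
    nl p (SpecialLinearGroup (Fin 2) F) = nl p (Subgroup.normalizer ((S : Subgroup (SpecialLinearGroup (Fin 2) F)) : Set (SpecialLinearGroup (Fin 2) F))) := by
  obtain ⟨e⟩ := normalizer_equiv S (uSyl p)
  rw [nl_equiv p e, nl_normalizer_of_abelian (uSyl p) (uSyl_comm p), normalizer_uSyl, S2437.result ⟨k, D.hk⟩, nl, count_deg D (fun d => ¬ p ∣ d)]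
  have hk := D.hk
  have hk0 := D.k_pos
  have hp : p.Prime := Fact.out
  have h1 : ¬ p ∣ 1 := fun h => hp.one_lt.ne' (Nat.dvd_one.1 h)
  have h2 : p ∣ 2 * k + 1 := by rw [← hk]; exact p_dvd_card p
  have h3 : ¬ p ∣ 2 * k + 2 := by
    have := not_dvd_card_add_one (F := F) p
    rwa [hk] at this
  have h4 : ¬ p ∣ 2 * k := by
    have := not_dvd_card_sub_one (F := F) p
    rwa [hk, Nat.add_sub_cancel] at this
  have h5 : ¬ p ∣ k + 1 := fun h => h3 (by rw [show 2 * k + 2 = 2 * (k + 1) by ring]; exact Dvd.dvd.mul_left h 2)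
  have h6 : ¬ p ∣ k := fun h => h4 (Dvd.dvd.mul_left h 2)
  rw [if_pos h1, if_neg (not_not.2 h2), if_pos h3, if_pos h4, if_pos h5, if_pos h6]
  omega

end Cfsg.Agent.H34.McK
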