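import Cfsg.Agent.H34.McK2

/-!
McKay for `SL₂(q)`, `q` odd: odd primes not dividing `q`.
-/

set_option autoImplicit false
set_option linter.unusedSectionVars false

namespace Cfsg.Agent.H34.McK

open Cfsg Cfsg.Agent.Char Cfsg.Agent.CharBase Cfsg.Agent.H39 Cfsg.Agent.H34.Deg Matrix
open Cfsg.Agent.H41 (tr NoEig tr_conj tr_inv tr_neg det_eq centralizer_of_eig centralizer_of_noEig sylow_torus
  tr_sq_ne_four_of_orderOf torus_card_conjClasses)
open scoped ComplexConjugate commutatorElement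

universe u v

variable {F : Type*} [Field F] [Fintype F] [DecidableEq F]

/-- the torus case -/
theorem nl_torus (h2 : (2 : F) ≠ 0) (p : ℕ) [Fact p.Prime] [CharP F p] (ℓ : ℕ) [hl : Fact ℓ.Prime] (hℓ : ℓ ≠ 2)
    (P : Sylow ℓ (SpecialLinearGroup (Fin 2) F)) (z : SpecialLinearGroup (Fin 2) F)
    (hz4 : tr z ^ 2 ≠ 4) (hzP : z ∈ P) (hzc : ∀ g ∈ P, g * z = z * g)
    (hcyc : IsCyclic (Subgroup.centralizer ({z} : Set (SpecialLinearGroup (Fin 2) F)))) (m : ℕ)
    (hm : Nat.card (Subgroup.centralizer ({z} : Set (SpecialLinearGroup (Fin 2) F))) = 2 * m)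
    (hp : ¬ p ∣ 2 * m) (hℓm : ℓ ∣ 2 * m) :
    nl ℓ (Subgroup.normalizer ((P : Subgroup (SpecialLinearGroup (Fin 2) F)) : Set (SpecialLinearGroup (Fin 2) F))) = m + 3 := by
  obtain ⟨h5, h6⟩ := sylow_torus h2 P z hz4 hzP hzc hcyc
  set T := Subgroup.centralizer ({z} : Set (SpecialLinearGroup (Fin 2) F)) with hT
  have hTcomm : ∀ a ∈ T, ∀ b ∈ T, a * b = b * a := by
    intro a ha b hb
    have := (IsCyclic.isMulCommutative (α := T)).is_comm.comm ⟨a, ha⟩ ⟨b, hb⟩
    exact congrArg Subtype.val this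
  have hPT : ∀ g ∈ P, g ∈ T := by
    intro g hg
    rw [hT, Subgroup.mem_centralizer_singleton_iff]
    exact hzc g hg
  have hzT : z ∈ T := hPT z hzP
  rw [nl_normalizer_of_abelian P (fun a ha b hb => hTcomm a (hPT a ha) b (hPT b hb)), h6]
  obtain ⟨t, ht⟩ := hcyc.exists_generator
  have hgen : ∀ s ∈ T, s ∈ Subgroup.zpowers (t : SpecialLinearGroup (Fin 2) F) := by
    intro s hs
    obtain ⟨j, hj⟩ := ht ⟨s, hs⟩
    exact ⟨j, congrArg Subtype.val hj⟩
  have hC : Subgroup.centralizer ({(t : SpecialLinearGroup (Fin 2) F)} : Set (SpecialLinearGroup (Fin 2) F)) = T := by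
    apply le_antisymm
    · intro x hx
      rw [Subgroup.mem_centralizer_singleton_iff] at hx
      rw [hT, Subgroup.mem_centralizer_singleton_iff]
      obtain ⟨j, hj⟩ := hgen z hzT
      simp only at hj
      rw [← hj]
      exact (Commute.zpow_right (show Commute x (t : SpecialLinearGroup (Fin 2) F) from hx) j).eq
    · intro x hx
      rw [Subgroup.mem_centralizer_singleton_iff]
      exact hTcomm x hx t t.2
  have hord : orderOf (t : SpecialLinearGroup (Fin 2) F) = 2 * m := by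
    rw [Subgroup.orderOf_coe, orderOf_eq_card_of_forall_mem_zpowers ht, hm]
  have htr : tr (t : SpecialLinearGroup (Fin 2) F) ^ 2 ≠ 4 := by
    intro h
    have h7 := central_of_tr (p := p) h2 h (by rw [hord]; exact hp)
    have h8 : (t : SpecialLinearGroup (Fin 2) F) ^ 2 = 1 := by
      rcases h7 with h | h
      · rw [h, one_pow]
      · rw [h, sq, neg_one_mul, neg_neg]
    have h9 := orderOf_dvd_of_pow_eq_one h8
    rw [hord] at h9
    exact hℓ ((Nat.prime_dvd_prime_iff_eq hl.out Nat.prime_two).1 (hℓm.trans h9))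
  exact torus_card_conjClasses h2 T t htr hC hgen m hm

variable {k : ℕ} (D : OddData F k)

include D in
theorem mckay_odd (p : ℕ) [Fact p.Prime] [CharP F p] (ℓ : ℕ) [hl : Fact ℓ.Prime] (hℓ : ℓ ≠ 2) (hne : ℓ ≠ p)
    (hdG : ℓ ∣ Nat.card (SpecialLinearGroup (Fin 2) F)) (P : Sylow ℓ (SpecialLinearGroup (Fin 2) F)) :
    nl ℓ (SpecialLinearGroup (Fin 2) F) = nl ℓ (Subgroup.normalizer ((P : Subgroup (SpecialLinearGroup (Fin 2) F)) : Set (SpecialLinearGroup (Fin 2) F))) := by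
  have h2 : (2 : F) ≠ 0 := two_ne_zero_of (ringChar_ne_two_of_odd ⟨k, D.hk⟩)
  have hk := D.hk
  have hk0 := D.k_pos
  have hℓp : ℓ.Prime := Fact.out
  obtain ⟨z, hzP, hzo, hzc⟩ : ∃ z ∈ P, orderOf z = ℓ ∧ ∀ g ∈ P, g * z = z * g := by
    have hPn : Nontrivial P := by
      haveI : Finite P := inferInstance
      rw [← Finite.one_lt_card_iff_nontrivial]
      have h1 := P.dvd_card_of_dvd_card hdG
      exact lt_of_lt_of_le hℓp.one_lt (Nat.le_of_dvd Nat.card_pos h1)
    have hc := P.isPGroup'.center_nontrivial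
    have hcp : IsPGroup ℓ (Subgroup.center P) := P.isPGroup'.to_subgroup _
    haveI : Finite (Subgroup.center P) := inferInstance
    have hd : ℓ ∣ Nat.card (Subgroup.center P) := by
      obtain ⟨k, hk⟩ := hcp.exists_card_eq
      have : 1 < Nat.card (Subgroup.center P) := Finite.one_lt_card_iff_nontrivial.mpr hc
      rw [hk] at this ⊢
      apply dvd_pow_self
      rintro rfl
      simp at this
    obtain ⟨z, hz⟩ := exists_prime_orderOf_dvd_card' ℓ hd
    refine ⟨z.1.1, z.1.2, ?_, ?_⟩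
    · rw [Subgroup.orderOf_coe, Subgroup.orderOf_coe]; exact hz
    · intro g hg
      have h3 := Subgroup.mem_center_iff.mp z.2 ⟨g, hg⟩
      exact congrArg Subtype.val h3
  have hz4 := tr_sq_ne_four_of_orderOf (p := p) hℓ hne z hzo
  have hzT : orderOf z ∣ Nat.card (Subgroup.centralizer ({z} : Set (SpecialLinearGroup (Fin 2) F))) :=
    Subgroup.orderOf_dvd_natCard _ (by rw [Subgroup.mem_centralizer_singleton_iff])
  rw [hzo] at hzT
  have hcop : Nat.Coprime ℓ 2 := (Nat.coprime_primes hℓp Nat.prime_two).2 hℓ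
  have hn1 : ¬ ℓ ∣ 1 := fun h => hℓp.one_lt.ne' (Nat.dvd_one.1 h)
  have hn2 : ¬ ℓ ∣ 2 := fun h => hℓ ((Nat.prime_dvd_prime_iff_eq hℓp Nat.prime_two).1 h)
  by_cases hroot : ∃ a : F, a ^ 2 - tr z * a + 1 = 0
  · obtain ⟨a, ha⟩ := hroot
    obtain ⟨hcyc, hcard⟩ := centralizer_of_eig z hz4 a ha
    have hcard' : Nat.card (Subgroup.centralizer ({z} : Set (SpecialLinearGroup (Fin 2) F))) = 2 * k := by
      rw [hcard, Nat.card_eq_fintype_card, hk]; omega
    rw [hcard'] at hzT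
    have hpk : ¬ p ∣ 2 * k := by
      have := not_dvd_card_sub_one (F := F) p
      rwa [hk, Nat.add_sub_cancel] at this
    rw [nl_torus h2 p ℓ hℓ P z hz4 hzP hzc hcyc k hcard' hpk hzT, nl, count_deg D (fun d => ¬ ℓ ∣ d)]
    have hlk : ℓ ∣ k := hcop.dvd_of_dvd_mul_left hzT
    have e1 : ¬ ℓ ∣ 2 * k + 1 := fun h => hn1 ((Nat.dvd_add_right hzT).1 h)
    have e2 : ¬ ℓ ∣ 2 * k + 2 := fun h => hn2 ((Nat.dvd_add_right hzT).1 h)
    have e3 : ¬ ℓ ∣ k + 1 := fun h => hn1 ((Nat.dvd_add_right hlk).1 h)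
    rw [if_pos hn1, if_pos e1, if_pos e2, if_pos e3, if_neg (not_not.2 hzT), if_neg (not_not.2 hlk)]
    omega
  · push Not at hroot
    obtain ⟨hcyc, hcard⟩ := centralizer_of_noEig z hroot
    have hcard' : Nat.card (Subgroup.centralizer ({z} : Set (SpecialLinearGroup (Fin 2) F))) = 2 * (k + 1) := by
      rw [hcard, Nat.card_eq_fintype_card, hk]; omega
    rw [hcard'] at hzT
    have hpk : ¬ p ∣ 2 * (k + 1) := by
      have := not_dvd_card_add_one (F := F) p
      rw [hk] at this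
      rwa [show 2 * (k + 1) = 2 * k + 1 + 1 by ring]
    rw [nl_torus h2 p ℓ hℓ P z hz4 hzP hzc hcyc (k + 1) hcard' hpk hzT, nl, count_deg D (fun d => ¬ ℓ ∣ d)]
    have hlk : ℓ ∣ k + 1 := hcop.dvd_of_dvd_mul_left hzT
    have hzT' : ℓ ∣ 2 * k + 2 := by rw [show 2 * k + 2 = 2 * (k + 1) by ring]; exact hzT
    have e1 : ¬ ℓ ∣ 2 * k + 1 := fun h => hn1 (by
      have := (Nat.dvd_sub hzT' h)
      rwa [show 2 * k + 2 - (2 * k + 1) = 1 by omega] at this)
    have e2 : ¬ ℓ ∣ 2 * k := fun h => hn2 ((Nat.dvd_add_right h).1 hzT')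
    have e3 : ¬ ℓ ∣ k := fun h => hn1 ((Nat.dvd_add_right h).1 hlk)
    rw [if_pos hn1, if_pos e1, if_neg (not_not.2 hzT'), if_neg (not_not.2 hlk), if_pos e2, if_pos e3]
    omega

end Cfsg.Agent.H34.McK
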