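import Cfsg.Agent.H34.McK3

/-!
McKay for `SL₂(q)`, `q` odd: the prime two and the main theorem.
-/

set_option autoImplicit false
set_option linter.unusedSectionVars false

namespace Cfsg.Agent.H34.McK

open Cfsg Cfsg.Agent.Char Cfsg.Agent.CharBase Cfsg.Agent.H39 Cfsg.Agent.H34.Deg Matrix
open scoped ComplexConjugate commutatorElement

universe u v

theorem orderOf_a_two {m : ℕ} [NeZero m] (hm : 2 ≤ m) : orderOf (QuaternionGroup.a 2 : QuaternionGroup m) = m := by
  rw [QuaternionGroup.orderOf_a]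
  haveI : NeZero (2 * m) := ⟨by omega⟩
  have h1 : (2 : ZMod (2 * m)).val = 2 := by
    have h2 : (2 : ZMod (2 * m)) = ((2 : ℕ) : ZMod (2 * m)) := by push_cast; rfl
    rw [h2, ZMod.val_natCast, Nat.mod_eq_of_lt (by omega)]
  rw [h1]
  have h3 : Nat.gcd (2 * m) 2 = 2 := by
    rw [Nat.gcd_eq_right]; exact ⟨m, rfl⟩
  rw [h3]; omega

theorem card_comm_quat {N : Type u} [Group N] (S : Subgroup N) {m : ℕ} [NeZero m] (hm : 2 ≤ m) (e : S ≃* QuaternionGroup m) :
    Nat.card (⁅S, S⁆ : Subgroup N) = m := by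
  rw [Cfsg.Agent.H14.QuatSylow.D_eq_zpowers S m e, Nat.card_zpowers, Subgroup.orderOf_coe, MulEquiv.orderOf_eq, orderOf_a_two hm]

theorem sq_of_card_two {A : Type*} [Group A] [Finite A] (h : Nat.card A = 2) (x : A) : x ^ 2 = 1 := by
  rw [← h]; exact pow_card_eq_one'

theorem anti_comm {R : Type*} [Monoid R] [HasDistribNeg R] {t s : R} (ht : t * t * t = 1) (h : s * t = -(t * s)) : s = -s := by
  have e2 : s * (t * t) = t * t * s := by
    rw [← mul_assoc, h, neg_mul, mul_assoc t s t, h, mul_neg, neg_neg, mul_assoc]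
  have e3 : s * (t * t * t) = -(t * t * t * s) := by
    rw [← mul_assoc s, e2, mul_assoc (t * t) s t, h, mul_neg, ← mul_assoc (t * t) t s]
  rw [ht, mul_one, one_mul] at e3
  exact e3

variable {F : Type*} [Field F] [Fintype F] [DecidableEq F] {k : ℕ} (D : OddData F k)

include D in
theorem mckay_two (P : Sylow 2 (SpecialLinearGroup (Fin 2) F)) :
    nl 2 (SpecialLinearGroup (Fin 2) F) = nl 2 (Subgroup.normalizer ((P : Subgroup (SpecialLinearGroup (Fin 2) F)) : Set (SpecialLinearGroup (Fin 2) F))) := by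
  have h2 : (2 : F) ≠ 0 := two_ne_zero_of (ringChar_ne_two_of_odd ⟨k, D.hk⟩)
  have hodd : Odd (Fintype.card F) := ⟨k, D.hk⟩
  have hk := D.hk
  have hk0 := D.k_pos
  obtain ⟨hcen, hN1, hN3⟩ := S2431.result hodd P
  obtain ⟨j, hj, hfac, hdvd, ⟨e⟩⟩ := H81.sylow_two_sl2 hodd P
  haveI : NeZero (2 ^ j) := ⟨by positivity⟩
  have hm2 : 2 ≤ 2 ^ j := by
    calc 2 = 2 ^ 1 := by norm_num
      _ ≤ 2 ^ j := Nat.pow_le_pow_right (by norm_num) hj
  -- the count in `G`
  have hG : nl 2 (SpecialLinearGroup (Fin 2) F) = 4 := by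
    rw [nl, count_deg D (fun d => ¬ 2 ∣ d), if_pos (by omega), if_pos (by omega), if_neg (by omega)]
    rcases Nat.even_or_odd k with h | h
    · obtain ⟨i, rfl⟩ := h
      rw [if_pos (by omega), if_neg (by omega), if_neg (by omega)]
    · obtain ⟨i, rfl⟩ := h
      rw [if_neg (by omega), if_neg (by omega), if_pos (by omega)]
  rw [hG]
  set N := Subgroup.normalizer ((P : Subgroup (SpecialLinearGroup (Fin 2) F)) : Set (SpecialLinearGroup (Fin 2) F)) with hN
  set S : Subgroup N := (P : Subgroup (SpecialLinearGroup (Fin 2) F)).subgroupOf N with hS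
  haveI hSn : S.Normal := Subgroup.normal_in_normalizer
  have hle : (P : Subgroup (SpecialLinearGroup (Fin 2) F)) ≤ N := Subgroup.le_normalizer
  let eS : S ≃* P := Subgroup.subgroupOfEquivOfLe hle
  have hSp : IsPGroup 2 S := P.2.of_equiv eS.symm
  rw [nl_of_normal_sylow S hSp (not_dvd_index_normalizer P)]
  have hcomm : Nat.card (⁅S, S⁆ : Subgroup N) = 2 ^ j := card_comm_quat S hm2 (eS.trans e)
  have hcardP : Nat.card P = 2 ^ (j + 2) := by rw [P.card_eq_multiplicity, hfac]
  have hcardS : Nat.card S = 2 ^ (j + 2) := by rw [Nat.card_congr eS.toEquiv, hcardP]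
  have hquot := Subgroup.card_eq_card_quotient_mul_card_subgroup (⁅S, S⁆ : Subgroup N)
  rw [hcomm] at hquot
  have hpos : 0 < 2 ^ j := by positivity
  have hmod : (Fintype.card F % 8 = 1 ∨ Fintype.card F % 8 = 7) ∨ (Fintype.card F % 8 = 3 ∨ Fintype.card F % 8 = 5) := by omega
  rcases hmod with hmod | hmod
  · have hNP := hN1 hmod
    have hcN : Nat.card N = 2 ^ (j + 2) := by rw [hNP]; exact hcardP
    have hq : Nat.card (N ⧸ (⁅S, S⁆ : Subgroup N)) = 2 ^ 2 := by
      rw [hcN, pow_add] at hquot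
      exact (Nat.eq_of_mul_eq_mul_right hpos (by rw [← hquot]; ring)).symm
    haveI : Fact (Nat.Prime 2) := ⟨Nat.prime_two⟩
    rw [card_conjClasses_of_comm (IsPGroup.commutative_of_card_eq_prime_sq (p := 2) hq), hq]
    norm_num
  · have hNP := hN3 hmod
    have hcN : Nat.card N = 3 * 2 ^ (j + 2) := by rw [← hcardP]; exact hNP
    have hq : Nat.card (N ⧸ (⁅S, S⁆ : Subgroup N)) = 12 := by
      rw [hcN, pow_add] at hquot
      exact (Nat.eq_of_mul_eq_mul_right hpos (by rw [← hquot]; ring)).symm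
    -- `j = 1`
    have hj1 : j = 1 := by
      by_contra hne
      have hj2 : 2 ≤ j := by omega
      have h8 : 8 ∣ 2 * 2 ^ j := by
        rw [← pow_succ']
        exact (pow_dvd_pow 2 (show 3 ≤ j + 1 by omega))
      rcases hdvd with h | h
      · have := h8.trans h
        omega
      · have := h8.trans h
        omega
    subst hj1
    symm
    haveI hAn : (S.map (QuotientGroup.mk' (⁅S, S⁆ : Subgroup N))).Normal := hSn.map _ (QuotientGroup.mk'_surjective _)
    refine card_conjClasses_twelve hq (S.map (QuotientGroup.mk' (⁅S, S⁆ : Subgroup N))) ?_ ?_ ?_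
    · rintro _ ⟨a, ha, rfl⟩ _ ⟨b, hb, rfl⟩
      rw [← map_mul, ← map_mul]
      show ((a * b : N) : N ⧸ (⁅S, S⁆ : Subgroup N)) = ((b * a : N) : N ⧸ (⁅S, S⁆ : Subgroup N))
      rw [eq_comm, QuotientGroup.eq]
      have h5 : (b * a)⁻¹ * (a * b) = ⁅a⁻¹, b⁻¹⁆ := by
        rw [commutatorElement_def]; group
      rw [h5]
      exact Subgroup.commutator_mem_commutator (S.inv_mem ha) (S.inv_mem hb)
    · rw [Subgroup.index_map, QuotientGroup.ker_mk', sup_eq_left.2 (Subgroup.commutator_le_left S S),
        MonoidHom.range_eq_top.2 (QuotientGroup.mk'_surjective _), Subgroup.index_top, mul_one]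
      have h6 := S.card_mul_index
      rw [hcardS, hcN, mul_comm 3] at h6
      exact Nat.eq_of_mul_eq_mul_left (by positivity) h6
    · intro hab
      haveI : Fact (Nat.Prime 3) := ⟨Nat.prime_three⟩
      obtain ⟨t, ht⟩ := exists_prime_orderOf_dvd_card' (G := N) 3 ⟨_, hcN⟩
      have hQ : ∀ x ∈ (⁅S, S⁆ : Subgroup N), (x : SpecialLinearGroup (Fin 2) F) = 1 ∨ (x : SpecialLinearGroup (Fin 2) F) = -1 := by
        intro x hx
        apply sl2_sq_one h2
        have h6 : (⟨x, hx⟩ : (⁅S, S⁆ : Subgroup N)) ^ 2 = 1 := sq_of_card_two (by rw [hcomm]; norm_num) _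
        have h7 : x ^ 2 = 1 := congrArg Subtype.val h6
        have h8 : ((x ^ 2 : N) : SpecialLinearGroup (Fin 2) F) = 1 := by rw [h7]; rfl
        rw [sq] at h8
        exact h8
      have ht3 : (t : SpecialLinearGroup (Fin 2) F) * t * t = 1 := by
        have h6 : t ^ 3 = 1 := by rw [← ht]; exact pow_orderOf_eq_one t
        have h7 : ((t ^ 3 : N) : SpecialLinearGroup (Fin 2) F) = 1 := by rw [h6]; rfl
        rw [← h7, pow_succ, pow_succ, pow_one]
        rfl
      have hcent : (t : SpecialLinearGroup (Fin 2) F) ∈ Subgroup.centralizer ((P : Subgroup (SpecialLinearGroup (Fin 2) F)) : Set (SpecialLinearGroup (Fin 2) F)) := by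
        rw [Subgroup.mem_centralizer_iff]
        intro s hs
        have hsN : s ∈ N := hle hs
        have h6 : ((t * ⟨s, hsN⟩ : N) : N ⧸ (⁅S, S⁆ : Subgroup N)) = ((⟨s, hsN⟩ * t : N) : N ⧸ (⁅S, S⁆ : Subgroup N)) := by
          rw [QuotientGroup.mk_mul, QuotientGroup.mk_mul]
          exact hab _ _
        rw [QuotientGroup.eq] at h6
        have h7 : ((((t * ⟨s, hsN⟩ : N))⁻¹ * (⟨s, hsN⟩ * t : N) : N) : SpecialLinearGroup (Fin 2) F) =
            ((t : SpecialLinearGroup (Fin 2) F) * s)⁻¹ * (s * t) := rfl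
        rcases hQ _ h6 with h8 | h8
        · rw [h7, inv_mul_eq_one] at h8
          exact h8.symm
        · exfalso
          rw [h7] at h8
          have h9 : s * (t : SpecialLinearGroup (Fin 2) F) = -((t : SpecialLinearGroup (Fin 2) F) * s) := by
            rw [inv_mul_eq_iff_eq_mul] at h8
            rw [h8, mul_neg_one]
          have h10 : s = -s := anti_comm ht3 h9
          have e00 := congrArg (fun M : SpecialLinearGroup (Fin 2) F => M 0 0) h10
          have e10 := congrArg (fun M : SpecialLinearGroup (Fin 2) F => M 1 0) h10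
          have f00 : s 0 0 = -s 0 0 := e00
          have f10 : s 1 0 = -s 1 0 := e10
          have g00 : s 0 0 = 0 := by
            have : (2 : F) * s 0 0 = 0 := by linear_combination f00
            exact (mul_eq_zero.mp this).resolve_left h2
          have g10 : s 1 0 = 0 := by
            have : (2 : F) * s 1 0 = 0 := by linear_combination f10
            exact (mul_eq_zero.mp this).resolve_left h2
          have hd := H41.det_eq s
          rw [g00, g10] at hd
          simp at hd
      rw [hcen] at hcent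
      have h11 : t * t = 1 := by
        apply Subtype.ext
        show (t : SpecialLinearGroup (Fin 2) F) * t = 1
        rcases center_sl hcent with h | h
        · rw [h, one_mul]
        · rw [h, neg_one_mul, neg_neg]
      have h12 := orderOf_dvd_of_pow_eq_one (show t ^ 2 = 1 by rw [sq]; exact h11)
      rw [ht] at h12
      omega

theorem mckay_triv {ℓ : ℕ} [hl : Fact ℓ.Prime] {G : Type u} [Group G] [Finite G] (hd : ¬ ℓ ∣ Nat.card G) (P : Sylow ℓ G) :
    nl ℓ G = nl ℓ (Subgroup.normalizer ((P : Subgroup G) : Set G)) := by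
  have h1 : (P : Subgroup G) = ⊥ := by
    apply Subgroup.eq_bot_of_card_eq
    rw [P.card_eq_multiplicity, Nat.factorization_eq_zero_of_not_dvd hd, pow_zero]
  have h2 : Subgroup.normalizer ((P : Subgroup G) : Set G) = ⊤ := by
    rw [Subgroup.eq_top_iff']
    intro g
    rw [Subgroup.mem_normalizer_iff]
    intro h
    rw [h1, Subgroup.mem_bot, Subgroup.mem_bot]
    constructor
    · rintro rfl; simp
    · intro h3
      have : h = g⁻¹ * (g * h * g⁻¹) * g := by group
      rw [this, h3]; simp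
  exact nl_equiv ℓ ((MulEquiv.subgroupCongr h2).trans Subgroup.topEquiv).symm

end Cfsg.Agent.H34.McK
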