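import Cfsg.Agent.H34.Sharp3

/-!
Near-fields with the involutory automorphism `S` attached to a sharply 3-transitive group.
-/

set_option autoImplicit false
set_option linter.unusedSectionVars false

namespace Cfsg.Agent.H34

universe u v

/-- near-field with automorphism `S` satisfying the Tits identity -/
structure NFS (F : Type u) [I : Cfsg.NearField F] where
  S : F → F
  S0 : S 0 = 0
  Sne : ∀ x, x ≠ 0 → S x ≠ 0
  SS : ∀ x, S (S x) = x
  S1 : S 1 = 1
  Smul : ∀ x y, S (x * y) = S x * S y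
  Sfix : ∀ x, x ≠ 0 → S x = x → x = 1 ∨ x = -1
  Sid : ∀ x, x ≠ 0 → 1 + x ≠ 0 → S (1 + x) = 1 + -(S (1 + S x))

section

variable {F : Type u} [Cfsg.NearField F] [Finite F] (T : NFS F)

theorem NFS.Sm1 : T.S (-1) = -1 := by
  have h2 : T.S (-1) * T.S (-1) = 1 := by rw [← T.Smul, nf_neg_one_mul_self, T.S1]
  rcases nf_sq_eq_one h2 with h3 | h3
  · have : (-1 : F) = 1 := by rw [← T.SS (-1), h3, T.S1]
    rw [this, T.S1]
  · exact h3

theorem NFS.Sneg (x : F) : T.S (-x) = - T.S x := by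
  rw [← nf_mul_neg_one, T.Smul, T.Sm1, nf_mul_neg_one]

/-- the automorphism of the unit group -/
def NFS.phi : Fˣ →* Fˣ := Units.map { toFun := T.S, map_one' := T.S1, map_mul' := T.Smul }

theorem NFS.phi_val (u : Fˣ) : ((T.phi u : Fˣ) : F) = T.S u := rfl

theorem NFS.phi_phi (u : Fˣ) : T.phi (T.phi u) = u := Units.ext (T.SS _)

/-- The additive group is commutative. -/
@[reducible] def nfACG (F : Type u) [I : Cfsg.NearField F] [Finite F] : AddCommGroup F :=
  { I.toAddGroup with add_comm := nf_add_comm }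

theorem nf_unit_ne (u : Fˣ) : (u : F) ≠ 0 := by
  intro hu
  have h1 := u.inv_mul
  rw [hu, Cfsg.NearField.mul_zero] at h1
  exact Cfsg.NearField.zero_ne_one h1

theorem nf_exists_unit {x : F} (hx : x ≠ 0) : ∃ u : Fˣ, (u : F) = x := by
  obtain ⟨y, h1, h2⟩ := Cfsg.NearField.exists_inv x hx
  exact ⟨⟨x, y, h1, h2⟩, rfl⟩

theorem nf_card_units : Nat.card Fˣ = Nat.card F - 1 := by
  classical
  have : Fintype F := Fintype.ofFinite F
  have e : Fˣ ≃ {x : F // x ≠ 0} := Equiv.ofBijective (fun u => ⟨u, nf_unit_ne u⟩)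
    ⟨fun u w h => Units.ext (congrArg Subtype.val h), fun x => by
      obtain ⟨u, hu⟩ := nf_exists_unit x.2
      exact ⟨u, Subtype.ext hu⟩⟩
  rw [Nat.card_congr e, Nat.card_eq_fintype_card, Fintype.card_subtype_compl, Fintype.card_subtype_eq,
    Nat.card_eq_fintype_card]

/-- minus one as a unit -/
def nf_neg_one_unit (F : Type u) [Cfsg.NearField F] : Fˣ := ⟨-1, -1, by rw [nf_neg_mul, one_mul, neg_neg],
  by rw [nf_neg_mul, one_mul, neg_neg]⟩

theorem NFS.fix (u : Fˣ) (hu : T.phi u = u) : u = 1 ∨ u = nf_neg_one_unit F := by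
  rcases T.Sfix u (nf_unit_ne u) (congrArg Units.val hu) with h | h
  · left; exact Units.ext h
  · right; exact Units.ext h

theorem NFS.card_fix : Nat.card (MonoidHom.eqLocus T.phi (MonoidHom.id Fˣ)) ≤ 2 := by
  classical
  have hsub : ((MonoidHom.eqLocus T.phi (MonoidHom.id Fˣ) : Subgroup Fˣ) : Set Fˣ) ⊆ {1, nf_neg_one_unit F} := by
    intro u hu
    exact T.fix u hu
  calc Nat.card (MonoidHom.eqLocus T.phi (MonoidHom.id Fˣ)) = ((MonoidHom.eqLocus T.phi (MonoidHom.id Fˣ) : Subgroup Fˣ) : Set Fˣ).ncard := rfl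
    _ ≤ ({1, nf_neg_one_unit F} : Set Fˣ).ncard := Set.ncard_le_ncard hsub (Set.toFinite _)
    _ ≤ 2 := (Set.ncard_insert_le _ _).trans (by rw [Set.ncard_singleton])

/-- If all `φ(u) u⁻¹` lie in a subgroup `C` then `C` has index at most two. -/
theorem NFS.index_le_two (C : Subgroup Fˣ) (hC : ∀ u, T.phi u * u⁻¹ ∈ C) : C.index ≤ 2 := by
  classical
  let E := MonoidHom.eqLocus T.phi (MonoidHom.id Fˣ)
  have hE : ∀ u, u ∈ E ↔ T.phi u = u := fun u => Iff.rfl
  let f : Fˣ ⧸ E → C := Quotient.lift (s := QuotientGroup.leftRel E) (fun u => (⟨T.phi u * u⁻¹, hC u⟩ : C)) (by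
    intro u w h
    have h1 : u⁻¹ * w ∈ E := QuotientGroup.leftRel_apply.mp h
    rw [hE, map_mul, map_inv] at h1
    apply Subtype.ext
    show T.phi u * u⁻¹ = T.phi w * w⁻¹
    have h2 : T.phi w = T.phi u * (u⁻¹ * w) := by rw [← h1]; group
    rw [h2]; group)
  have hf : Function.Injective f := by
    intro a b
    refine Quotient.inductionOn₂ a b ?_
    intro u w h
    have h1 : T.phi u * u⁻¹ = T.phi w * w⁻¹ := congrArg Subtype.val h
    apply Quotient.sound
    apply QuotientGroup.leftRel_apply.mpr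
    rw [hE, map_mul, map_inv]
    have h2 : T.phi w = T.phi u * u⁻¹ * w := by rw [h1]; group
    rw [h2]; group
  have h1 : E.index ≤ Nat.card C := Nat.card_le_card_of_injective f hf
  have h2 := Subgroup.card_mul_index E
  have h3 := Subgroup.card_mul_index C
  have h4 : Nat.card E ≤ 2 := T.card_fix
  have hCpos : 0 < Nat.card C := Nat.card_pos
  by_contra hcon
  push Not at hcon
  have h5 : Nat.card Fˣ ≤ 2 * Nat.card C := by
    rw [← h2]
    exact Nat.mul_le_mul h4 h1
  rw [← h3] at h5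
  nlinarith

theorem nf_order_three_sum {X : F} (hX : X * X * X = 1) (hX1 : X ≠ 1) (y : F) : y + y * X + y * X * X = 0 := by
  by_contra hy
  apply hX1
  apply nf_mul_left_cancel hy
  rw [Cfsg.NearField.right_distrib, Cfsg.NearField.right_distrib, mul_one]
  have h1 : y * X * X * X = y := by
    rw [mul_assoc, mul_assoc, ← mul_assoc X, hX, mul_one]
  rw [h1, nf_add_comm, ← add_assoc]

theorem NFS.S_order_three {X : F} (hX : X * X * X = 1) (hX1 : X ≠ 1) : T.S X = X * X := by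
  have hX0 : X ≠ 0 := by
    rintro rfl
    rw [Cfsg.NearField.mul_zero] at hX
    exact Cfsg.NearField.zero_ne_one hX
  have h1 : ∀ Y : F, Y * Y * Y = 1 → Y ≠ 1 → 1 + Y = -(Y * Y) := by
    intro Y hY hY1
    have := nf_order_three_sum hY hY1 1
    rw [one_mul] at this
    exact eq_neg_of_add_eq_zero_left this
  have hSX : T.S X * T.S X * T.S X = 1 := by rw [← T.Smul, ← T.Smul, hX, T.S1]
  have hSX1 : T.S X ≠ 1 := by
    intro h
    apply hX1
    rw [← T.SS X, h, T.S1]
  have h2 := h1 X hX hX1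
  have h3 := h1 _ hSX hSX1
  have hne : 1 + X ≠ 0 := by
    rw [h2]
    exact neg_ne_zero.mpr (nf_mul_ne_zero hX0 hX0)
  have h4 := T.Sid X hX0 hne
  rw [h3, h2, T.Sneg, T.Sneg, T.Smul, T.Smul, T.SS, neg_neg] at h4
  -- -(SX SX) = 1 + XX
  have h5 : 1 + X * X = -X := by
    have := nf_order_three_sum hX hX1 1
    rw [one_mul, add_assoc, nf_add_comm X, ← add_assoc] at this
    exact eq_neg_of_add_eq_zero_left this
  rw [h5] at h4
  have h6 : T.S X * T.S X = X := neg_injective h4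
  calc T.S X = T.S X * T.S X * T.S X * T.S X := by rw [hSX, one_mul]
    _ = X * X := by rw [h6, mul_assoc, h6]

include T in
/-- elements of order three generate the same subgroup -/
theorem NFS.order_three {X Y : F} (hX : X * X * X = 1) (hX1 : X ≠ 1) (hY : Y * Y * Y = 1) (hY1 : Y ≠ 1) :
    Y = X ∨ Y = X * X := by
  have hne0 : ∀ Z : F, Z * Z * Z = 1 → Z ≠ 0 := by
    rintro Z hZ rfl
    rw [Cfsg.NearField.mul_zero] at hZ
    exact Cfsg.NearField.zero_ne_one hZ
  obtain ⟨x, rfl⟩ := nf_exists_unit (hne0 X hX)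
  obtain ⟨y, rfl⟩ := nf_exists_unit (hne0 Y hY)
  have hx : x * x * x = 1 := Units.ext hX
  have hx1 : x ≠ 1 := fun h => hX1 (congrArg Units.val h)
  have hy : y * y * y = 1 := Units.ext hY
  have hphi : ∀ z : Fˣ, z * z * z = 1 → T.phi z = z⁻¹ := by
    intro z hz
    by_cases hz1 : z = 1
    · rw [hz1, map_one, inv_one]
    · have h1 : T.phi z = z * z := Units.ext (T.S_order_three (congrArg Units.val hz) (fun h => hz1 (Units.ext h)))
      rw [h1]
      exact eq_inv_of_mul_eq_one_left hz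
  let C : Subgroup Fˣ := Subgroup.centralizer {x}
  have hC : ∀ u, T.phi u * u⁻¹ ∈ C := by
    intro u
    rw [Subgroup.mem_centralizer_singleton_iff]
    have h1 : T.phi (u⁻¹ * x * u) = (u⁻¹ * x * u)⁻¹ := by
      apply hphi
      calc u⁻¹ * x * u * (u⁻¹ * x * u) * (u⁻¹ * x * u) = u⁻¹ * (x * x * x) * u := by group
        _ = 1 := by rw [hx]; group
    have h2 : T.phi x = x⁻¹ := hphi x hx
    rw [map_mul, map_mul, map_inv, h2] at h1
    -- (φu)⁻¹ x⁻¹ φ u = u⁻¹ x⁻¹ u
    have h3 : (T.phi u)⁻¹ * x * T.phi u = u⁻¹ * x * u := by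
      have h4 := congrArg (fun t => t⁻¹) h1
      simp only [inv_inv] at h4
      rw [← h4]; group
    calc T.phi u * u⁻¹ * x = T.phi u * (u⁻¹ * x * u) * u⁻¹ := by group
      _ = T.phi u * ((T.phi u)⁻¹ * x * T.phi u) * u⁻¹ := by rw [h3]
      _ = x * (T.phi u * u⁻¹) := by group
  have hidx := T.index_le_two C hC
  have hyC : y ∈ C := by
    have hpos : C.index ≠ 0 := Subgroup.index_ne_zero_of_finite
    have h12 : C.index = 1 ∨ C.index = 2 := by omega
    rcases h12 with h | h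
    · rw [Subgroup.index_eq_one] at h
      rw [h]; exact Subgroup.mem_top y
    · have h1 : (y * y) * (y * y) ∈ C := Subgroup.mul_self_mem_of_index_two h (y * y)
      have h2 : y * y * (y * y) = y := by rw [← mul_assoc, hy, one_mul]
      rwa [h2] at h1
  have hxy : y * x = x * y := Subgroup.mem_centralizer_singleton_iff.mp hyC
  by_cases hw : (y : F) - x * x = 0
  · right; exact sub_eq_zero.mp hw
  · left
    apply nf_mul_left_cancel hw
    rw [nf_sub_mul, nf_sub_mul]
    have h1 : (y : F) * x = x * y := congrArg Units.val hxy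
    have hX3 : (x : F) * x * x = 1 := hX
    -- y y - x x y = y x - x x x
    have h2 : (x : F) * x * y = y * x * x := by
      have h5 : x * x * y = y * x * x := by rw [hxy, mul_assoc, ← hxy, ← mul_assoc, hxy]
      exact congrArg Units.val h5
    rw [h2, hX3]
    have h3 : (y : F) * y = -(y + 1) := by
      have := nf_order_three_sum hY hY1 1
      rw [one_mul] at this
      rw [nf_add_comm (y : F) 1]
      exact (neg_eq_of_add_eq_zero_right this).symm
    have h4 : (y : F) * x * x = -(y + y * x) := (neg_eq_of_add_eq_zero_right (nf_order_three_sum hX hX1 (y : F))).symm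
    rw [h3, h4]
    let _ac : AddCommGroup F := nfACG F
    abel

end

section

variable {G : Type u} {Ω : Type v} [Group G] [MulAction G Ω] [Finite Ω]

/-- Coordinates of a sharply 3-transitive group, packaged. -/
theorem Sharp3.nfs (h : Sharp3 G Ω) (i z e : Ω) (hiz : i ≠ z) (hze : z ≠ e) (hie : i ≠ e) :
    ∃ (I : Cfsg.NearField {x : Ω // x ≠ i}) (T : @NFS _ I) (s : G),
      ((I.zero : {x : Ω // x ≠ i}) : Ω) = z ∧ ((I.one : {x : Ω // x ≠ i}) : Ω) = e ∧
      (∀ g : G, g • i = i → ∃ a b : {x : Ω // x ≠ i}, a ≠ I.zero ∧ ∀ x : {x : Ω // x ≠ i},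
        g • (x : Ω) = (I.add (I.mul x a) b : {x : Ω // x ≠ i})) ∧
      (∀ a b : {x : Ω // x ≠ i}, a ≠ I.zero → ∃ g : G, g • i = i ∧ ∀ x : {x : Ω // x ≠ i},
        g • (x : Ω) = (I.add (I.mul x a) b : {x : Ω // x ≠ i})) ∧
      s * s = 1 ∧ s • i = z ∧ s • z = i ∧ s • e = e ∧
      (∀ x : {x : Ω // x ≠ i}, x ≠ I.zero → s • (x : Ω) = (T.S x : Ω)) := by
  obtain ⟨I, S, s, hI0, hI1, hA, hB, hss, hsi, hsz, hsS, hS0, hSne, hSS, hS1, hSmul, hSfix, hSid⟩ := h.coords i z e hiz hze hie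
  refine ⟨I, ⟨S, hS0, hSne, hSS, hS1, hSmul, hSfix, hSid⟩, s, hI0, hI1, hA, hB, hss, hsi, hsz, ?_, hsS⟩
  have h1 := hsS I.one (fun h => I.zero_ne_one h.symm)
  rw [hI1] at h1
  rw [h1]
  have h2 : S I.one = I.one := hS1
  show ((S I.one : {x : Ω // x ≠ i}) : Ω) = e
  rw [h2, hI1]

/-- elements of the two point stabiliser are multiplications -/
theorem nf_stab2 (i z : Ω) (I : Cfsg.NearField {x : Ω // x ≠ i}) (hI0 : ((I.zero : {x : Ω // x ≠ i}) : Ω) = z)
    (hA : ∀ g : G, g • i = i → ∃ a b : {x : Ω // x ≠ i}, a ≠ I.zero ∧ ∀ x : {x : Ω // x ≠ i},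
        g • (x : Ω) = (I.add (I.mul x a) b : {x : Ω // x ≠ i})) (g : G) (hg : g • i = i) (hgz : g • z = z) :
    ∃ a : {x : Ω // x ≠ i}, a ≠ I.zero ∧ ∀ x : {x : Ω // x ≠ i}, g • (x : Ω) = (I.mul x a : {x : Ω // x ≠ i}) := by
  let _inst : Cfsg.NearField {x : Ω // x ≠ i} := I
  obtain ⟨a, b, ha, hab⟩ := hA g hg
  have h0 := hab I.zero
  rw [hI0, hgz] at h0
  have h1 : (0 : {x : Ω // x ≠ i}) = 0 * a + b := Subtype.ext (hI0.trans h0)
  rw [nf_zero_mul, zero_add] at h1
  refine ⟨a, ha, fun x => ?_⟩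
  rw [hab x]
  have h2 : x * a + b = x * a := by rw [← h1, add_zero]
  exact congrArg Subtype.val h2

/-- `S0728` in abstract form -/
theorem Sharp3.order_three (h : Sharp3 G Ω) {i z e : Ω} (hiz : i ≠ z) (hze : z ≠ e) (hie : i ≠ e)
    {x y : G} (hxi : x • i = i) (hxz : x • z = z) (hyi : y • i = i) (hyz : y • z = z)
    (hx : x * x * x = 1) (hx1 : x ≠ 1) (hy : y * y * y = 1) (hy1 : y ≠ 1) : y = x ∨ y = x * x := by
  obtain ⟨I, T, s, hI0, hI1, hA, hB, hss, hsi, hsz, hse, hsS⟩ := h.nfs i z e hiz hze hie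
  let _inst : Cfsg.NearField {x : Ω // x ≠ i} := I
  obtain ⟨a, ha0, ha⟩ := nf_stab2 i z I hI0 hA x hxi hxz
  obtain ⟨b, hb0, hb⟩ := nf_stab2 i z I hI0 hA y hyi hyz
  have hval : ∀ (g : G) (c : {x : Ω // x ≠ i}), (∀ x : {x : Ω // x ≠ i}, g • (x : Ω) = (I.mul x c : {x : Ω // x ≠ i})) →
      g • e = (c : Ω) := by
    intro g c hc
    rw [← hI1, hc]
    exact congrArg Subtype.val (show (1 : {x : Ω // x ≠ i}) * c = c from one_mul c)
  have hcube : ∀ (g : G) (c : {x : Ω // x ≠ i}), (∀ x : {x : Ω // x ≠ i}, g • (x : Ω) = (I.mul x c : {x : Ω // x ≠ i})) →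
      g * g * g = 1 → c * c * c = 1 := by
    intro g c hc hg
    have h1 := congrArg (fun k : G => k • e) hg
    simp only [mul_smul, one_smul] at h1
    rw [hval g c hc, hc, hc] at h1
    apply Subtype.ext
    exact h1.trans hI1.symm
  have hne1 : ∀ (g : G) (c : {x : Ω // x ≠ i}), (∀ x : {x : Ω // x ≠ i}, g • (x : Ω) = (I.mul x c : {x : Ω // x ≠ i})) →
      g • i = i → g • z = z → g ≠ 1 → c ≠ 1 := by
    rintro g c hc hgi hgz hg rfl
    apply hg
    apply h.sharp g hiz hze hie hgi hgz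
    rw [hval g 1 hc]
    exact hI1
  rcases T.order_three (hcube x a ha hx) (hne1 x a ha hxi hxz hx1) (hcube y b hb hy) (hne1 y b hb hyi hyz hy1) with h1 | h1
  · left
    apply h.eq_of hiz hze hie
    · rw [hxi, hyi]
    · rw [hxz, hyz]
    · rw [hval y b hb, hval x a ha, h1]
  · right
    apply h.eq_of hiz hze hie
    · rw [mul_smul, hxi, hyi, hxi]
    · rw [mul_smul, hxz, hyz, hxz]
    · rw [hval y b hb, mul_smul, hval x a ha, h1, ha]
      rfl

end

end Cfsg.Agent.H34
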