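import Cfsg.Agent.H34.Blk3
import Cfsg.Agent.H75.Inflate
import Cfsg.Agent.Blk.Dict
import Cfsg.Prelude.Def_DegreeGraph

/-!
Character degrees of `PSL₂(q)` and the degree graphs of `PSL₂(q)`, `SL₂(q)`.
-/

set_option autoImplicit false
set_option linter.unusedSectionVars false

namespace Cfsg.Agent.H34.Deg

open Cfsg Cfsg.Agent.Char Cfsg.Agent.CharBase Cfsg.Agent.H39 Matrix
open scoped ComplexConjugate

universe u v

theorem charDegree_of_eq {G : Type u} [Group G] {χ : G → ℂ} {n : ℕ} (h : χ 1 = (n : ℂ)) : charDegree χ = n := by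
  rw [charDegree, h, Complex.natCast_re, Nat.floor_natCast]

theorem charDegrees_equiv {G : Type u} [Group G] {H : Type v} [Group H] (e : G ≃* H) : charDegrees G = charDegrees H := by
  have key : ∀ {G : Type u} [Group G] {H : Type v} [Group H] (e : G ≃* H), charDegrees G ⊆ charDegrees H := by
    rintro G _ H _ e d ⟨χ, rfl⟩
    refine ⟨Blk.irrMap e χ, ?_⟩
    rw [charDegree, charDegree, Blk.irrMap_apply, map_one]
  have key' : ∀ {G : Type v} [Group G] {H : Type u} [Group H] (e : G ≃* H), charDegrees G ⊆ charDegrees H := by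
    rintro G _ H _ e d ⟨χ, rfl⟩
    refine ⟨Blk.irrMap e χ, ?_⟩
    rw [charDegree, charDegree, Blk.irrMap_apply, map_one]
  exact Set.Subset.antisymm (key e) (key' e.symm)

theorem mem_charDegrees_quot {G : Type u} [Group G] [Finite G] (N : Subgroup G) [N.Normal] (d : ℕ) :
    d ∈ charDegrees (G ⧸ N) ↔ ∃ χ : IrrCharacter G, (∀ n ∈ N, (χ : G → ℂ) n = (χ : G → ℂ) 1) ∧ charDegree (χ : G → ℂ) = d := by
  constructor
  · rintro ⟨χ, rfl⟩
    exact ⟨(H75.inflateEquiv N χ).1, (H75.inflateEquiv N χ).2, rfl⟩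
  · rintro ⟨χ, h1, rfl⟩
    obtain ⟨χ', h2, h3⟩ := H75.exists_deflate_irr N χ.2 h1
    refine ⟨⟨χ', h2⟩, ?_⟩
    have h4 : χ' 1 = (χ : G → ℂ) 1 := h3 1
    show charDegree χ' = _
    rw [charDegree, charDegree, h4]

section graph

variable {S : Type u} [Group S]

theorem degreePrimes_of {q p n : ℕ} (hq : q = p ^ n) (hn : 0 < n) (hp : p.Prime)
    (h1 : ∀ d ∈ charDegrees S, d = 1 ∨ d = q ∨ d ∣ q + 1 ∨ d ∣ q - 1)
    (h2 : q ∈ charDegrees S) (h3 : q + 1 ∈ charDegrees S) (h4 : q - 1 ∈ charDegrees S) :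
    degreePrimes S = {r : ℕ | r.Prime ∧ r ∣ q * (q ^ 2 - 1)} := by
  have hfac : q ^ 2 - 1 = (q + 1) * (q - 1) := by
    have := Nat.sq_sub_sq q 1
    simpa using this
  ext r
  constructor
  · rintro ⟨hr, d, hd, hrd⟩
    refine ⟨hr, ?_⟩
    rw [hfac]
    rcases h1 d hd with rfl | rfl | h | h
    · exact absurd (Nat.dvd_one.1 hrd) hr.one_lt.ne'
    · exact Dvd.dvd.mul_right hrd _
    · exact Dvd.dvd.mul_left (Dvd.dvd.mul_right (hrd.trans h) _) _
    · exact Dvd.dvd.mul_left (Dvd.dvd.mul_left (hrd.trans h) _) _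
  · rintro ⟨hr, hrd⟩
    refine ⟨hr, ?_⟩
    rw [hfac] at hrd
    rcases (Nat.Prime.dvd_mul hr).1 hrd with h | h
    · exact ⟨q, h2, h⟩
    · rcases (Nat.Prime.dvd_mul hr).1 h with h | h
      · exact ⟨_, h3, h⟩
      · exact ⟨_, h4, h⟩

theorem degreeGraph_of {q p n : ℕ} (hq : q = p ^ n) (hp : p.Prime)
    (h1 : ∀ d ∈ charDegrees S, d = 1 ∨ d = q ∨ d ∣ q + 1 ∨ d ∣ q - 1)
    (h3 : q + 1 ∈ charDegrees S) (h4 : q - 1 ∈ charDegrees S) (r s : ℕ) :
    (degreeGraph S).Adj r s ↔ (r ≠ s ∧ r.Prime ∧ s.Prime ∧ ((r ∣ q + 1 ∧ s ∣ q + 1) ∨ (r ∣ q - 1 ∧ s ∣ q - 1))) := by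
  constructor
  · rintro ⟨hrs, hr, hs, d, hd, hdvd⟩
    refine ⟨hrs, hr, hs, ?_⟩
    have hr1 : r ∣ d := (dvd_mul_right r s).trans hdvd
    have hs1 : s ∣ d := (dvd_mul_left s r).trans hdvd
    rcases h1 d hd with rfl | rfl | h | h
    · exact absurd (Nat.dvd_one.1 hr1) hr.one_lt.ne'
    · exfalso
      rw [hq] at hr1 hs1
      have e1 := (Nat.prime_dvd_prime_iff_eq hr hp).1 (hr.dvd_of_dvd_pow hr1)
      have e2 := (Nat.prime_dvd_prime_iff_eq hs hp).1 (hs.dvd_of_dvd_pow hs1)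
      exact hrs (e1.trans e2.symm)
    · exact Or.inl ⟨hr1.trans h, hs1.trans h⟩
    · exact Or.inr ⟨hr1.trans h, hs1.trans h⟩
  · rintro ⟨hrs, hr, hs, h⟩
    refine ⟨hrs, hr, hs, ?_⟩
    have hcop : Nat.Coprime r s := (Nat.coprime_primes hr hs).2 hrs
    rcases h with ⟨h5, h6⟩ | ⟨h5, h6⟩
    · exact ⟨_, h3, hcop.mul_dvd_of_dvd_of_dvd h5 h6⟩
    · exact ⟨_, h4, hcop.mul_dvd_of_dvd_of_dvd h5 h6⟩

end graph

variable {F : Type*} [Field F] [Fintype F] [DecidableEq F]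

theorem center_sl {z : SpecialLinearGroup (Fin 2) F} (hz : z ∈ Subgroup.center (SpecialLinearGroup (Fin 2) F)) : z = 1 ∨ z = -1 := by
  rw [Matrix.SpecialLinearGroup.mem_center_iff] at hz
  obtain ⟨r, hr, h⟩ := hz
  rw [Fintype.card_fin, sq] at hr
  rcases mul_self_eq_one_iff.1 hr with rfl | rfl
  · left
    apply Subtype.ext
    rw [← h]
    simp
  · right
    apply Subtype.ext
    rw [← h]
    rw [map_neg, map_one]
    rfl

theorem neg_one_mem_center : (-1 : SpecialLinearGroup (Fin 2) F) ∈ Subgroup.center (SpecialLinearGroup (Fin 2) F) :=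
  Subgroup.mem_center_iff.2 fun g => (neg_one_comm g).symm

theorem ker_center_iff (χ : IrrCharacter (SpecialLinearGroup (Fin 2) F)) :
    (∀ n ∈ Subgroup.center (SpecialLinearGroup (Fin 2) F), (χ : SpecialLinearGroup (Fin 2) F → ℂ) n = (χ : SpecialLinearGroup (Fin 2) F → ℂ) 1) ↔
      (χ : SpecialLinearGroup (Fin 2) F → ℂ) (-1) = (χ : SpecialLinearGroup (Fin 2) F → ℂ) 1 := by
  constructor
  · intro h
    exact h _ neg_one_mem_center
  · intro h n hn
    rcases center_sl hn with rfl | rfl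
    · rfl
    · exact h

theorem exists_even_principal (hq : 6 ≤ Fintype.card F - 1) :
    ∃ χ : IrrCharacter (SpecialLinearGroup (Fin 2) F), (χ : SpecialLinearGroup (Fin 2) F → ℂ) (-1) = (χ : SpecialLinearGroup (Fin 2) F → ℂ) 1 ∧
      (χ : SpecialLinearGroup (Fin 2) F → ℂ) 1 = ((Fintype.card F + 1 : ℕ) : ℂ) := by
  classical
  obtain ⟨β, hβ⟩ := MulChar.exists_mulChar_orderOf F (dvd_refl (Fintype.card F - 1)) (Complex.isPrimitiveRoot_exp (Fintype.card F - 1) (by omega))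
  have hne : β * β * (β * β) ≠ 1 := by
    intro h
    have h1 : β ^ 4 = 1 := by
      rw [← h]; simp only [pow_succ, pow_zero, one_mul, mul_assoc]
    have h2 := orderOf_dvd_of_pow_eq_one h1
    rw [hβ] at h2
    have := Nat.le_of_dvd (by norm_num) h2
    omega
  have hval : (β * β) (-1) = 1 := by
    rw [MulChar.mul_apply, ← map_mul, neg_one_mul, neg_neg, map_one]
  have hirr : IsIrrCharacter (SpecialLinearGroup (Fin 2) F) (pSL (β * β)) := by
    rw [isIrrCharacter_iff (isCharacter_pSL _), classInner_prinSL, if_pos rfl, if_neg hne, add_zero]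
  refine ⟨⟨_, hirr⟩, ?_, ?_⟩
  · show pSL (β * β) (-1) = pSL (β * β) 1
    rw [pSL_neg_one, pSL_one, hval, mul_one]
  · show pSL (β * β) 1 = _
    rw [pSL_one]
    push_cast; rfl

variable {k : ℕ} (D : OddData F k)

theorem OddData.ν_ne_zero : D.ν ≠ 0 := by
  intro h
  exact D.hν (by rw [h]; exact IsSquare.zero)

theorem OddData.sum_two (χ : IrrCharacter (SpecialLinearGroup (Fin 2) F)) : (χ : SpecialLinearGroup (Fin 2) F → ℂ) (uSL 1) +
      (χ : SpecialLinearGroup (Fin 2) F → ℂ) (uSL D.ν) = ((2 * D.a χ - (D.b χ + D.c χ) : ℤ) : ℂ) := by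
  have he1 : eta F 1 = 1 := map_one _
  have heν : eta F D.ν = -1 := by
    rw [eta_apply, quadraticChar_neg_one_iff_not_isSquare.2 D.hν]; norm_num
  have e1 := (D.hu χ).val 1 one_ne_zero
  have e2 := (D.hu χ).val D.ν D.ν_ne_zero
  rw [he1] at e1
  rw [heν] at e2
  push_cast
  linear_combination (e1 + e2) / 2

include D in
theorem OddData.neg_uSL_ne {x : F} (hx : x ≠ 0) : -uSL x ≠ (1 : SpecialLinearGroup (Fin 2) F) := by
  intro h
  have h1 := congrFun (congrFun (congrArg (fun g : SpecialLinearGroup (Fin 2) F => (g : Matrix (Fin 2) (Fin 2) F)) h) 0) 1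
  have h2 : -x = 0 := h1
  exact hx (neg_eq_zero.1 h2)

theorem uSL_ne_one {x : F} (hx : x ≠ 0) : uSL x ≠ (1 : SpecialLinearGroup (Fin 2) F) := by
  intro h
  have h1 := congrFun (congrFun (congrArg (fun g : SpecialLinearGroup (Fin 2) F => (g : Matrix (Fin 2) (Fin 2) F)) h) 0) 1
  exact hx h1

/-- the sum over the characters of `PSL₂` -/
theorem OddData.sum_even_two [Fintype (IrrCharacter (SpecialLinearGroup (Fin 2) F))] :
    (∑ χ : IrrCharacter (SpecialLinearGroup (Fin 2) F), if (χ : SpecialLinearGroup (Fin 2) F → ℂ) (-1) = (χ : SpecialLinearGroup (Fin 2) F → ℂ) 1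
      then ((D.a χ + (D.b χ + D.c χ) * k : ℤ) * (2 * D.a χ - (D.b χ + D.c χ) : ℤ)) else 0) = 0 := by
  have h1 : ∀ x : F, x ≠ 0 → ∑ χ : IrrCharacter (SpecialLinearGroup (Fin 2) F), ((χ : SpecialLinearGroup (Fin 2) F → ℂ) 1 +
      (χ : SpecialLinearGroup (Fin 2) F → ℂ) (-1)) * (χ : SpecialLinearGroup (Fin 2) F → ℂ) (uSL x) = 0 := by
    intro x hx
    have h2 := sum_degree_mul (uSL x)
    have h3 := sum_degree_mul (-uSL x)
    rw [if_neg (uSL_ne_one hx)] at h2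
    rw [if_neg (D.neg_uSL_ne hx)] at h3
    have h4 : ∀ χ : IrrCharacter (SpecialLinearGroup (Fin 2) F), ((χ : SpecialLinearGroup (Fin 2) F → ℂ) 1 +
      (χ : SpecialLinearGroup (Fin 2) F → ℂ) (-1)) * (χ : SpecialLinearGroup (Fin 2) F → ℂ) (uSL x) =
      (χ : SpecialLinearGroup (Fin 2) F → ℂ) 1 * (χ : SpecialLinearGroup (Fin 2) F → ℂ) (uSL x) +
      (χ : SpecialLinearGroup (Fin 2) F → ℂ) 1 * (χ : SpecialLinearGroup (Fin 2) F → ℂ) (-uSL x) := by
      intro χ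
      have := neg_mul_irr χ.2 (uSL x)
      linear_combination -this
    rw [Finset.sum_congr rfl fun χ _ => h4 χ, Finset.sum_add_distrib, h2, h3, add_zero]
  have h5 : ((∑ χ : IrrCharacter (SpecialLinearGroup (Fin 2) F), (if (χ : SpecialLinearGroup (Fin 2) F → ℂ) (-1) = (χ : SpecialLinearGroup (Fin 2) F → ℂ) 1
      then ((D.a χ + (D.b χ + D.c χ) * k : ℤ) * (2 * D.a χ - (D.b χ + D.c χ) : ℤ)) else 0) : ℤ) : ℂ) = ((0 : ℤ) : ℂ) := by
    rw [Int.cast_sum]
    have h6 : ∀ χ : IrrCharacter (SpecialLinearGroup (Fin 2) F), (((if (χ : SpecialLinearGroup (Fin 2) F → ℂ) (-1) = (χ : SpecialLinearGroup (Fin 2) F → ℂ) 1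
      then ((D.a χ + (D.b χ + D.c χ) * k : ℤ) * (2 * D.a χ - (D.b χ + D.c χ) : ℤ)) else 0) : ℤ) : ℂ) =
      1 / 2 * (((χ : SpecialLinearGroup (Fin 2) F → ℂ) 1 + (χ : SpecialLinearGroup (Fin 2) F → ℂ) (-1)) * (χ : SpecialLinearGroup (Fin 2) F → ℂ) (uSL 1) +
      ((χ : SpecialLinearGroup (Fin 2) F → ℂ) 1 + (χ : SpecialLinearGroup (Fin 2) F → ℂ) (-1)) * (χ : SpecialLinearGroup (Fin 2) F → ℂ) (uSL D.ν)) := by
      intro χ
      rcases neg_one_cases χ.2 with h7 | h7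
      · rw [if_pos h7, h7, Int.cast_mul, ← D.sum_two, D.deg]
        push_cast
        ring
      · rw [h7, if_neg (fun h => ne_neg_degree χ h.symm)]
        simp
    rw [Finset.sum_congr rfl fun χ _ => h6 χ, ← Finset.mul_sum, Finset.sum_add_distrib, h1 1 one_ne_zero, h1 D.ν D.ν_ne_zero]
    simp
  exact_mod_cast h5

include D in
theorem OddData.exists_even_cuspidal (h3 : 3 ≤ k) : ∃ χ : IrrCharacter (SpecialLinearGroup (Fin 2) F),
    (χ : SpecialLinearGroup (Fin 2) F → ℂ) (-1) = (χ : SpecialLinearGroup (Fin 2) F → ℂ) 1 ∧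
      (χ : SpecialLinearGroup (Fin 2) F → ℂ) 1 = ((Fintype.card F - 1 : ℕ) : ℂ) := by
  classical
  haveI : Fintype (IrrCharacter (SpecialLinearGroup (Fin 2) F)) := Fintype.ofFinite _
  by_contra hcon
  push Not at hcon
  obtain ⟨χ₀, h4, h5⟩ := exists_even_principal (F := F) (by rw [D.hk]; omega)
  have hno : ∀ χ : IrrCharacter (SpecialLinearGroup (Fin 2) F), (χ : SpecialLinearGroup (Fin 2) F → ℂ) (-1) = (χ : SpecialLinearGroup (Fin 2) F → ℂ) 1 →
      ¬ (D.a χ = 0 ∧ D.b χ + D.c χ = 2) := by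
    rintro χ h6 ⟨h7, h8⟩
    apply hcon χ h6
    rw [D.deg, h7, h8, D.hk]
    congr 1
    omega
  have h0 := D.sum_even_two
  have hχ₀ : D.a χ₀ = 2 ∧ D.b χ₀ + D.c χ₀ = 2 := by
    have h6 := (D.deg_eq_iff χ₀ _).1 h5
    rw [D.hk] at h6
    rcases D.six χ₀ with ⟨h7, h8⟩ | ⟨h7, h8⟩ | ⟨h7, h8⟩ | ⟨h7, h8⟩ | ⟨h7, h8⟩ | ⟨h7, h8⟩ <;> rw [h7, h8] at h6 <;> omega
  have hle : ∑ χ : IrrCharacter (SpecialLinearGroup (Fin 2) F), (-(k : ℤ) * (if D.a χ = 0 ∧ D.b χ + D.c χ = 1 then 1 else 0) +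
      (if χ = χ₀ then (4 * k + 4 : ℤ) else 0)) ≤ 0 := by
    refine le_trans (Finset.sum_le_sum fun χ _ => ?_) h0.le
    by_cases h6 : (χ : SpecialLinearGroup (Fin 2) F → ℂ) (-1) = (χ : SpecialLinearGroup (Fin 2) F → ℂ) 1
    · rw [if_pos h6]
      by_cases h7 : χ = χ₀
      · subst h7
        obtain ⟨h8, h9⟩ := hχ₀
        have h10 : (D.b χ : ℤ) + D.c χ = 2 := by exact_mod_cast h9
        rw [if_pos rfl, if_neg (by omega), h8, h10]
        push_cast
        linarith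
      · rw [if_neg h7, add_zero]
        have h11 := hno χ h6
        have hk0 : (0 : ℤ) ≤ k := by positivity
        rcases D.six χ with ⟨h8, h9⟩ | ⟨h8, h9⟩ | ⟨h8, h9⟩ | ⟨h8, h9⟩ | ⟨h8, h9⟩ | ⟨h8, h9⟩
        · have h10 : (D.b χ : ℤ) + D.c χ = 0 := by exact_mod_cast h9
          rw [if_neg (by omega), h8, h10]; push_cast; linarith
        · have h10 : (D.b χ : ℤ) + D.c χ = 2 := by exact_mod_cast h9
          rw [if_neg (by omega), h8, h10]; push_cast; linarith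
        · have h10 : (D.b χ : ℤ) + D.c χ = 2 := by exact_mod_cast h9
          rw [if_neg (by omega), h8, h10]; push_cast; linarith
        · have h10 : (D.b χ : ℤ) + D.c χ = 1 := by exact_mod_cast h9
          rw [if_neg (by omega), h8, h10]; push_cast; linarith
        · exact absurd ⟨h8, h9⟩ h11
        · have h10 : (D.b χ : ℤ) + D.c χ = 1 := by exact_mod_cast h9
          rw [if_pos ⟨h8, h9⟩, h8, h10]; push_cast; linarith
    · have h7 : χ ≠ χ₀ := fun h => h6 (by rw [h]; exact h4)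
      rw [if_neg h6, if_neg h7, add_zero]
      split_ifs
      · simp
      · simp
  rw [Finset.sum_add_distrib, ← Finset.mul_sum, Finset.sum_boole, Finset.sum_ite_eq' Finset.univ, if_pos (Finset.mem_univ _)] at hle
  have h6 := D.n6
  rw [Nat.card_eq_fintype_card, Fintype.card_subtype] at h6
  rw [h6] at hle
  push_cast at hle
  have hk0 : (0 : ℤ) ≤ k := by positivity
  linarith

end Cfsg.Agent.H34.Deg
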