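import Mathlib
import Cfsg.Agent.H62.PyrDef
import Cfsg.Agent.Transfer.Frobenius

/-!
# S3930, piece M3R
-/

set_option autoImplicit false
set_option linter.unusedSectionVars false

namespace Cfsg.Agent.H34.Pyr

section abs

variable {H : Type*} [CommGroup H] (hH : ∀ x : H, x * x = 1)

/-- the subgroup `{1, a, b, ab}` -/
def four (hH : ∀ x : H, x * x = 1) (a b : H) : Subgroup H where
  carrier := {x | x = 1 ∨ x = a ∨ x = b ∨ x = a * b}
  one_mem' := Or.inl rfl
  mul_mem' := by
    have h1 := hH a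
    have h2 := hH b
    have e1 : a * (a * b) = b := by rw [← mul_assoc, h1, one_mul]
    have e2 : b * (a * b) = a := by rw [mul_left_comm, h2, mul_one]
    have e3 : a * b * a = b := by rw [mul_comm (a * b) a, e1]
    have e4 : a * b * b = a := by rw [mul_assoc, h2, mul_one]
    have e5 : a * b * (a * b) = 1 := hH _
    have e6 : b * a = a * b := mul_comm _ _
    intro x y hx hy
    rcases hx with h | h | h | h <;> rcases hy with h' | h' | h' | h' <;> rw [h, h'] <;>
      simp only [Set.mem_setOf_eq, one_mul, mul_one, h1, h2, e1, e2, e3, e4, e5, e6, true_or, or_true]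
  inv_mem' := by
    intro x hx
    rwa [show x⁻¹ = x from inv_eq_of_mul_eq_one_left (hH x)]

theorem mem_four {a b x : H} : x ∈ four hH a b ↔ x = 1 ∨ x = a ∨ x = b ∨ x = a * b := Iff.rfl

theorem card_four {a b : H} (ha : a ≠ 1) (hb : b ≠ 1) (hab : a ≠ b) : Nat.card (four hH a b) = 4 := by
  have hab1 : a * b ≠ 1 := fun h => hab (by rw [← hH b] at h; exact mul_right_cancel h)
  have hab2 : a * b ≠ a := fun h => hb (mul_eq_left.1 h)
  have hab3 : a * b ≠ b := fun h => ha (mul_eq_right.1 h)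
  let f : Fin 4 → four hH a b := ![⟨1, Or.inl rfl⟩, ⟨a, Or.inr (Or.inl rfl)⟩, ⟨b, Or.inr (Or.inr (Or.inl rfl))⟩,
    ⟨a * b, Or.inr (Or.inr (Or.inr rfl))⟩]
  have hf : Function.Bijective f := by
    constructor
    · intro i j hij
      have h0 : ((f i : four hH a b) : H) = f j := congrArg Subtype.val hij
      fin_cases i <;> fin_cases j <;> first | rfl | (exfalso; revert h0; simp [f]; try tauto)
    · rintro ⟨x, hx⟩
      rcases hx with h | h | h | h
      · exact ⟨0, Subtype.ext h.symm⟩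
      · exact ⟨1, Subtype.ext h.symm⟩
      · exact ⟨2, Subtype.ext h.symm⟩
      · exact ⟨3, Subtype.ext h.symm⟩
  rw [← Nat.card_congr (Equiv.ofBijective f hf), Nat.card_eq_fintype_card, Fintype.card_fin]

variable (h8 : Nat.card H = 8)

include hH h8

theorem index_four {a b : H} (ha : a ≠ 1) (hb : b ≠ 1) (hab : a ≠ b) : (four hH a b).index = 2 := by
  have h1 := (four hH a b).card_mul_index
  rw [card_four hH ha hb hab, h8] at h1
  omega

theorem mul_four {a b : H} (ha : a ≠ 1) (hb : b ≠ 1) (hab : a ≠ b) {x y : H} (hx : x ∉ four hH a b)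
    (hy : y ∉ four hH a b) : x * y ∈ four hH a b :=
  (Subgroup.mul_mem_iff_of_index_two (index_four hH h8 ha hb hab)).2 ⟨fun h => absurd h hx, fun h => absurd h hy⟩

theorem exists_third {a b : H} (ha : a ≠ 1) (hb : b ≠ 1) (hab : a ≠ b) : ∃ c, c ∉ four hH a b := by
  by_contra hcon
  push Not at hcon
  have h1 : four hH a b = ⊤ := by rw [eq_top_iff]; exact fun x _ => hcon x
  have h2 := index_four hH h8 ha hb hab
  rw [h1, Subgroup.index_top] at h2
  omega

theorem ext3 {a b c : H} (ha : a ≠ 1) (hb : b ≠ 1) (hab : a ≠ b) (hc : c ∉ four hH a b) (τ φ : H ≃* H)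
    (h1 : τ a = φ a) (h2 : τ b = φ b) (h3 : τ c = φ c) (v : H) : τ v = φ v := by
  have key : ∀ w ∈ four hH a b, τ w = φ w := by
    rintro w (rfl | rfl | rfl | rfl)
    · rw [map_one, map_one]
    · exact h1
    · exact h2
    · rw [map_mul, map_mul, h1, h2]
  by_cases hv : v ∈ four hH a b
  · exact key v hv
  · have h4 := key _ (mul_four hH h8 ha hb hab hv hc)
    rw [map_mul, map_mul, h3] at h4
    exact mul_right_cancel h4

theorem exists_pair : ∃ a b : H, a ≠ 1 ∧ b ≠ 1 ∧ a ≠ b := by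
  have hfin : Finite H := Nat.finite_of_card_ne_zero (by rw [h8]; norm_num)
  have hnt : Nontrivial H := by rw [← Finite.one_lt_card_iff_nontrivial, h8]; norm_num
  obtain ⟨a, ha⟩ := exists_ne (1 : H)
  obtain ⟨b, hb⟩ : ∃ b, b ∉ Subgroup.zpowers a := by
    by_contra hcon
    push Not at hcon
    have h1 : Subgroup.zpowers a = ⊤ := by rw [eq_top_iff]; exact fun x _ => hcon x
    have h2 : Nat.card (Subgroup.zpowers a) = 8 := by rw [h1, Subgroup.card_top, h8]
    rw [Nat.card_zpowers] at h2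
    have h3 : orderOf a ∣ 2 := orderOf_dvd_of_pow_eq_one (by rw [sq]; exact hH a)
    rw [h2] at h3
    exact absurd (Nat.le_of_dvd (by norm_num) h3) (by norm_num)
  refine ⟨a, b, ha, ?_, ?_⟩
  · rintro rfl; exact hb (Subgroup.one_mem _)
  · rintro rfl; exact hb (Subgroup.mem_zpowers _)

variable {Γ : Type*} [Group Γ] (σ : Γ →* MulAut H)
  (h2 : ∀ a b c d : H, a ≠ 1 → b ≠ 1 → a ≠ b → c ≠ 1 → d ≠ 1 → c ≠ d → ∃ g : Γ, σ g a = c ∧ σ g b = d)

include h2 in
theorem exists_tv : ∃ (g : Γ) (e f c : H), e ≠ 1 ∧ f ≠ 1 ∧ e ≠ f ∧ c ∉ four hH e f ∧ σ g e = e ∧ σ g f = f ∧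
    σ g c = c * e := by
  obtain ⟨a, b, ha, hb, hab⟩ := exists_pair hH h8
  obtain ⟨g, hga, hgb⟩ := h2 a b b a ha hb hab hb ha (Ne.symm hab)
  obtain ⟨c, hc⟩ := exists_third hH h8 ha hb hab
  have hab1 : a * b ≠ 1 := fun h => hab (by rw [← hH b] at h; exact mul_right_cancel h)
  have hab2 : a * b ≠ a := fun h => hb (mul_eq_left.1 h)
  have hc' : c ≠ 1 ∧ c ≠ a ∧ c ≠ b ∧ c ≠ a * b := by
    rw [mem_four] at hc
    push Not at hc
    exact hc
  obtain ⟨hc1, hca, hcb, hcab⟩ := hc'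
  have hgab : σ g (a * b) = a * b := by rw [map_mul, hga, hgb, mul_comm]
  have hgc : σ g c ∉ four hH a b := by
    rintro (h | h | h | h)
    · exact hc1 ((map_eq_one_iff (σ g) (σ g).injective).1 h)
    · exact hcb ((σ g).injective (by rw [h, hgb]))
    · exact hca ((σ g).injective (by rw [h, hga]))
    · exact hcab ((σ g).injective (by rw [h, hgab]))
  have hf := mul_four hH h8 ha hb hab hc hgc
  have hcf : σ g c = c * (c * σ g c) := by rw [← mul_assoc, hH, one_mul]
  have hbaa : b = a * (a * b) := by rw [← mul_assoc, hH, one_mul]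
  rcases hf with h | h | h | h <;> rw [h] at hcf
  · -- `σ g c = c`
    rw [mul_one] at hcf
    refine ⟨g, a * b, c, a, hab1, hc1, Ne.symm hcab, ?_, hgab, hcf, by rw [hga, ← hbaa]⟩
    rintro (h | h | h | h)
    · exact ha h
    · exact hab2 h.symm
    · exact hca h.symm
    · apply hcb
      have h3 : a * (b * c) = a * 1 := by rw [← mul_assoc, ← h, mul_one]
      have h4 := mul_left_cancel h3
      rw [← hH b] at h4
      exact mul_left_cancel h4
  · refine ⟨g * g, a * b, a, c, hab1, ha, hab2, ?_, ?_, ?_, ?_⟩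
    · rintro (h | h | h | h)
      · exact hc1 h
      · exact hcab h
      · exact hca h
      · apply hcb; rw [h, mul_comm (a * b) a, ← hbaa]
    · rw [σ.map_mul g g, MulAut.mul_apply, hgab, hgab]
    · rw [map_mul, MulAut.mul_apply, hga, hgb]
    · rw [map_mul, MulAut.mul_apply, hcf, map_mul, hcf, hga, mul_assoc]
  · refine ⟨g * g, a * b, a, c, hab1, ha, hab2, ?_, ?_, ?_, ?_⟩
    · rintro (h | h | h | h)
      · exact hc1 h
      · exact hcab h
      · exact hca h
      · apply hcb; rw [h, mul_comm (a * b) a, ← hbaa]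
    · rw [σ.map_mul g g, MulAut.mul_apply, hgab, hgab]
    · rw [map_mul, MulAut.mul_apply, hga, hgb]
    · rw [map_mul, MulAut.mul_apply, hcf, map_mul, hcf, hgb, mul_assoc, mul_comm b a]
  · -- `σ g c = c a b`
    refine ⟨g, a * b, a * c, a, hab1, ?_, ?_, ?_, hgab, ?_, by rw [hga, ← hbaa]⟩
    · intro h
      apply hca
      rw [← hH a] at h
      exact mul_left_cancel h
    · intro h
      exact hcb (mul_left_cancel h).symm
    · rintro (h | h | h | h)
      · exact ha h
      · exact hab2 h.symm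
      · exact hc1 (mul_eq_left.1 h.symm)
      · apply hcab
        have h3 : a = b * c := by
          rw [h]
          calc a * b * (a * c) = (a * a) * (b * c) := by ac_rfl
            _ = b * c := by rw [hH, one_mul]
        have h4 : a * b = (b * b) * c := by rw [h3]; ac_rfl
        rw [h4, hH, one_mul]
    · rw [map_mul, hga, hcf]
      calc b * (c * (a * b)) = (b * b) * (a * c) := by ac_rfl
        _ = a * c := by rw [hH, one_mul]

include h2 in
theorem all_aut (φ : H ≃* H) : ∃ g : Γ, ∀ v, σ g v = φ v := by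
  obtain ⟨a, b, ha, hb, hab⟩ := exists_pair hH h8
  obtain ⟨c, hc⟩ := exists_third hH h8 ha hb hab
  have hφ1 : ∀ x : H, x ≠ 1 → φ x ≠ 1 := fun x hx h => hx ((map_eq_one_iff φ φ.injective).1 h)
  obtain ⟨g1, hg1a, hg1b⟩ := h2 a b (φ a) (φ b) ha hb hab (hφ1 a ha) (hφ1 b hb) (fun h => hab (φ.injective h))
  set d := (σ g1).symm (φ c) with hd
  have hgd : σ g1 d = φ c := (σ g1).apply_symm_apply _
  have hdF : d ∉ four hH a b := by
    intro h
    have h1 : σ g1 d = φ d := by
      rcases h with h | h | h | h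
      · rw [h, map_one, map_one]
      · rw [h]; exact hg1a
      · rw [h]; exact hg1b
      · rw [h, map_mul, map_mul, hg1a, hg1b]
    rw [hgd] at h1
    rw [← φ.injective h1] at h
    exact hc h
  have hf := mul_four hH h8 ha hb hab hc hdF
  set f := c * d with hfd
  have hdf : d = c * f := by rw [hfd, ← mul_assoc, hH, one_mul]
  -- an element fixing `a, b` and mapping `c` to `c f`
  obtain ⟨h, hha, hhb, hhc⟩ : ∃ h : Γ, σ h a = a ∧ σ h b = b ∧ σ h c = c * f := by
    by_cases hf1 : f = 1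
    · exact ⟨1, by rw [map_one]; rfl, by rw [map_one]; rfl, by rw [map_one, hf1, mul_one]; rfl⟩
    obtain ⟨t, e0, f0, c0, he0, hf0, hef0, hc0, hte, htf, htc⟩ := exists_tv hH h8 σ h2
    -- a second element of the four-group
    obtain ⟨f', hf'F, hf'1, hf'f, hfour⟩ : ∃ f' ∈ four hH a b, f' ≠ 1 ∧ f ≠ f' ∧
        (∀ x ∈ four hH a b, x ∈ four hH f f') := by
      rcases hf with h | h | h | h
      · exact absurd h hf1
      · refine ⟨b, Or.inr (Or.inr (Or.inl rfl)), hb, by rw [h]; exact hab, ?_⟩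
        rw [h]; exact fun x hx => hx
      · refine ⟨a, Or.inr (Or.inl rfl), ha, by rw [h]; exact Ne.symm hab, ?_⟩
        rw [h]
        rintro x (hx | hx | hx | hx)
        · exact Or.inl hx
        · exact Or.inr (Or.inr (Or.inl hx))
        · exact Or.inr (Or.inl hx)
        · exact Or.inr (Or.inr (Or.inr (by rw [hx, mul_comm])))
      · have hbaa : b = a * b * a := by rw [mul_comm (a * b) a, ← mul_assoc, hH, one_mul]
        refine ⟨a, Or.inr (Or.inl rfl), ha, by rw [h]; exact fun h => hb (mul_eq_left.1 h), ?_⟩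
        rw [h]
        rintro x (hx | hx | hx | hx)
        · exact Or.inl hx
        · exact Or.inr (Or.inr (Or.inl hx))
        · exact Or.inr (Or.inr (Or.inr (by rw [hx]; exact hbaa)))
        · exact Or.inr (Or.inl hx)
    obtain ⟨y, hye, hyf⟩ := h2 e0 f0 f f' he0 hf0 hef0 hf1 hf'1 hf'f
    have hcF : c ∉ four hH f f' := by
      intro hcf
      have h1 := index_four hH h8 hf1 hf'1 hf'f
      have h3 : four hH f f' = four hH a b := by
        have : Finite H := Nat.finite_of_card_ne_zero (by rw [h8]; norm_num)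
        symm
        apply Subgroup.eq_of_le_of_card_ge (fun x hx => hfour x hx)
        rw [card_four hH ha hb hab, card_four hH hf1 hf'1 hf'f]
      rw [h3] at hcf
      exact hc hcf
    have hall : ∀ v : H, v ∉ four hH e0 f0 → σ t v = v * e0 := by
      intro v hv
      have h1 := mul_four hH h8 he0 hf0 hef0 hv hc0
      have h3 : σ t (v * c0) = v * c0 := by
        rcases h1 with h | h | h | h
        · rw [h, map_one]
        · rw [h, hte]
        · rw [h, htf]
        · rw [h, map_mul, hte, htf]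
      have h4 : v = (v * c0) * c0 := by rw [mul_assoc, hH, mul_one]
      calc σ t v = σ t ((v * c0) * c0) := by rw [← h4]
        _ = (v * c0) * (c0 * e0) := by rw [map_mul, h3, htc]
        _ = ((v * c0) * c0) * e0 := (mul_assoc _ _ _).symm
        _ = v * e0 := by rw [← h4]
    have hmap : ∀ x ∈ four hH e0 f0, σ y x ∈ four hH f f' := by
      rintro x (h | h | h | h)
      · rw [h, map_one]; exact Or.inl rfl
      · rw [h, hye]; exact Or.inr (Or.inl rfl)
      · rw [h, hyf]; exact Or.inr (Or.inr (Or.inl rfl))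
      · rw [h, map_mul, hye, hyf]; exact Or.inr (Or.inr (Or.inr rfl))
    have hyy : ∀ x : H, σ y (σ y⁻¹ x) = x := fun x => by
      rw [map_inv]; exact (σ y).apply_symm_apply x
    have hyy' : ∀ x : H, σ y⁻¹ (σ y x) = x := fun x => by
      rw [map_inv]; exact (σ y).symm_apply_apply x
    have hfixF : ∀ x ∈ four hH f f', σ (y * t * y⁻¹) x = x := by
      intro x hx
      rw [map_mul, map_mul, MulAut.mul_apply, MulAut.mul_apply]
      have h1 : σ t (σ y⁻¹ x) = σ y⁻¹ x := by
        rcases hx with h | h | h | h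
        · rw [h, map_one, map_one]
        · rw [h, ← hye, hyy', hte]
        · rw [h, ← hyf, hyy', htf]
        · rw [h, map_mul, ← hye, ← hyf, hyy', hyy', map_mul, hte, htf]
      rw [h1, hyy]
    refine ⟨y * t * y⁻¹, hfixF a (hfour a (Or.inr (Or.inl rfl))), hfixF b (hfour b (Or.inr (Or.inr (Or.inl rfl)))), ?_⟩
    rw [map_mul, map_mul, MulAut.mul_apply, MulAut.mul_apply, hall _ (fun h => hcF (by
      have := hmap _ h
      rwa [hyy] at this)), map_mul, hyy, hye]
  refine ⟨g1 * h, fun v => ?_⟩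
  refine ext3 hH h8 ha hb hab hc (σ (g1 * h)) φ ?_ ?_ ?_ v
  · rw [map_mul, MulAut.mul_apply, hha, hg1a]
  · rw [map_mul, MulAut.mul_apply, hhb, hg1b]
  · rw [map_mul, MulAut.mul_apply, hhc, ← hdf, hgd]

end abs

theorem all_aut' {H : Type*} [iG : Group H] (hc : ∀ x y : H, x * y = y * x) (hH : ∀ x : H, x * x = 1)
    (h8 : Nat.card H = 8) {Γ : Type*} [Group Γ] (σ : Γ →* MulAut H)
    (h2 : ∀ a b c d : H, a ≠ 1 → b ≠ 1 → a ≠ b → c ≠ 1 → d ≠ 1 → c ≠ d → ∃ g : Γ, σ g a = c ∧ σ g b = d)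
    (φ : H ≃* H) : ∃ g : Γ, ∀ v, σ g v = φ v := by
  letI : CommGroup H := { iG with mul_comm := hc }
  exact all_aut hH h8 σ h2 φ

theorem exists_pair' {H : Type*} [iG : Group H] (hc : ∀ x y : H, x * y = y * x) (hH : ∀ x : H, x * x = 1)
    (h8 : Nat.card H = 8) : ∃ a b : H, a ≠ 1 ∧ b ≠ 1 ∧ a ≠ b := by
  letI : CommGroup H := { iG with mul_comm := hc }
  exact exists_pair hH h8

open Cfsg.Agent.H62.Pyr

universe u

theorem orderOf_conj' {Y : Type*} [Group Y] (g x : Y) : orderOf (g * x * g⁻¹) = orderOf x :=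
  (MulAut.conj g).orderOf_eq x

/-- the quotient step -/
theorem quot_step {Y : Type u} [Group Y] [Finite Y] (E : Subgroup Y) [hEn : E.Normal] (hE : ∀ x : Y, x ∈ E ↔ x * x = 1)
    (h8 : Nat.card E = 8) (hnil : Group.IsNilpotent (Subgroup.centralizer (E : Set Y)))
    (hA : ∀ φ : E ≃* E, ∃ g : Y, ∀ v : E, g * v * g⁻¹ = (φ v : Y)) :
    ∃ (G' : Type u) (_ : Group G') (_ : Finite G') (E' : Subgroup G') (_ : E'.Normal), (∀ x : G', x ∈ E' ↔ x * x = 1) ∧
      Nat.card E' = 8 ∧ IsPGroup 2 (Subgroup.centralizer (E' : Set G')) ∧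
      ∀ φ : E' ≃* E', ∃ g : G', ∀ v : E', g * v * g⁻¹ = (φ v : G') := by
  classical
  have hp2 : Fact (Nat.Prime 2) := ⟨Nat.prime_two⟩
  set C := Subgroup.centralizer (E : Set Y) with hC
  have hCn : C.Normal := by rw [hC]; infer_instance
  obtain ⟨P, N0, hN0n, hN0⟩ := Cfsg.Agent.Transfer.hasNPC_of_isNilpotent (p := 2) (G := C) hnil
  have hN0odd : Odd (Nat.card N0) := by
    have h6 := hN0.card_mul
    have h7 : ¬ 2 ∣ (P : Subgroup C).index := P.not_dvd_index
    rw [← Nat.not_even_iff_odd, even_iff_two_dvd]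
    intro h8
    apply h7
    have h9 := (P : Subgroup C).index_mul_card
    rw [← h6] at h9
    rw [Nat.eq_of_mul_eq_mul_right Nat.card_pos h9]
    exact h8
  have hdec : ∀ x : C, ∃ n ∈ N0, ∃ p ∈ P, x = n * p := by
    intro x
    have h1 : x ∈ N0 ⊔ (P : Subgroup C) := by rw [hN0.sup_eq_top]; trivial
    rw [Subgroup.mem_sup_of_normal_left] at h1
    obtain ⟨n, hn, p, hp, h⟩ := h1
    exact ⟨n, hn, p, hp, h.symm⟩
  have hN0mem : ∀ x : C, Odd (orderOf x) → x ∈ N0 := by
    intro x hx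
    obtain ⟨n, hn, p, hp, rfl⟩ := hdec x
    have h1 : (QuotientGroup.mk (n * p) : C ⧸ N0) = QuotientGroup.mk p := by
      rw [QuotientGroup.mk_mul, (QuotientGroup.eq_one_iff n).2 hn, one_mul]
    obtain ⟨k, hk⟩ := P.isPGroup' ⟨p, hp⟩
    have hk' : p ^ 2 ^ k = 1 := congrArg Subtype.val hk
    have h2 : orderOf (QuotientGroup.mk (n * p) : C ⧸ N0) ∣ 2 ^ k := by
      apply orderOf_dvd_of_pow_eq_one
      rw [h1, ← QuotientGroup.mk_pow, hk']; rfl
    have h3 : orderOf (QuotientGroup.mk (n * p) : C ⧸ N0) ∣ orderOf (n * p) :=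
      orderOf_map_dvd (QuotientGroup.mk' N0) (n * p)
    have h4 : Nat.Coprime (orderOf (n * p)) (2 ^ k) := Nat.Coprime.pow_right k (Nat.coprime_two_right.2 hx)
    have h5 : orderOf (QuotientGroup.mk (n * p) : C ⧸ N0) = 1 := Nat.dvd_one.1 (by
      rw [← h4]; exact Nat.dvd_gcd h3 h2)
    exact (QuotientGroup.eq_one_iff _).1 (orderOf_eq_one_iff.1 h5)
  set R : Subgroup Y := N0.map C.subtype with hR
  have hRmem : ∀ x : Y, x ∈ R ↔ x ∈ C ∧ Odd (orderOf x) := by
    intro x
    constructor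
    · rintro ⟨n, hn, rfl⟩
      refine ⟨n.2, ?_⟩
      show Odd (orderOf (n : Y))
      rw [Subgroup.orderOf_coe]
      exact Odd.of_dvd_nat hN0odd (N0.orderOf_dvd_natCard hn)
    · rintro ⟨h1, h2⟩
      exact ⟨⟨x, h1⟩, hN0mem _ (by rwa [Subgroup.orderOf_mk]), rfl⟩
  have hRn : R.Normal := ⟨fun x hx g => by
    rw [hRmem] at hx ⊢
    exact ⟨hCn.conj_mem x hx.1 g, by rw [orderOf_conj']; exact hx.2⟩⟩
  have hRE : ∀ x ∈ R, x ∈ E → x = 1 := by
    intro x hx hxE
    have h1 := ((hRmem x).1 hx).2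
    have h2 : orderOf x ∣ 2 := orderOf_dvd_of_pow_eq_one (by rw [sq]; exact (hE x).1 hxE)
    rcases (Nat.dvd_prime Nat.prime_two).1 h2 with h | h
    · exact orderOf_eq_one_iff.1 h
    · rw [h] at h1; exact absurd h1 (by decide)
  let π : Y →* Y ⧸ R := QuotientGroup.mk' R
  have hπ : Function.Surjective π := QuotientGroup.mk'_surjective R
  have hπ1 : ∀ x : Y, π x = 1 ↔ x ∈ R := fun x => QuotientGroup.eq_one_iff x
  have hjinj : Function.Injective (π.subgroupMap E) := by
    intro x y hxy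
    have h1 : π (x : Y) = π (y : Y) := congrArg Subtype.val hxy
    have h2 : π ((x : Y)⁻¹ * y) = 1 := by rw [map_mul, map_inv, h1, inv_mul_cancel]
    have h3 := hRE _ ((hπ1 _).1 h2) (E.mul_mem (E.inv_mem x.2) y.2)
    exact Subtype.ext (inv_mul_eq_one.1 h3)
  let j : E ≃* E.map π := MulEquiv.ofBijective (π.subgroupMap E) ⟨hjinj, π.subgroupMap_surjective E⟩
  have hj : ∀ v : E, ((j v : E.map π) : Y ⧸ R) = π (v : Y) := fun v => rfl
  refine ⟨Y ⧸ R, inferInstance, inferInstance, E.map π, hEn.map π hπ, ?_, ?_, ?_, ?_⟩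
  · intro x
    obtain ⟨y, rfl⟩ := hπ x
    constructor
    · rintro ⟨e, he, heq⟩
      rw [← heq]
      show π e * π e = 1
      rw [← map_mul, (hE e).1 he, map_one]
    · intro h
      rw [← map_mul, hπ1] at h
      obtain ⟨k, hk⟩ := ((hRmem _).1 h).2
      have hz : y ^ (2 * k + 1) * y ^ (2 * k + 1) = 1 := by
        rw [← pow_add, ← two_mul, pow_mul, sq, ← hk, pow_orderOf_eq_one]
      refine ⟨y ^ (2 * k + 1), (hE _).2 hz, ?_⟩
      show π (y ^ (2 * k + 1)) = π y
      rw [pow_succ, pow_mul, sq, map_mul, map_pow, (hπ1 _).2 h, one_pow, one_mul]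
  · rw [← Nat.card_congr j.toEquiv, h8]
  · rintro ⟨x, hx⟩
    obtain ⟨y, rfl⟩ := hπ x
    have hyC : y ∈ C := by
      rw [hC, Subgroup.mem_centralizer_iff]
      intro e he
      have h1 := Subgroup.mem_centralizer_iff.1 hx (π e) ⟨e, he, rfl⟩
      have h2 : π (y * e * y⁻¹ * e⁻¹) = 1 := by
        rw [map_mul, map_mul, map_mul, map_inv, map_inv, ← h1]; group
      have h3 := hRE _ ((hπ1 _).1 h2) (E.mul_mem (hEn.conj_mem e he y) (E.inv_mem he))
      calc e * y = (y * e * y⁻¹ * e⁻¹) * (e * y) := by rw [h3, one_mul]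
        _ = y * e := by group
    obtain ⟨n, hn, p, hp, hnp⟩ := hdec ⟨y, hyC⟩
    obtain ⟨k, hk⟩ := P.isPGroup' ⟨p, hp⟩
    have hk' : p ^ 2 ^ k = 1 := congrArg Subtype.val hk
    refine ⟨k, Subtype.ext ?_⟩
    show (π y) ^ 2 ^ k = 1
    have h4 : y = (n : Y) * (p : Y) := congrArg Subtype.val hnp
    have hn1 : π (n : Y) = 1 := (hπ1 _).2 ⟨n, hn, rfl⟩
    rw [h4, map_mul, hn1, one_mul, ← map_pow, ← Subgroup.coe_pow, hk', Subgroup.coe_one, map_one]
  · intro φ'
    obtain ⟨g, hg⟩ := hA (j.trans (φ'.trans j.symm))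
    refine ⟨π g, fun v' => ?_⟩
    obtain ⟨v, rfl⟩ := j.surjective v'
    rw [hj, ← map_mul, ← map_inv, ← map_mul, hg v, ← hj]
    congr 1
    show j (j.symm (φ' (j v))) = φ' (j v)
    exact j.apply_symm_apply _

theorem m3red {G : Type u} [Group G] [Finite G] (E : Subgroup G) [hEn : E.Normal] (hE : ∀ x : G, x ∈ E ↔ x * x = 1)
    (h8 : Nat.card E = 8) (h2 : TwoTr E) : ∃ (G' : Type u) (_ : Group G') (_ : Finite G') (E' : Subgroup G')
      (_ : E'.Normal), (∀ x : G', x ∈ E' ↔ x * x = 1) ∧ Nat.card E' = 8 ∧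
      IsPGroup 2 (Subgroup.centralizer (E' : Set G')) ∧
      ∀ φ : E' ≃* E', ∃ g : G', ∀ v : E', g * v * g⁻¹ = (φ v : G') := by
  classical
  have hp2 : Fact (Nat.Prime 2) := ⟨Nat.prime_two⟩
  have hcomm : ∀ x ∈ E, ∀ y ∈ E, x * y = y * x := by
    intro x hx y hy
    have h1 := (hE _).1 (E.mul_mem hx hy)
    have h2 := (hE x).1 hx
    have h3 := (hE y).1 hy
    calc x * y = x * ((x * y) * (x * y)) * y := by rw [h1, mul_one]
      _ = (x * x) * (y * x) * (y * y) := by group
      _ = y * x := by rw [h2, h3, one_mul, mul_one]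
  have hmc : ∀ x y : E, x * y = y * x := fun x y => Subtype.ext (hcomm x x.2 y y.2)
  have hH : ∀ x : E, x * x = 1 := fun x => Subtype.ext ((hE x).1 x.2)
  set C := Subgroup.centralizer (E : Set G) with hC
  have hCn : C.Normal := by rw [hC]; infer_instance
  have hA : ∀ φ : E ≃* E, ∃ g : G, ∀ v : E, g * v * g⁻¹ = (φ v : G) := by
    intro φ
    obtain ⟨g, hg⟩ := all_aut' (H := E) hmc hH h8 (MulAut.conjNormal : G →* MulAut E) (by
      intro a b c d ha hb hab hc hd hcd
      obtain ⟨g, h1, h3⟩ := h2 a a.2 b b.2 c c.2 d d.2 (fun h => ha (Subtype.ext h)) (fun h => hb (Subtype.ext h))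
        (fun h => hab (Subtype.ext h)) (fun h => hc (Subtype.ext h)) (fun h => hd (Subtype.ext h))
        (fun h => hcd (Subtype.ext h))
      exact ⟨g, Subtype.ext h1, Subtype.ext h3⟩) φ
    exact ⟨g, fun v => congrArg Subtype.val (hg v)⟩
  obtain ⟨a, b, ha, hb, hab⟩ := exists_pair' (H := E) hmc hH h8
  have hother : ∀ x : E, ∃ y : E, y ≠ 1 ∧ x ≠ y := by
    intro x
    by_cases h : x = a
    · exact ⟨b, hb, by rw [h]; exact hab⟩
    · exact ⟨a, ha, h⟩
  -- a minimal supplement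
  have hex : ∃ n, ∃ Y : Subgroup G, Y ⊔ C = ⊤ ∧ Nat.card Y = n := ⟨_, ⊤, top_sup_eq _, rfl⟩
  obtain ⟨Y, hY, hYn⟩ := Nat.find_spec hex
  have hmin : ∀ Z : Subgroup G, Z ⊔ C = ⊤ → Nat.card Y ≤ Nat.card Z := fun Z hZ => by
    rw [hYn]; exact Nat.find_min' hex ⟨Z, hZ, rfl⟩
  have hdec : ∀ g : G, ∃ y ∈ Y, ∀ v ∈ E, g * v * g⁻¹ = y * v * y⁻¹ := by
    intro g
    have hg : g ∈ Y ⊔ C := by rw [hY]; trivial
    rw [Subgroup.mem_sup_of_normal_right] at hg
    obtain ⟨y, hy, c, hc, rfl⟩ := hg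
    refine ⟨y, hy, fun v hv => ?_⟩
    have h1 : c * v * c⁻¹ = v := by
      have := Subgroup.mem_centralizer_iff.1 hc v hv
      rw [← this]; group
    calc y * c * v * (y * c)⁻¹ = y * (c * v * c⁻¹) * y⁻¹ := by group
      _ = _ := by rw [h1]
  have heven : 2 ∣ Nat.card Y := by
    by_contra hcon
    obtain ⟨g, hg1, hg2⟩ := h2 a a.2 b b.2 b b.2 a a.2 (fun h => ha (Subtype.ext h)) (fun h => hb (Subtype.ext h))
      (fun h => hab (Subtype.ext h)) (fun h => hb (Subtype.ext h)) (fun h => ha (Subtype.ext h))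
      (fun h => hab (Subtype.ext h.symm))
    obtain ⟨y, hyY, hy⟩ := hdec g
    rw [hy a a.2] at hg1
    rw [hy b b.2] at hg2
    have hodd : Odd (Nat.card Y) := by
      rw [← Nat.not_even_iff_odd, even_iff_two_dvd]; exact hcon
    obtain ⟨k, hk⟩ := Odd.of_dvd_nat hodd (Y.orderOf_dvd_natCard hyY)
    have h3 : Commute (y * y) (a : G) := by
      show y * y * a = a * (y * y)
      calc y * y * a = (y * (y * a * y⁻¹) * y⁻¹) * (y * y) := by group
        _ = a * (y * y) := by rw [hg1, hg2]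
    have h4 : y = ((y * y) ^ k)⁻¹ := by
      rw [eq_inv_iff_mul_eq_one, ← sq, ← pow_mul, ← pow_succ', ← hk, pow_orderOf_eq_one]
    have h5 : Commute y (a : G) := by
      rw [h4]; exact (h3.pow_left k).inv_left
    apply hab
    apply Subtype.ext
    rw [← hg1, h5.eq]; group
  obtain ⟨i, hi⟩ := exists_prime_orderOf_dvd_card' 2 heven
  obtain ⟨hi1, hi2⟩ := orderOf_eq_prime_iff.1 hi
  have hii : (i : G) * i = 1 := by
    rw [sq] at hi1
    exact congrArg Subtype.val hi1
  have hi1' : (i : G) ≠ 1 := fun h => hi2 (Subtype.ext h)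
  have hiE : (i : G) ∈ E := (hE _).2 hii
  have hEY : E ≤ Y := by
    intro e he
    by_cases he1 : e = 1
    · rw [he1]; exact Y.one_mem
    obtain ⟨b', hb', hib'⟩ := hother ⟨i, hiE⟩
    obtain ⟨b'', hb'', heb''⟩ := hother ⟨e, he⟩
    obtain ⟨g, hg1, -⟩ := h2 i hiE b' b'.2 e he b'' b''.2 hi1' (fun h => hb' (Subtype.ext h))
      (fun h => hib' (Subtype.ext h)) he1 (fun h => hb'' (Subtype.ext h)) (fun h => heb'' (Subtype.ext h))
    obtain ⟨y, hyY, hy⟩ := hdec g
    rw [hy i hiE] at hg1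
    rw [← hg1]
    exact Y.mul_mem (Y.mul_mem hyY i.2) (Y.inv_mem hyY)
  let κ : E.subgroupOf Y ≃* E := Subgroup.subgroupOfEquivOfLe hEY
  have hκ : ∀ v : E.subgroupOf Y, ((κ v : E) : G) = ((v : Y) : G) := fun v => rfl
  have hcent : ∀ y : Y, y ∈ Subgroup.centralizer ((E.subgroupOf Y : Subgroup Y) : Set Y) → (y : G) ∈ C := by
    intro y hy
    rw [hC, Subgroup.mem_centralizer_iff]
    intro e he
    exact congrArg Subtype.val (Subgroup.mem_centralizer_iff.1 hy ⟨e, hEY he⟩ he)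
  have hfr : Subgroup.centralizer ((E.subgroupOf Y : Subgroup Y) : Set Y) ≤ frattini Y := by
    rw [frattini, Order.radical]
    refine le_iInf₂ fun M hM => ?_
    by_contra hnle
    have h1 : M ⊔ Subgroup.centralizer ((E.subgroupOf Y : Subgroup Y) : Set Y) = ⊤ := by
      apply hM.2
      exact lt_of_le_of_ne le_sup_left (fun h => hnle (by rw [h]; exact le_sup_right))
    have h3 : M.map Y.subtype ⊔ C = ⊤ := by
      rw [eq_top_iff, ← hY]
      refine sup_le ?_ le_sup_right
      intro y hy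
      have h4 : (⟨y, hy⟩ : Y) ∈ M ⊔ Subgroup.centralizer ((E.subgroupOf Y : Subgroup Y) : Set Y) := by
        rw [h1]; trivial
      have h5 : y ∈ (M ⊔ Subgroup.centralizer ((E.subgroupOf Y : Subgroup Y) : Set Y)).map Y.subtype :=
        ⟨⟨y, hy⟩, h4, rfl⟩
      rw [Subgroup.map_sup] at h5
      have h6 : M.map Y.subtype ⊔ (Subgroup.centralizer ((E.subgroupOf Y : Subgroup Y) : Set Y)).map Y.subtype ≤
          M.map Y.subtype ⊔ C := by
        refine sup_le_sup le_rfl ?_
        rintro _ ⟨z, hz, rfl⟩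
        exact hcent z hz
      exact h6 h5
    have h4 := hmin _ h3
    rw [Nat.card_congr (M.equivMapOfInjective Y.subtype Y.subtype_injective).toEquiv.symm] at h4
    exact hM.1 (Subgroup.eq_top_of_le_card M h4)
  have hnil : Group.IsNilpotent (Subgroup.centralizer ((E.subgroupOf Y : Subgroup Y) : Set Y)) := by
    have h1 : Group.IsNilpotent (frattini Y) := frattini_nilpotent
    have h3 : Group.IsNilpotent ((Subgroup.centralizer ((E.subgroupOf Y : Subgroup Y) : Set Y)).subgroupOf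
        (frattini Y)) := inferInstance
    exact Group.nilpotent_of_mulEquiv (Subgroup.subgroupOfEquivOfLe hfr)
  refine quot_step (E.subgroupOf Y) ?_ ?_ hnil ?_
  · intro x
    constructor
    · intro hx
      exact Subtype.ext ((hE x).1 hx)
    · intro hx
      exact (hE x).2 (congrArg Subtype.val hx)
  · rw [Nat.card_congr κ.toEquiv, h8]
  · intro φ
    obtain ⟨g, hg⟩ := hA (κ.symm.trans (φ.trans κ))
    obtain ⟨y, hyY, hy⟩ := hdec g
    refine ⟨⟨y, hyY⟩, fun v => Subtype.ext ?_⟩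
    show y * ((v : Y) : G) * y⁻¹ = ((φ v : Y) : G)
    have h1 := hg (κ v)
    have h3 : g * ((v : Y) : G) * g⁻¹ = y * ((v : Y) : G) * y⁻¹ := hy _ v.2
    rw [hκ, h3] at h1
    rw [h1]
    show (((κ (φ (κ.symm (κ v))) : E)) : G) = _
    rw [κ.symm_apply_apply]
    rfl

end Cfsg.Agent.H34.Pyr
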