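import Cfsg.Agent.H34.NFS
import Cfsg.Agent.H34.IrrAb
import Cfsg.Agent.H34.Sharp3PGL

/-!
Sharply 3-transitive groups of degree `p^f + 1` with `p`, `f` odd.
-/

set_option autoImplicit false
set_option linter.unusedSectionVars false

namespace Cfsg.Agent.H34

universe u v

section

variable {F : Type u} [Cfsg.NearField F] [Finite F]

theorem nf_nsmul_mul (k : ℕ) (x y : F) : (k • x) * y = k • (x * y) := by
  induction k with
  | zero => rw [zero_nsmul, zero_nsmul, nf_zero_mul]
  | succ k ih => rw [succ_nsmul, succ_nsmul, Cfsg.NearField.right_distrib, ih]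

theorem nf_char {p f : ℕ} (hp : p.Prime) (hF : Nat.card F = p ^ f) (x : F) : p • x = 0 := by
  obtain ⟨q, j, hq, hj, hqj, -, hexp⟩ := nf_finite_structure (F := F)
  have h1 : q = p := by
    have h2 : q ∣ p ^ f := by
      rw [← hF, hqj]
      exact dvd_pow_self q (by omega)
    exact (Nat.prime_dvd_prime_iff_eq hq hp).mp (hq.dvd_of_dvd_pow h2)
  rw [← h1]
  exact hexp x

/-- a generator of the multiplicative group of the prime field -/
theorem nf_prime_unit {p f : ℕ} (hp : p.Prime) (hF : Nat.card F = p ^ f) : ∃ u : Fˣ, orderOf u = p - 1 := by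
  have hpf : Fact p.Prime := ⟨hp⟩
  have h10 : (1 : F) ≠ 0 := Cfsg.NearField.zero_ne_one.symm
  have hmod : ∀ k : ℕ, (k % p) • (1 : F) = k • (1 : F) := by
    intro k
    conv_rhs => rw [← Nat.mod_add_div k p]
    rw [add_nsmul, mul_comm, mul_nsmul, nf_char hp hF, add_zero]
  have hord : addOrderOf (1 : F) = p := by
    have h1 : addOrderOf (1 : F) ∣ p := addOrderOf_dvd_of_nsmul_eq_zero (nf_char hp hF 1)
    rcases (Nat.dvd_prime hp).mp h1 with h2 | h2
    · exact absurd (AddMonoid.addOrderOf_eq_one_iff.mp h2) h10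
    · exact h2
  let j : ZMod p →* F :=
    { toFun := fun k => (k.val) • (1 : F)
      map_one' := by
        rw [ZMod.val_one_eq_one_mod, hmod, one_nsmul]
      map_mul' := by
        intro k l
        rw [ZMod.val_mul, hmod, nf_nsmul_mul, one_mul, ← mul_nsmul, mul_comm] }
  have hj : Function.Injective j := by
    intro k l hkl
    have h1 : (k.val) • (1 : F) = (l.val) • (1 : F) := hkl
    have h2 := nsmul_inj_mod.mp h1
    rw [hord, Nat.mod_eq_of_lt (ZMod.val_lt k), Nat.mod_eq_of_lt (ZMod.val_lt l)] at h2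
    exact ZMod.val_injective p h2
  obtain ⟨w, hw⟩ := IsCyclic.exists_generator (α := (ZMod p)ˣ)
  have how : orderOf w = p - 1 := by
    rw [orderOf_eq_card_of_forall_mem_zpowers hw, Nat.card_eq_fintype_card, ZMod.card_units]
  refine ⟨Units.map j w, ?_⟩
  rw [orderOf_injective (Units.map j) (Units.map_injective hj), how]

theorem nf_prime_unit_index {p f : ℕ} (hp : p.Prime) (hp2 : p ≠ 2) (hfo : Odd f) (hF : Nat.card F = p ^ f)
    (u : Fˣ) (hu : orderOf u = p - 1) : Odd (Subgroup.zpowers u).index := by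
  have h1 := Subgroup.card_mul_index (Subgroup.zpowers u)
  rw [Nat.card_zpowers, hu, nf_card_units, hF] at h1
  have hp3 : 3 ≤ p := by
    have := hp.two_le
    omega
  have h2 : (p - 1) * ∑ i ∈ Finset.range f, p ^ i = p ^ f - 1 := by
    rw [Nat.geomSum_eq hp.two_le]
    exact Nat.mul_div_cancel' (by simpa using Nat.sub_dvd_pow_sub_pow p 1 f)
  rw [← h2] at h1
  have h3 : (Subgroup.zpowers u).index = ∑ i ∈ Finset.range f, p ^ i := Nat.eq_of_mul_eq_mul_left (by omega) h1
  rw [h3, Finset.odd_sum_iff_odd_card_odd]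
  have h4 : (Finset.range f).filter (fun i => Odd (p ^ i)) = Finset.range f := by
    apply Finset.filter_true_of_mem
    intro i _
    exact (hp.odd_of_ne_two hp2).pow
  rw [h4, Finset.card_range]
  exact hfo

variable (T : NFS F)

/-- `φ` as an automorphism -/
noncomputable def NFS.phiE : Fˣ ≃* Fˣ :=
  MulEquiv.ofBijective T.phi ⟨fun a b h => by rw [← T.phi_phi a, h, T.phi_phi], fun a => ⟨T.phi a, T.phi_phi a⟩⟩

theorem nf_neg_one_ne_one {p f : ℕ} (hp : p.Prime) (hp2 : p ≠ 2) (hF : Nat.card F = p ^ f) : (-1 : F) ≠ 1 := by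
  intro h
  have hodd : Odd (Nat.card F) := by rw [hF]; exact (hp.odd_of_ne_two hp2).pow
  have h1 : (1 : F) + 1 = 0 := by
    nth_rewrite 1 [← h]
    exact neg_add_cancel 1
  exact Cfsg.NearField.zero_ne_one.symm (two_torsion_free hodd h1)

/-- An index two subgroup containing all `φ(u) u⁻¹` consists of such elements and is inverted. -/
theorem NFS.inv_of_index_two (N : Subgroup Fˣ) (hN : N.index = 2) (hφ : ∀ u, T.phi u * u⁻¹ ∈ N) (v : Fˣ) (hv : v ∈ N) :
    T.phi v = v⁻¹ := by
  classical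
  let E := MonoidHom.eqLocus T.phi (MonoidHom.id Fˣ)
  have hE : ∀ u, u ∈ E ↔ T.phi u = u := fun u => Iff.rfl
  let f : Fˣ ⧸ E → N := Quotient.lift (s := QuotientGroup.leftRel E) (fun u => (⟨T.phi u * u⁻¹, hφ u⟩ : N)) (by
    intro u w h
    have h1 : u⁻¹ * w ∈ E := QuotientGroup.leftRel_apply.mp h
    rw [hE, map_mul, map_inv] at h1
    apply Subtype.ext
    show T.phi u * u⁻¹ = T.phi w * w⁻¹
    have h2 : T.phi w = T.phi u * (u⁻¹ * w) := by rw [← h1]; group
    rw [h2]; group)
  have hf : Function.Injective f := by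
    intro a b
    refine Quotient.inductionOn₂ a b ?_
    intro u w h
    have h1 : T.phi u * u⁻¹ = T.phi w * w⁻¹ := congrArg Subtype.val h
    apply Quotient.sound
    apply QuotientGroup.leftRel_apply.mpr
    rw [hE, map_mul, map_inv]
    have h2 : T.phi w = T.phi u * u⁻¹ * w := by rw [h1]; group
    rw [h2]; group
  have h2 := Subgroup.card_mul_index E
  have h3 := Subgroup.card_mul_index N
  have h4 : Nat.card E ≤ 2 := T.card_fix
  have hle : Nat.card N ≤ Nat.card (Fˣ ⧸ E) := by
    have h5 : E.index = Nat.card (Fˣ ⧸ E) := rfl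
    rw [← h5]
    rw [hN] at h3
    rw [← h2] at h3
    have h6 : Nat.card E * E.index ≤ 2 * E.index := Nat.mul_le_mul_right _ h4
    omega
  have hbij : Function.Bijective f := (Nat.bijective_iff_injective_and_card f).mpr
    ⟨hf, le_antisymm (Nat.card_le_card_of_injective f hf) hle⟩
  obtain ⟨q, hq⟩ := hbij.2 ⟨v, hv⟩
  obtain ⟨w, rfl⟩ := Quotient.exists_rep q
  have h7 : T.phi w * w⁻¹ = v := congrArg Subtype.val hq
  rw [← h7, map_mul, T.phi_phi, map_inv]
  group

theorem NFS.comm_of_index_two (N : Subgroup Fˣ) (hN : N.index = 2) (hφ : ∀ u, T.phi u * u⁻¹ ∈ N) {v w : Fˣ} (hv : v ∈ N)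
    (hw : w ∈ N) : v * w = w * v := by
  have h1 := T.inv_of_index_two N hN hφ (v * w) (N.mul_mem hv hw)
  rw [map_mul, T.inv_of_index_two N hN hφ v hv, T.inv_of_index_two N hN hφ w hw, mul_inv_rev] at h1
  have h2 := congrArg (fun t => t⁻¹) h1
  simp only [mul_inv_rev, inv_inv] at h2
  exact h2.symm

/-- The action of the unit group by right multiplication with the inverse. -/
@[reducible] def nfAct (F : Type u) [I : Cfsg.NearField F] [Finite F] : @DistribMulAction Fˣ F _ (nfACG F).toAddMonoid :=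
  let _ := nfACG F
  { smul := fun u x => x * ((u⁻¹ : Fˣ) : F)
    one_smul := fun x => by show x * ((1⁻¹ : Fˣ) : F) = x; rw [inv_one, Units.val_one, mul_one]
    mul_smul := fun u w x => by
      show x * (((u * w)⁻¹ : Fˣ) : F) = (x * ((w⁻¹ : Fˣ) : F)) * ((u⁻¹ : Fˣ) : F)
      rw [mul_inv_rev, Units.val_mul, mul_assoc]
    smul_zero := fun u => nf_zero_mul _
    smul_add := fun u x y => Cfsg.NearField.right_distrib _ _ _ }

/-- irreducibility of an index two subgroup -/
theorem nf_irr (hodd : Odd (Nat.card F)) (N : Subgroup Fˣ) (hN : N.index = 2) (W : AddSubgroup F)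
    (hW : ∀ a ∈ N, ∀ w ∈ W, w * (a : F) ∈ W) (hW0 : W ≠ ⊥) : W = ⊤ := by
  classical
  obtain ⟨w, hw, hw0⟩ : ∃ w ∈ W, w ≠ 0 := by
    by_contra hcon
    push Not at hcon
    apply hW0
    rw [AddSubgroup.eq_bot_iff_forall]
    exact hcon
  have h1 : Nat.card N + 1 ≤ Nat.card W := by
    have : Nat.card (Option N) ≤ Nat.card W := by
      refine Nat.card_le_card_of_injective (fun o : Option N => (match o with
        | none => (0 : W)
        | some a => ⟨w * (a : Fˣ), hW a a.2 w hw⟩ : W)) ?_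
      intro o o' h
      match o, o', h with
      | none, none, _ => rfl
      | none, some a, h =>
        exact absurd (congrArg Subtype.val h).symm (nf_mul_ne_zero hw0 (nf_unit_ne _))
      | some a, none, h => exact absurd (congrArg Subtype.val h) (nf_mul_ne_zero hw0 (nf_unit_ne _))
      | some a, some b, h =>
        have h2 : w * ((a : Fˣ) : F) = w * ((b : Fˣ) : F) := congrArg Subtype.val h
        have h3 := nf_mul_left_cancel hw0 h2
        exact congrArg some (Subtype.ext (Units.ext h3))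
    rwa [Finite.card_option] at this
  have h2 := Subgroup.card_mul_index N
  rw [hN, nf_card_units] at h2
  have h3 := AddSubgroup.card_mul_index W
  have h4 : Odd W.index := by
    rw [← h3] at hodd
    exact (Nat.odd_mul.mp hodd).2
  rw [← AddSubgroup.index_eq_one]
  obtain ⟨k, hk⟩ := h4
  have hF : 1 ≤ Nat.card F := Nat.card_pos
  rcases Nat.eq_zero_or_pos k with h5 | h5
  · omega
  · exfalso
    have h6 : 3 ≤ W.index := by omega
    have h7 : Nat.card W * 3 ≤ Nat.card F := by
      rw [← h3]; exact Nat.mul_le_mul_left _ h6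
    omega

/-- `F` is commutative -/
theorem NFS.comm_of_nonsquare {p f : ℕ} (hp : p.Prime) (hp2 : p ≠ 2) (hfo : Odd f) (hF : Nat.card F = p ^ f)
    (N : Subgroup Fˣ) (hN : N.index = 2) (hφ : ∀ u, T.phi u * u⁻¹ ∈ N) (x y : Fˣ) : x * y = y * x := by
  classical
  have hodd : Odd (Nat.card F) := by rw [hF]; exact (hp.odd_of_ne_two hp2).pow
  have hcen : ∀ h a : Fˣ, a ∈ N → h * a = a * h := by
    intro h a ha
    have key := @commute_of_nonsquare Fˣ F _ (nfACG F) _ (nfAct F) N (Subgroup.normal_of_index_eq_two hN)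
      (fun h => Subgroup.mul_self_mem_of_index_two hN h)
      (fun a ha b hb => T.comm_of_index_two N hN hφ ha hb)
      (by
        intro W hW hW0
        exact nf_irr hodd N hN W (fun a ha w hw => by
          have h1 := hW a⁻¹ (N.inv_mem ha) w hw
          have h2 : w * (((a⁻¹)⁻¹ : Fˣ) : F) ∈ W := h1
          rwa [inv_inv] at h2) hW0)
      hodd
      (by
        rintro ⟨r, hr⟩
        rw [hF] at hr
        have h1 := congrArg (fun t => t.factorization p) hr
        rw [hp.factorization_pow, Finsupp.single_eq_same] at h1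
        obtain ⟨k, hk⟩ := hfo
        rw [Nat.factorization_mul (by
          rintro rfl
          have : p ^ f = 0 := hr
          exact absurd this (pow_pos hp.pos f).ne') (by
          rintro rfl
          have : p ^ f = 0 := hr
          exact absurd this (pow_pos hp.pos f).ne'), Finsupp.add_apply] at h1
        omega)
      h⁻¹ a⁻¹ (N.inv_mem ha) 1
    have h2 : ((1 : F) * (((a⁻¹)⁻¹ : Fˣ) : F)) * (((h⁻¹)⁻¹ : Fˣ) : F) = ((1 : F) * (((h⁻¹)⁻¹ : Fˣ) : F)) * (((a⁻¹)⁻¹ : Fˣ) : F) := key
    rw [inv_inv, inv_inv, one_mul, one_mul] at h2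
    exact Units.ext h2.symm
  by_cases hx : x ∈ N
  · exact (hcen y x hx).symm
  · by_cases hy : y ∈ N
    · exact hcen x y hy
    · have h1 : x⁻¹ * y ∈ N := by
        rw [Subgroup.mul_mem_iff_of_index_two hN]
        exact iff_of_false (fun h => hx ((N.inv_mem_iff).mp h)) hy
      have h2 := hcen x _ h1
      have h3 : x * (x⁻¹ * y) = y := by group
      rw [h3] at h2
      have h4 : y * x = x * (x⁻¹ * y * x) := by group
      rw [h4, ← h2]

/-- `S` is inversion in the commutative case. -/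
theorem NFS.inv_of_comm (hodd : Odd (Nat.card F)) (hc : ∀ x y : Fˣ, x * y = y * x) (N : Subgroup Fˣ) (hN : N.index = 2)
    (hinv : ∀ v ∈ N, T.phi v = v⁻¹) (u : Fˣ) : T.phi u = u⁻¹ := by
  classical
  by_contra hu
  have huN : u ∉ N := fun h => hu (hinv u h)
  have hcu : T.phi u * u = nf_neg_one_unit F := by
    rcases T.fix (T.phi u * u) (by rw [map_mul, T.phi_phi, hc]) with h1 | h1
    · exact absurd (eq_inv_of_mul_eq_one_left h1) hu
    · exact h1
  have hnon : ∀ y : Fˣ, y ∉ N → T.phi y = nf_neg_one_unit F * y⁻¹ := by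
    intro y hy
    have h1 : u⁻¹ * y ∈ N := by
      rw [Subgroup.mul_mem_iff_of_index_two hN]
      exact iff_of_false (fun h => huN ((N.inv_mem_iff).mp h)) hy
    have h2 := hinv _ h1
    rw [map_mul, map_inv] at h2
    have h3 : T.phi y = T.phi u * (u⁻¹ * y)⁻¹ := by rw [← h2]; group
    rw [h3, mul_inv_rev, inv_inv, hc y⁻¹ u, ← mul_assoc, hcu]
  obtain ⟨v, w, hvN, hwN, hvw⟩ : ∃ v w : Fˣ, v ∈ N ∧ w ∉ N ∧ (w : F) = 1 + v := by
    by_contra hcon
    push Not at hcon
    have hadd : ∀ v w : Fˣ, v ∈ N → w ∈ N → (v : F) + w = 0 ∨ ∃ z ∈ N, (v : F) + w = ((z : Fˣ) : F) := by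
      intro v w hv hw
      have h1 : (v : F) + w = (1 + ((w * v⁻¹ : Fˣ) : F)) * v := by
        rw [Cfsg.NearField.right_distrib, one_mul, ← Units.val_mul, inv_mul_cancel_right]
      by_cases h0 : (1 : F) + ((w * v⁻¹ : Fˣ) : F) = 0
      · left; rw [h1, h0, nf_zero_mul]
      · right
        obtain ⟨z, hz⟩ := nf_exists_unit h0
        have hzN : z ∈ N := by
          by_contra hzN
          exact hcon _ z (N.mul_mem hw (N.inv_mem hv)) hzN hz
        exact ⟨z * v, N.mul_mem hzN hv, by rw [h1, ← hz, Units.val_mul]⟩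
    let P : F → Prop := fun x => x = 0 ∨ ∃ z ∈ N, x = ((z : Fˣ) : F)
    have hPadd : ∀ x y, P x → P y → P (x + y) := by
      rintro x y (rfl | ⟨z, hz, rfl⟩) (rfl | ⟨z', hz', rfl⟩)
      · left; exact add_zero _
      · right; exact ⟨z', hz', zero_add _⟩
      · right; exact ⟨z, hz, add_zero _⟩
      · exact hadd z z' hz hz'
    have hPn : ∀ (k : ℕ) x, P x → P (k • x) := by
      intro k x hx
      induction k with
      | zero => left; exact zero_nsmul _
      | succ k ih => rw [succ_nsmul]; exact hPadd _ _ ih hx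
    let W : AddSubgroup F :=
      { carrier := {x | P x}
        zero_mem' := Or.inl rfl
        add_mem' := fun {a b} ha hb => hPadd a b ha hb
        neg_mem' := by
          intro x hx
          have h1 : -x = (addOrderOf x - 1) • x := by
            apply neg_eq_of_add_eq_zero_left
            rw [← succ_nsmul, Nat.sub_add_cancel (addOrderOf_pos x), addOrderOf_nsmul_eq_zero]
          show P (-x)
          rw [h1]
          exact hPn _ x hx }
    have hW : W = ⊤ := nf_irr hodd N hN W (by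
      rintro a ha w (rfl | ⟨z, hz, rfl⟩)
      · left; exact nf_zero_mul _
      · right; exact ⟨z * a, N.mul_mem hz ha, (Units.val_mul _ _).symm⟩) (by
      intro hbot
      have h1 : (1 : F) ∈ W := Or.inr ⟨1, N.one_mem, rfl⟩
      rw [hbot, AddSubgroup.mem_bot] at h1
      exact Cfsg.NearField.zero_ne_one h1.symm)
    have h1 : (u : F) ∈ W := by rw [hW]; exact AddSubgroup.mem_top _
    rcases h1 with h1 | ⟨z, hz, h1⟩
    · exact nf_unit_ne u h1
    · exact huN (by rw [Units.ext h1]; exact hz)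
  have hid := T.Sid v (nf_unit_ne v) (by rw [← hvw]; exact nf_unit_ne w)
  have h1 : T.S v = ((v⁻¹ : Fˣ) : F) := congrArg Units.val (hinv v hvN)
  have h2 : (1 : F) + ((v⁻¹ : Fˣ) : F) = ((w * v⁻¹ : Fˣ) : F) := by
    rw [Units.val_mul, hvw, Cfsg.NearField.right_distrib, one_mul, Units.mul_inv, nf_add_comm]
  have h3 : T.S ((w * v⁻¹ : Fˣ) : F) = -((w⁻¹ * v : Fˣ) : F) := by
    have h4 : T.phi (w * v⁻¹) = nf_neg_one_unit F * (w⁻¹ * v) := by
      rw [map_mul, map_inv, hinv v hvN, hnon w hwN, inv_inv, mul_assoc]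
    have h5 := congrArg Units.val h4
    rw [Units.val_mul (nf_neg_one_unit F)] at h5
    exact h5.trans (nf_neg_one_mul _)
  have h4 : T.S w = -((w⁻¹ : Fˣ) : F) := by
    have h5 := congrArg Units.val (hnon w hwN)
    rw [Units.val_mul] at h5
    exact h5.trans (nf_neg_one_mul _)
  rw [← hvw, h4, h1, h2, h3, neg_neg] at hid
  have h5 := congrArg (fun t => t * (w : F)) hid
  simp only [Cfsg.NearField.right_distrib, nf_neg_mul, one_mul] at h5
  rw [← Units.val_mul, inv_mul_cancel, Units.val_one, ← Units.val_mul, hc w⁻¹ v, inv_mul_cancel_right, hvw] at h5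
  let _ac : AddCommGroup F := nfACG F
  have h6 : ((1 : F) + v) + (1 + v) = 0 := by
    calc ((1 : F) + v) + (1 + v) = 1 + ((1 + v) + v) := by abel
      _ = 0 := by rw [← h5]; exact add_neg_cancel _
  have h7 := two_torsion_free hodd h6
  exact nf_unit_ne w (hvw.trans h7)

end

section

variable {G : Type u} {Ω : Type v} [Group G] [MulAction G Ω] [Finite Ω] [Finite G]

/-- `S0730` in abstract form. -/
theorem Sharp3.iso_pgl_odd (h : Sharp3 G Ω) {i z e : Ω} (hiz : i ≠ z) (hze : z ≠ e) (hie : i ≠ e)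
    {p f : ℕ} (hp : p.Prime) (hp2 : p ≠ 2) (hfo : Odd f) (hΩ : Nat.card Ω = p ^ f + 1) :
    ∃ (F : Type) (_ : Field F) (_ : Fintype F), Fintype.card F = Nat.card Ω - 1 ∧
      Nonempty (G ≃* Matrix.ProjGenLinGroup (Fin 2) F) := by
  classical
  obtain ⟨I, T, s, hI0, hI1, hA, hB, hss, hsi, hsz, hse, hsS⟩ := h.nfs i z e hiz hze hie
  have hX : Nat.card {x : Ω // x ≠ i} = Nat.card Ω - 1 := by
    have : Fintype Ω := Fintype.ofFinite Ω
    rw [Nat.card_eq_fintype_card, Fintype.card_subtype_compl, Fintype.card_subtype_eq, Nat.card_eq_fintype_card]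
  let _I := I
  have hF : Nat.card {x : Ω // x ≠ i} = p ^ f := by rw [hX, hΩ]; rfl
  have hodd : Odd (Nat.card {x : Ω // x ≠ i}) := by rw [hF]; exact (hp.odd_of_ne_two hp2).pow
  let _ft : Fintype ({x : Ω // x ≠ i})ˣ := Fintype.ofFinite _
  let ε := cayleySign ({x : Ω // x ≠ i})ˣ
  obtain ⟨u, hu⟩ := nf_prime_unit (F := {x : Ω // x ≠ i}) hp hF
  have hpodd := hp.odd_of_ne_two hp2
  have hεu : ε u = -1 := by
    apply cayleySign_eq u
    · rw [hu]
      obtain ⟨k, hk⟩ := hpodd
      exact ⟨k, by omega⟩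
    · exact nf_prime_unit_index hp hp2 hfo hF u hu
  have hNidx : ε.ker.index = 2 := by
    rw [Subgroup.index_ker]
    have h1 : ε.range = ⊤ := by
      rw [MonoidHom.range_eq_top]
      intro y
      rcases Int.units_eq_one_or y with rfl | rfl
      · exact ⟨1, map_one _⟩
      · exact ⟨u, hεu⟩
    rw [h1, Subgroup.card_top, Nat.card_eq_fintype_card, Fintype.card_units_int]
  have hφN : ∀ w, T.phi w * w⁻¹ ∈ ε.ker := by
    intro w
    rw [MonoidHom.mem_ker, map_mul, map_inv]
    have h1 : ε (T.phi w) = ε w := cayleySign_map T.phiE w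
    rw [h1, mul_inv_cancel]
  have hcu := T.comm_of_nonsquare hp hp2 hfo hF ε.ker hNidx hφN
  have hinv := T.inv_of_comm hodd hcu ε.ker hNidx (T.inv_of_index_two ε.ker hNidx hφN)
  have hcomm : ∀ x y : {x : Ω // x ≠ i}, x * y = y * x := by
    intro x y
    by_cases hx : x = 0
    · rw [hx, nf_zero_mul, Cfsg.NearField.mul_zero]
    by_cases hy : y = 0
    · rw [hy, nf_zero_mul, Cfsg.NearField.mul_zero]
    obtain ⟨a, rfl⟩ := nf_exists_unit hx
    obtain ⟨b, rfl⟩ := nf_exists_unit hy
    exact congrArg Units.val (hcu a b)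
  refine h.iso_pgl hiz hze hie I hI0 hcomm hA hB s hss hsi T.S hsS ?_
  intro x hx
  obtain ⟨a, rfl⟩ := nf_exists_unit hx
  have h1 : T.S (a : {x : Ω // x ≠ i}) = ((a⁻¹ : ({x : Ω // x ≠ i})ˣ) : {x : Ω // x ≠ i}) := congrArg Units.val (hinv a)
  show (a : {x : Ω // x ≠ i}) * T.S a = 1
  rw [h1, Units.mul_inv]

end

end Cfsg.Agent.H34
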