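import Cfsg.Agent.H34.ClassTwo
import Cfsg.Agent.H34.Fact2
import Cfsg.Agent.Transfer.Fusion

/-!
Thompson factorization in solvable `S₄`-free groups with Sylow 2-subgroups of class at most two.
-/

set_option autoImplicit false

namespace Cfsg.Agent.H34

open Cfsg

universe u

theorem thompson_normal_aux : ∀ (n : ℕ) (G : Type u) [Group G] [Finite G] [Group.IsSolvable G], Nat.card G = n →
    ¬ Involves (Equiv.Perm (Fin 4)) G → pPrimeCore 2 G = ⊥ → ∀ S : Sylow 2 G,
    (∀ a ∈ S, ∀ b ∈ S, ∀ c ∈ S, (a * b * a⁻¹ * b⁻¹) * c = c * (a * b * a⁻¹ * b⁻¹)) →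
    (thompsonSubgroupOf 2 (S : Subgroup G)).Normal := by
  intro n
  induction n using Nat.strong_induction_on with
  | _ n ih =>
  intro G _ _ _ hn hS4 hO S hcl
  have : Fact (Nat.Prime 2) := ⟨Nat.prime_two⟩
  -- the normal-Sylow conclusion
  have hfin : ∀ T : Subgroup G, (Subgroup.normalizer (T : Set G)) = ⊤ → T.Normal := fun T hT =>
    Subgroup.normalizer_eq_top_iff.mp hT
  set Q := pCore 2 G with hQdef
  have hCQ : Subgroup.centralizer (Q : Set G) ≤ Q := centralizer_pCore_two_le hO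
  have hQS : Q ≤ (S : Subgroup G) := Cfsg.Agent.Solv.pCore_le_sylow S
  let ZS : Subgroup G := (S : Subgroup G) ⊓ Subgroup.centralizer ((S : Subgroup G) : Set G)
  have hZS : ∀ a ∈ ZS, ∀ b ∈ ZS, a * b = b * a := by
    intro a ha b hb
    exact (Subgroup.mem_centralizer_iff.mp (Subgroup.mem_inf.mp hb).2) a (Subgroup.mem_inf.mp ha).1
  let Ω : Subgroup G := omegaSq ZS hZS
  let V : Subgroup G := Subgroup.normalClosure (Ω : Set G)
  have hVn : V.Normal := Subgroup.normalClosure_normal
  let ZQ : Subgroup G := Q ⊓ Subgroup.centralizer (Q : Set G)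
  have hZQn : ZQ.Normal := inferInstance
  have hZQ : ∀ a ∈ ZQ, ∀ b ∈ ZQ, a * b = b * a := by
    intro a ha b hb
    exact (Subgroup.mem_centralizer_iff.mp (Subgroup.mem_inf.mp hb).2) a (Subgroup.mem_inf.mp ha).1
  let W : Subgroup G := omegaSq ZQ hZQ
  have hWn : W.Normal := omegaSq_normal hZQ
  have hΩW : (Ω : Set G) ⊆ W := by
    rintro z ⟨hz, hz2⟩
    have h1 : z ∈ Subgroup.centralizer (Q : Set G) := by
      rw [Subgroup.mem_centralizer_iff]
      intro q hq
      exact (Subgroup.mem_centralizer_iff.mp (Subgroup.mem_inf.mp hz).2) q (hQS hq)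
    exact ⟨Subgroup.mem_inf.mpr ⟨hCQ h1, h1⟩, hz2⟩
  have hVW : V ≤ W := Subgroup.normalClosure_le_normal hΩW
  have hVab : IsElementaryAbelian 2 V := isElementaryAbelian_mono hVW (omegaSq_elementaryAbelian hZQ)
  have hVS : V ≤ (S : Subgroup G) := fun v hv => hQS (Subgroup.mem_inf.mp (hVW hv).1).1
  have hΩS : Ω ≤ Subgroup.centralizer ((S : Subgroup G) : Set G) := fun z hz => (Subgroup.mem_inf.mp hz.1).2
  have hred := reduced_of_normalClosure S Ω V rfl hΩS
  set C : Subgroup G := Subgroup.centralizer (V : Set G) with hC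
  have hCn : C.Normal := inferInstance
  have hAC : ∀ A ∈ maxEA 2 (S : Subgroup G), A ≤ C := by
    intro A hA
    exact offender_centralizes hS4 V hVab hred A hA.2.1 (card_ineq_of_maxEA 2 S V A hVS hVab hA)
  by_cases hCtop : C = ⊤
  · -- V central
    have hVZ : V ≤ Subgroup.center G := by
      intro v hv
      rw [Subgroup.mem_center_iff]
      intro g
      have hg : g ∈ C := hCtop ▸ Subgroup.mem_top g
      exact ((Subgroup.mem_centralizer_iff.mp hg) v hv).symm
    have hSn : (S : Subgroup G).Normal := by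
      apply sylow_normal_of_central hO S hcl
      intro z hz hz2 hzz
      apply hVZ
      apply Subgroup.subset_normalClosure
      refine ⟨Subgroup.mem_inf.mpr ⟨hz, ?_⟩, hzz⟩
      rw [Subgroup.mem_centralizer_iff]
      intro s hs
      exact (hz2 s hs).symm
    apply hfin
    rw [eq_top_iff, ← Subgroup.normalizer_eq_top_iff.mpr hSn]
    exact normalizer_le_normalizer_thompson 2 (S : Subgroup G)
  · -- induction on C
    have hCS : IsPGroup 2 ((S : Subgroup G).subgroupOf C) := S.isPGroup'.comap_subtype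
    obtain ⟨T, hT⟩ : ∃ T : Sylow 2 C, (T : Subgroup C) = (S : Subgroup G).subgroupOf C :=
      ⟨Cfsg.Agent.Transfer.sylowInf S C, Cfsg.Agent.Transfer.sylowInf_coe S C⟩
    have hTmap : (T : Subgroup C).map C.subtype = (S : Subgroup G) ⊓ C := by
      rw [hT, Subgroup.subgroupOf_map_subtype]
    have hCcard : Nat.card C < n := by
      rw [← hn]
      apply lt_of_le_of_ne (Subgroup.card_le_card_group C)
      intro h
      exact hCtop (Subgroup.eq_top_of_card_eq C h)
    have hJn : (thompsonSubgroupOf 2 (T : Subgroup C)).Normal := by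
      apply ih _ hCcard C rfl
      · intro h
        exact hS4 (involves_of_subgroup C h)
      · have h1 := Cfsg.Agent.Solv.map_subtype_pPrimeCore_le 2 C
        rw [hO, le_bot_iff, Subgroup.map_eq_bot_iff_of_injective _ C.subtype_injective] at h1
        exact h1
      · intro a ha b hb c hc
        have h1 : ∀ x ∈ T, (x : G) ∈ S := by
          intro x hx
          have : x ∈ (T : Subgroup C) := hx
          rw [hT] at this
          exact this
        exact Subtype.ext (hcl a (h1 a ha) b (h1 b hb) c (h1 c hc))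
    have hJ1 : (thompsonSubgroupOf 2 (T : Subgroup C)).map C.subtype = thompsonSubgroupOf 2 (S : Subgroup G) := by
      rw [thompsonSubgroupOf_map 2 C.subtype (T : Subgroup C) (fun x _ hx => Subtype.ext hx), hTmap]
      apply thompsonSubgroupOf_eq_of_le 2 inf_le_left
      intro A hA
      exact le_inf hA.1 (hAC A hA)
    have hC1 : C ≤ Subgroup.normalizer (thompsonSubgroupOf 2 (S : Subgroup G) : Set G) := by
      rw [← hJ1]
      intro c hc
      rw [Subgroup.mem_normalizer_iff]
      intro x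
      constructor
      · rintro ⟨y, hy, rfl⟩
        exact ⟨⟨c, hc⟩ * y * ⟨c, hc⟩⁻¹, hJn.conj_mem y hy _, rfl⟩
      · rintro ⟨y, hy, hyx⟩
        refine ⟨⟨c, hc⟩⁻¹ * y * ⟨c, hc⟩⁻¹⁻¹, hJn.conj_mem y hy _, ?_⟩
        show c⁻¹ * (y : G) * c⁻¹⁻¹ = x
        have : (y : G) = c * x * c⁻¹ := hyx
        rw [this]; group
    have hC2 : Subgroup.normalizer (((S : Subgroup G) ⊓ C : Subgroup G) : Set G) ≤
        Subgroup.normalizer (thompsonSubgroupOf 2 (S : Subgroup G) : Set G) := by
      have h1 := normalizer_le_normalizer_thompson 2 ((S : Subgroup G) ⊓ C)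
      rwa [thompsonSubgroupOf_eq_of_le 2 inf_le_left (fun A hA => le_inf hA.1 (hAC A hA))] at h1
    have hF := Sylow.normalizer_sup_eq_top T
    rw [hTmap] at hF
    apply hfin
    rw [eq_top_iff, ← hF]
    exact sup_le hC2 hC1

theorem class_two_comm {G : Type u} [Group G] (S : Subgroup G)
    (hcl : Subgroup.lowerCentralSeries S 2 = ⊥) :
    ∀ a ∈ S, ∀ b ∈ S, ∀ c ∈ S, (a * b * a⁻¹ * b⁻¹) * c = c * (a * b * a⁻¹ * b⁻¹) := by
  intro a ha b hb c hc
  have h0 : a * b * a⁻¹ * b⁻¹ ∈ ⁅S, S⁆ := Subgroup.commutator_mem_commutator ha hb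
  have h1 : (a * b * a⁻¹ * b⁻¹) * c * (a * b * a⁻¹ * b⁻¹)⁻¹ * c⁻¹ ∈ Subgroup.lowerCentralSeries S 2 := by
    rw [Subgroup.lowerCentralSeries_succ, Subgroup.lowerCentralSeries_succ, Subgroup.lowerCentralSeries_zero]
    exact Subgroup.commutator_mem_commutator h0 hc
  rw [hcl, Subgroup.mem_bot] at h1
  exact mul_inv_eq_iff_eq_mul.mp (mul_inv_eq_one.mp h1)

theorem thompson_factorization {G : Type u} [Group G] [Finite G] [Group.IsSolvable G]
    (hS4 : ¬ Cfsg.Involves (Equiv.Perm (Fin 4)) G) (S : Sylow 2 G)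
    (hcl : Subgroup.lowerCentralSeries (S : Subgroup G) 2 = ⊥) :
    Subgroup.normalizer ((Cfsg.thompsonSubgroupOf 2 (S : Subgroup G)) : Set G) ⊔ Cfsg.pPrimeCore 2 G = ⊤ := by
  have : Fact (Nat.Prime 2) := ⟨Nat.prime_two⟩
  set O := Cfsg.pPrimeCore 2 G with hO
  have hOn : O.Normal := inferInstance
  let π := QuotientGroup.mk' O
  have hπ : Function.Surjective π := QuotientGroup.mk'_surjective O
  let S' : Sylow 2 (G ⧸ O) := S.mapSurjective hπ
  have hS' : (S' : Subgroup (G ⧸ O)) = (S : Subgroup G).map π := rfl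
  have hcl' : Subgroup.lowerCentralSeries (S' : Subgroup (G ⧸ O)) 2 = ⊥ := by
    rw [hS', ← Subgroup.map_lowerCentralSeries, hcl, Subgroup.map_bot]
  have hOc : (Nat.card O).Coprime 2 := Cfsg.Agent.Solv.pPrimeCore_card_coprime 2
  have hSO : ∀ x ∈ (S : Subgroup G), π x = 1 → x = 1 := by
    intro x hx hx1
    have h1 : x ∈ O := (QuotientGroup.eq_one_iff x).mp hx1
    have h2 : orderOf x ∣ Nat.card O := Subgroup.orderOf_dvd_natCard _ h1
    obtain ⟨k, hk⟩ := S.isPGroup' ⟨x, hx⟩
    have h3 : orderOf x ∣ 2 ^ k := orderOf_dvd_of_pow_eq_one (congrArg Subtype.val hk)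
    have h4 : Nat.Coprime (Nat.card O) (2 ^ k) := Nat.Coprime.pow_right _ hOc
    have h5 := Nat.dvd_gcd h2 h3
    rw [h4] at h5
    exact orderOf_eq_one_iff.mp (Nat.dvd_one.mp h5)
  have hJ' := thompson_normal_aux _ (G ⧸ O) rfl (fun h => hS4 (involves_of_quotient O h))
    (Cfsg.Agent.Solv.pPrimeCore_quotient_pPrimeCore 2) S' (class_two_comm _ hcl')
  rw [hS', ← thompsonSubgroupOf_map 2 π (S : Subgroup G) hSO] at hJ'
  set J := Cfsg.thompsonSubgroupOf 2 (S : Subgroup G) with hJ
  let K : Subgroup G := (J.map π).comap π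
  have hKn : K.Normal := inferInstance
  have hJK : J ≤ K := Subgroup.le_comap_map π J
  have hK : K = J ⊔ O := by
    show (J.map π).comap π = J ⊔ O
    rw [Subgroup.comap_map_eq, QuotientGroup.ker_mk']
  have hJp : IsPGroup 2 (J.subgroupOf K) := by
    apply IsPGroup.comap_subtype
    exact S.isPGroup'.to_le (thompsonSubgroupOf_le 2 (S : Subgroup G))
  have hidx : ¬ 2 ∣ (J.subgroupOf K).index := by
    have h1 : (J.subgroupOf K).index = J.relIndex K := rfl
    rw [h1, hK, sup_comm, sup_comm, ← Cfsg.Agent.Transfer.relIndex_eq_relIndex_sup]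
    intro h2
    have h3 : J.relIndex O ∣ Nat.card O := Subgroup.relIndex_dvd_card J O
    have h4 := Nat.dvd_gcd (h2.trans h3) (dvd_refl 2)
    rw [hOc] at h4
    omega
  have hF := Sylow.normalizer_sup_eq_top (hJp.toSylow hidx)
  rw [IsPGroup.toSylow_coe, Subgroup.subgroupOf_map_subtype, inf_eq_left.mpr hJK] at hF
  rw [eq_top_iff, ← hF, hK]
  exact sup_le le_sup_left (sup_le (Subgroup.le_normalizer.trans le_sup_left) le_sup_right)

end Cfsg.Agent.H34
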